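import Groth.Agent.H23Geom.SecSupp
import Groth.Agent.H16Derived.AcyclicLES
import Groth.Agent.S5176

/-! Depth along a closed subset through `Ext` groups. -/

set_option autoImplicit false

universe u

open CategoryTheory CategoryTheory.Limits AlgebraicGeometry Opposite Abelian

namespace Groth.Agent.H23Geom.DepthExt

set_option backward.isDefEq.respectTransparency false
set_option backward.isDefEq.respectTransparency.types false

open H18Et

variable {X U : Scheme.{u}} (j : U ⟶ X) [IsOpenImmersion j] [EtCoh.BCCont j]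

/-- The part of an object of the site over the open. -/
noncomputable abbrev cou (W : X.Etale) : (EtaleRestrict.emap j).obj ((EtCoh.bc j).obj W) ⟶ W :=
  (EtaleRestrict.emapAdj j).counit.app W

theorem cou_left (W : X.Etale) : (cou j W).left = pullback.fst W.hom j := by
  simp [cou, EtaleRestrict.emapAdj, MorphismProperty.Over.mapPullbackAdj]

/-- Sections are detected on the open. -/
def Sep (F : EtCoh.Ab X) : Prop := ∀ W : X.Etale, Function.Injective (F.obj.map (cou j W).op)

theorem sep_iff (F : EtCoh.Ab X) : Sep j F ↔ Mono (EtDual.unitApp j F) := by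
  have hu : ∀ W : X.Etale, ∀ x, ((EtCoh.push j).map ((EtaleRestrict.pullIso j).hom.app F)).hom.app (op W)
      ((EtDual.unitApp j F).hom.app (op W) x) = F.obj.map (cou j W).op x := fun W x => by
    have h := congrArg (fun k => k.hom.app (op W))
      (Adjunction.unit_leftAdjointUniq_hom_app (EtCoh.pullPushAdj j) (EtaleRestrict.resPushAdj j) F)
    have h2 : ((EtaleRestrict.resPushAdj j).unit.app F).hom.app (op W) = F.obj.map (cou j W).op := by
      simp [EtaleRestrict.resPushAdj]
    exact (ConcreteCategory.congr_hom h x).trans (ConcreteCategory.congr_hom h2 x)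
  let e := (EtCoh.push j).mapIso ((EtaleRestrict.pullIso j).app F)
  have he : ∀ W : X.Etale, Function.Injective (e.hom.hom.app (op W)) := fun W =>
    Function.LeftInverse.injective (g := e.inv.hom.app (op W)) fun z => by
      rw [← ConcreteCategory.comp_apply, ← NatTrans.comp_app, ← ObjectProperty.FullSubcategory.comp_hom,
        e.hom_inv_id]
      rfl
  constructor
  · intro h
    haveI : ∀ W, Mono ((EtDual.unitApp j F).hom.app W) := fun W =>
      (AddCommGrpCat.mono_iff_injective _).2 fun a b hab => h W.unop ((hu W.unop a).symm.trans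
        ((congrArg (e.hom.hom.app (op W.unop)) hab).trans (hu W.unop b)))
    haveI : Mono (EtDual.unitApp j F).hom := NatTrans.mono_of_mono_app _
    exact (sheafToPresheaf _ _).mono_of_mono_map (f := EtDual.unitApp j F) (by assumption)
  · intro h W a b hab
    haveI := h
    haveI : Mono ((sheafToPresheaf _ _).map (EtDual.unitApp j F)) := inferInstance
    haveI : Mono ((EtDual.unitApp j F).hom.app (op W)) :=
      inferInstanceAs (Mono (((sheafToPresheaf _ _).map (EtDual.unitApp j F)).app (op W)))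
    exact (AddCommGrpCat.mono_iff_injective ((EtDual.unitApp j F).hom.app (op W))).1 inferInstance
      (he W ((hu W a).trans (hab.trans (hu W b).symm)))

theorem map_injective_of_factor {F : EtCoh.Ab X} {W V V' : X.Etale} (i : V ⟶ W) (i' : V' ⟶ W)
    (b : V' ⟶ V) (hb : b ≫ i = i') (h : Function.Injective (F.obj.map i'.op)) :
    Function.Injective (F.obj.map i.op) := fun x y hxy => h (by
  rw [← hb, op_comp, Functor.map_comp, ConcreteCategory.comp_apply, ConcreteCategory.comp_apply, hxy])

section Local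

variable {X' : Scheme.{u}} (g : X' ⟶ X) [Etale g]

/-- The canonical morphism from the free sheaf of the open to the constant sheaf. -/
noncomputable abbrev rho : FreeSheaf.obj (pullback.snd j g) ⟶ EtCoh.top X' :=
  (EtCore.topIsTerminal X').from _

/-- The quotient representing sections with support. -/
noncomputable abbrev Q : EtCoh.Ab X' := cokernel (FreeSheaf.aug (pullback.snd j g) (rho j g))

theorem inj_res_iff (F : EtCoh.Ab X) :
    Function.Injective (((EtCoh.pull g).obj F).obj.map (rho j g).op) ↔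
      Function.Injective (F.obj.map (cou j (FreeSheaf.obj g)).op) := by
  have hnat := ((EtaleRestrict.pullIso g).hom.app F).hom.naturality (rho j g).op
  have hb : ∀ V : X'.Etale, Function.Bijective (((EtaleRestrict.pullIso g).hom.app F).hom.app (op V)) :=
    fun V => ConcreteCategory.bijective_of_isIso
      (((sheafToPresheaf _ _).mapIso ((EtaleRestrict.pullIso g).app F)).app (op V)).hom
  have h1 : Function.Injective (((EtCoh.pull g).obj F).obj.map (rho j g).op) ↔
      Function.Injective (F.obj.map ((EtaleRestrict.emap g).map (rho j g)).op) := by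
    have key : ∀ x, ((EtaleRestrict.pullIso g).hom.app F).hom.app _ (((EtCoh.pull g).obj F).obj.map (rho j g).op x) =
        F.obj.map ((EtaleRestrict.emap g).map (rho j g)).op (((EtaleRestrict.pullIso g).hom.app F).hom.app _ x) :=
      fun x => ConcreteCategory.congr_hom hnat x
    constructor
    · intro h a b hab
      obtain ⟨a, rfl⟩ := (hb (EtCoh.top X')).2 a
      obtain ⟨b, rfl⟩ := (hb (EtCoh.top X')).2 b
      rw [h ((hb _).1 ((key a).trans (hab.trans (key b).symm)))]
    · intro h a b hab
      exact (hb _).1 (h ((key a).symm.trans ((congrArg _ hab).trans (key b))))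
  rw [h1]
  let i := (EtaleRestrict.emap g).map (rho j g)
  let i' := cou j (FreeSheaf.obj g)
  have hi : i.left = 𝟙 _ ≫ pullback.snd j g := by
    exact (Category.comp_id _).symm.trans (MorphismProperty.Over.w (rho j g))
  have hobj : (FreeSheaf.obj g).hom = 𝟙 X' ≫ g := rfl
  let a : (EtaleRestrict.emap g).obj (FreeSheaf.obj (pullback.snd j g)) ⟶
      (EtaleRestrict.emap j).obj ((EtCoh.bc j).obj (FreeSheaf.obj g)) :=
    MorphismProperty.Over.homMk (pullback.lift (pullback.snd j g) (pullback.fst j g)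
      ((congrArg (pullback.snd j g ≫ ·) (Category.id_comp g)).trans pullback.condition.symm))
      (by
        show pullback.lift _ _ _ ≫ pullback.snd (FreeSheaf.obj g).hom j ≫ j = (𝟙 _ ≫ 𝟙 _ ≫ pullback.snd j g) ≫ g
        erw [pullback.lift_snd_assoc]
        simp [pullback.condition])
  let b : (EtaleRestrict.emap j).obj ((EtCoh.bc j).obj (FreeSheaf.obj g)) ⟶
      (EtaleRestrict.emap g).obj (FreeSheaf.obj (pullback.snd j g)) :=
    MorphismProperty.Over.homMk (pullback.lift (pullback.snd (FreeSheaf.obj g).hom j)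
      (pullback.fst (FreeSheaf.obj g).hom j)
      (pullback.condition.symm.trans (congrArg (pullback.fst (FreeSheaf.obj g).hom j ≫ ·) (Category.id_comp g))))
      (by
        show pullback.lift _ _ _ ≫ (𝟙 _ ≫ 𝟙 _ ≫ pullback.snd j g) ≫ g = pullback.snd (FreeSheaf.obj g).hom j ≫ j
        rw [Category.id_comp, Category.id_comp]
        erw [pullback.lift_snd_assoc]
        exact (congrArg (pullback.fst (FreeSheaf.obj g).hom j ≫ ·) (Category.id_comp g)).symm.trans pullback.condition)
  have ha : a ≫ i' = i := MorphismProperty.Over.Hom.ext (by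
    show pullback.lift _ _ _ ≫ (cou j _).left = i.left
    rw [cou_left, pullback.lift_fst, hi, Category.id_comp])
  have hb' : b ≫ i = i' := MorphismProperty.Over.Hom.ext (by
    show pullback.lift _ _ _ ≫ i.left = (cou j _).left
    rw [cou_left, hi, Category.id_comp, pullback.lift_snd])
  exact ⟨map_injective_of_factor i' i a ha, map_injective_of_factor i i' b hb'⟩

theorem subsingleton_hom_Q_iff (F : EtCoh.Ab X) :
    Subsingleton (Ext (Q j g) ((EtCoh.pull g).obj F) 0) ↔
      Function.Injective (F.obj.map (cou j (FreeSheaf.obj g)).op) := by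
  rw [← inj_res_iff j g F]
  let G := (EtCoh.pull g).obj F
  let t := Sheaf.H.equiv₀ G (EtCore.topIsTerminal X')
  have key : ∀ φ : EtCoh.const X' ℤ ⟶ G,
      FreeSheaf.aug (pullback.snd j g) (rho j g) ≫ φ = 0 ↔ G.obj.map (rho j g).op (t (Ext.mk₀ φ)) = 0 := by
    intro φ
    rw [← FreeSheaf.homEquiv_aug_comp]
    constructor
    · intro h
      rw [h, show (0 : (FreeSheaf.free X').obj (FreeSheaf.obj (pullback.snd j g)) ⟶ G) = 0 ≫ (0 : G ⟶ G) by simp,
        FreeSheaf.homEquiv_comp]
      rfl
    · intro h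
      apply (FreeSheaf.homEquiv _ G).injective
      rw [h, show (0 : (FreeSheaf.free X').obj (FreeSheaf.obj (pullback.snd j g)) ⟶ G) = 0 ≫ (0 : G ⟶ G) by simp,
        FreeSheaf.homEquiv_comp]
      rfl
  constructor
  · intro h
    rw [injective_iff_map_eq_zero]
    intro x hx
    obtain ⟨φ, hφ⟩ := (Ext.mk₀_bijective _ _).2 (t.symm x)
    have h1 : FreeSheaf.aug (pullback.snd j g) (rho j g) ≫ φ = 0 := by
      rw [key, hφ, AddEquiv.apply_symm_apply, hx]
    have h2 : cokernel.desc _ φ h1 = 0 := (Ext.mk₀_bijective _ _).1 (h.elim _ _)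
    have h3 : φ = 0 := by rw [← cokernel.π_desc _ φ h1, h2, comp_zero]
    rw [h3, Ext.mk₀_zero] at hφ
    exact t.symm.injective (hφ.symm.trans (map_zero _).symm)
  · intro h
    refine subsingleton_of_forall_eq 0 fun y => ?_
    obtain ⟨ψ, rfl⟩ := (Ext.mk₀_bijective _ _).2 y
    have h1 := (key (cokernel.π _ ≫ ψ)).1 (by rw [cokernel.condition_assoc, zero_comp])
    have h2 : t (Ext.mk₀ (cokernel.π (FreeSheaf.aug (pullback.snd j g) (rho j g)) ≫ ψ)) = 0 :=
      h (h1.trans (map_zero _).symm)
    have h3 : cokernel.π (FreeSheaf.aug (pullback.snd j g) (rho j g)) ≫ ψ = 0 :=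
      (Ext.mk₀_bijective _ _).1 (t.injective (h2.trans (by rw [Ext.mk₀_zero, map_zero])))
    have h4 : ψ = 0 := Cofork.IsColimit.hom_ext (cokernelIsCokernel _) (h3.trans comp_zero.symm)
    rw [h4, Ext.mk₀_zero]

theorem mono_aug {Y V : Scheme.{u}} (k : V ⟶ Y) [IsOpenImmersion k] (ρ : FreeSheaf.obj k ⟶ EtCoh.top Y) :
    Mono (FreeSheaf.aug k ρ) := by
  let ω : (FreeSheaf.free Y).obj (EtCoh.top Y) ⟶ EtCoh.const Y ℤ :=
    (FreeSheaf.homEquiv _ _).symm (Sheaf.H.equiv₀ _ (EtCore.topIsTerminal Y) (Ext.mk₀ (𝟙 _)))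
  have hω : ∀ (F : EtCoh.Ab Y) (φ : EtCoh.const Y ℤ ⟶ F),
      FreeSheaf.homEquiv _ F (ω ≫ φ) = Sheaf.H.equiv₀ F (EtCore.topIsTerminal Y) (Ext.mk₀ φ) := fun F φ => by
    rw [FreeSheaf.homEquiv_comp, Equiv.apply_symm_apply]
    have h1 := Sheaf.H.equiv₀_naturality (EtCore.topIsTerminal Y) φ (Ext.mk₀ (𝟙 (EtCoh.const Y ℤ)))
    rw [show Sheaf.H.map φ 0 (Ext.mk₀ (𝟙 (EtCoh.const Y ℤ))) = Ext.mk₀ φ by
      rw [Sheaf.H.map_apply, Ext.mk₀_comp_mk₀, Category.id_comp]] at h1
    exact h1
  haveI : IsIso ω := (isIso_iff_coyoneda_map_bijective ω).2 fun F => by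
    show Function.Bijective fun φ : EtCoh.const Y ℤ ⟶ F => ω ≫ φ
    refine (Function.Bijective.of_comp_iff' (FreeSheaf.homEquiv _ F).bijective _).1 ?_
    rw [show (FreeSheaf.homEquiv _ F) ∘ (fun φ => ω ≫ φ) = fun φ => Sheaf.H.equiv₀ F (EtCore.topIsTerminal Y) (Ext.mk₀ φ)
      from funext (hω F)]
    exact (Sheaf.H.equiv₀ F (EtCore.topIsTerminal Y)).bijective.comp (Ext.mk₀_bijective _ _)
  haveI : Mono ρ := by
    haveI : Mono ρ.left := by
      have h : ρ.left = k :=
        (Category.comp_id _).symm.trans ((MorphismProperty.Over.w ρ).trans (Category.id_comp k))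
      exact ⟨fun a b e => (cancel_mono k).1 (by simpa only [h] using e)⟩
    exact ⟨fun a b h => MorphismProperty.Over.Hom.ext ((cancel_mono ρ.left).1 (congrArg (fun t => t.left) h))⟩
  haveI := FreeSheaf.mono_map ρ
  have heq : FreeSheaf.aug k ρ = (FreeSheaf.free Y).map ρ ≫ ω := by
    apply (FreeSheaf.homEquiv _ _).injective
    rw [FreeSheaf.homEquiv_map]
    exact (Equiv.apply_symm_apply _ _).trans (congrArg _ (Equiv.apply_symm_apply _ _).symm)
  rw [heq]
  infer_instance

end Local

theorem sep_iff_ext_zero (F : EtCoh.Ab X) :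
    Sep j F ↔ ∀ (X' : Scheme.{u}) (g : X' ⟶ X) [Etale g], Subsingleton (Ext (Q j g) ((EtCoh.pull g).obj F) 0) := by
  refine ⟨fun h X' g _ => (subsingleton_hom_Q_iff j g F).2 (h _), fun h W => ?_⟩
  haveI : Etale W.hom := W.prop
  have h1 := (subsingleton_hom_Q_iff j W.hom F).1 (h W.left W.hom)
  let e := Flasque.objIso W
  let c : (EtaleRestrict.emap j).obj ((EtCoh.bc j).obj (FreeSheaf.obj W.hom)) ⟶
      (EtaleRestrict.emap j).obj ((EtCoh.bc j).obj W) :=
    (EtaleRestrict.emap j).map ((EtCoh.bc j).map e.hom)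
  have hc : c ≫ cou j W = cou j _ ≫ e.hom := (EtaleRestrict.emapAdj j).counit.naturality e.hom
  refine map_injective_of_factor (cou j W) (cou j _ ≫ e.hom) c hc ?_
  rw [op_comp, Functor.map_comp]
  refine h1.comp ?_
  exact (ConcreteCategory.bijective_of_isIso (F.obj.map e.hom.op)).1

/-- Depth is vanishing of the `Ext` groups from the quotients. -/
theorem depthGE_iff (n : ℕ) : ∀ F : EtCoh.Ab X, EtDepth.DepthGE j F n ↔
    ∀ (X' : Scheme.{u}) (g : X' ⟶ X) [Etale g], ∀ q < n, Subsingleton (Ext (Q j g) ((EtCoh.pull g).obj F) q) := by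
  haveI := S5176.preservesFiniteLimits_secSupp j
  haveI := pull_preservesFiniteLimits j
  induction n with
  | zero => exact fun F => ⟨fun _ _ _ _ q hq => absurd hq q.not_lt_zero, fun _ q hq => absurd hq q.not_lt_zero⟩
  | succ n ih =>
    intro F
    by_cases hsep : Sep j F
    swap
    · refine iff_of_false (fun h => hsep ((sep_iff j F).2 ((S5176.isZero_secSupp_iff j F).1 ((h 0 n.succ_pos).of_iso
        ((EtDual.secSupp j).rightDerivedZeroIsoSelf.app F).symm)))) fun h => hsep ((sep_iff_ext_zero j F).2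
        fun X' g _ => h X' g 0 n.succ_pos)
    haveI hm := (sep_iff j F).1 hsep
    let J := Injective.under ((EtCoh.pull j).obj F)
    let I := (EtCoh.push j).obj J
    haveI : Injective I := Injective.injective_of_adjoint (EtCoh.pullPushAdj j) J
    haveI : PreservesFiniteLimits (EtCoh.push j) :=
      (EtCoh.pullPushAdj j).rightAdjoint_preservesLimits.preservesFiniteLimits
    let i : F ⟶ I := EtDual.unitApp j F ≫ (EtCoh.push j).map (Injective.ι _)
    haveI : Mono i := mono_comp _ _
    let S := ShortComplex.mk i (cokernel.π i) (cokernel.condition i)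
    have hS : S.ShortExact :=
      { exact := ShortComplex.exact_of_g_is_cokernel _ (cokernelIsCokernel i) }
    have hIm : Mono (EtDual.unitApp j I) :=
      mono_of_mono_fac ((EtCoh.pullPushAdj j).right_triangle_components J)
    have hIj : ∀ q, IsZero ((EtDual.locCoh j q).obj I) := by
      intro q
      rcases q with _ | q
      · exact ((S5176.isZero_secSupp_iff j I).2 hIm).of_iso ((EtDual.secSupp j).rightDerivedZeroIsoSelf.app I)
      · exact (EtDual.secSupp j).isZero_rightDerived_obj_injective_succ q I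
    have hIe : ∀ (X' : Scheme.{u}) (g : X' ⟶ X) [Etale g] (q : ℕ),
        Subsingleton (Ext (Q j g) ((EtCoh.pull g).obj I) q) := by
      intro X' g _ q
      rcases q with _ | q
      · exact (sep_iff_ext_zero j I).1 ((sep_iff j I).2 hIm) X' g
      · haveI := EtaleRestrict.injective_pull g I
        exact subsingleton_of_forall_eq 0 fun x => Ext.eq_zero_of_injective x
    have hSg : ∀ (X' : Scheme.{u}) (g : X' ⟶ X) [Etale g], (S.map (EtCoh.pull g)).ShortExact := by
      intro X' g _
      haveI := pull_preservesFiniteLimits g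
      haveI : PreservesFiniteColimits (EtCoh.pull g) :=
        by
        haveI : PreservesColimitsOfSize.{0, 0} (EtCoh.pull g) := (EtCoh.pullPushAdj g).leftAdjoint_preservesColimits
        exact PreservesColimitsOfSize.preservesFiniteColimits.{0, 0} _
      exact hS.map_of_exact _
    constructor
    · intro h X' g _ q hq
      rcases q with _ | q
      · exact (sep_iff_ext_zero j F).1 hsep X' g
      have hG : EtDepth.DepthGE j S.X₃ n := fun p hp => by
        obtain ⟨T, hT, e₁, e₂, e₃, -⟩ := H16Derived.AcyclicLES.exists_les (EtDual.secSupp j) S hS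
        exact ((hT.homology_exact₃ (p : ℤ) ((p + 1 : ℕ) : ℤ) (by simp)).isZero_X₂
          (((hIj p : IsZero ((EtDual.locCoh j p).obj S.X₂)).of_iso (e₂ p).some.symm).eq_of_src _ _)
          (((h (p + 1) (by omega) : IsZero ((EtDual.locCoh j (p + 1)).obj S.X₁)).of_iso
            (e₁ (p + 1)).some.symm).eq_of_tgt _ _)).of_iso (e₃ p).some
      refine subsingleton_of_forall_eq 0 fun x => ?_
      obtain ⟨y, rfl⟩ := Ext.covariant_sequence_exact₁ _ (hSg X' g) x ((hIe X' g (q + 1)).elim _ _) (n₀ := q) rfl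
      rw [((ih S.X₃).1 hG X' g q (by omega)).elim y 0, Ext.zero_comp]
    · intro h p hp
      rcases p with _ | p
      · exact ((S5176.isZero_secSupp_iff j F).2 hm).of_iso ((EtDual.secSupp j).rightDerivedZeroIsoSelf.app F)
      have hG : EtDepth.DepthGE j S.X₃ n := (ih S.X₃).2 fun X' g _ q hq => by
        refine subsingleton_of_forall_eq 0 fun x => ?_
        obtain ⟨y, rfl⟩ := Ext.covariant_sequence_exact₃ _ (hSg X' g) x rfl
          ((h X' g (q + 1) (by omega)).elim _ _)
        rw [(hIe X' g q).elim y 0, Ext.zero_comp]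
      obtain ⟨T, hT, e₁, e₂, e₃, -⟩ := H16Derived.AcyclicLES.exists_les (EtDual.secSupp j) S hS
      exact ((hT.homology_exact₁ (p : ℤ) ((p + 1 : ℕ) : ℤ) (by simp)).isZero_X₂
        (((hG p (by omega) : IsZero ((EtDual.locCoh j p).obj S.X₃)).of_iso (e₃ p).some.symm).eq_of_src _ _)
        (((hIj (p + 1) : IsZero ((EtDual.locCoh j (p + 1)).obj S.X₂)).of_iso
          (e₂ (p + 1)).some.symm).eq_of_tgt _ _)).of_iso (e₁ (p + 1)).some

omit [IsOpenImmersion j] [EtCoh.BCCont j] in
theorem subsingleton_ext_coker_iff {A : Type (u + 2)} [Category.{u + 1} A] [Abelian A] [HasExt.{u + 1} A]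
    {P R : A} (f : P ⟶ R) [Mono f] (G : A) (n : ℕ) :
    (∀ q < n, Subsingleton (Ext (cokernel f) G q)) ↔
      (∀ q, q + 1 < n → Function.Bijective fun x : Ext R G q => (Ext.mk₀ f).comp x (zero_add q)) ∧
      ∀ q, q + 1 = n → Function.Injective fun x : Ext R G q => (Ext.mk₀ f).comp x (zero_add q) := by
  let S := ShortComplex.mk f (cokernel.π f) (cokernel.condition f)
  have hS : S.ShortExact := { exact := ShortComplex.exact_of_g_is_cokernel _ (cokernelIsCokernel f) }
  have hinj : ∀ q, Subsingleton (Ext (cokernel f) G q) →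
      Function.Injective fun x : Ext R G q => (Ext.mk₀ f).comp x (zero_add q) := by
    intro q hq a b hab
    obtain ⟨z, hz⟩ := Ext.contravariant_sequence_exact₂ hS G (a - b) (by
      rw [sub_eq_add_neg, Ext.comp_add, Ext.comp_neg, ← sub_eq_add_neg]; exact sub_eq_zero.2 hab)
    rw [hq.elim z 0, Ext.comp_zero] at hz
    exact sub_eq_zero.1 hz.symm
  have hsurj : ∀ q, Subsingleton (Ext (cokernel f) G (q + 1)) →
      Function.Surjective fun x : Ext R G q => (Ext.mk₀ f).comp x (zero_add q) := by
    intro q hq y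
    obtain ⟨x, hx⟩ := Ext.contravariant_sequence_exact₁ hS G y (add_comm 1 q) (hq.elim _ _)
    exact ⟨x, hx⟩
  refine ⟨fun h => ⟨fun q hq => ⟨hinj q (h q (by omega)), hsurj q (h (q + 1) hq)⟩,
    fun q hq => hinj q (h q (by omega))⟩, fun ⟨hb, hi⟩ q hq => subsingleton_of_forall_eq 0 fun x => ?_⟩
  have hi' : Function.Injective fun x : Ext R G q => (Ext.mk₀ f).comp x (zero_add q) := by
    rcases (Nat.lt_or_ge (q + 1) n) with hlt | hge
    · exact (hb q hlt).1
    · exact hi q (by omega)
  have h0 : (Ext.mk₀ S.g).comp x (zero_add q) = 0 := hi' (by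
    show (Ext.mk₀ S.f).comp ((Ext.mk₀ S.g).comp x (zero_add q)) (zero_add q) = (Ext.mk₀ S.f).comp 0 (zero_add q)
    rw [Ext.mk₀_comp_mk₀_assoc, S.zero, Ext.mk₀_zero, Ext.zero_comp, Ext.comp_zero])
  rcases q with _ | q
  · obtain ⟨ψ, rfl⟩ := (Ext.mk₀_bijective _ _).2 x
    rw [Ext.mk₀_comp_mk₀] at h0
    have h1 : cokernel.π f ≫ ψ = 0 := (Ext.mk₀_bijective _ _).1 (h0.trans (Ext.mk₀_zero (X := _) (Y := _)).symm)
    rw [Cofork.IsColimit.hom_ext (cokernelIsCokernel f) (h1.trans comp_zero.symm), Ext.mk₀_zero]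
  · obtain ⟨y, rfl⟩ := Ext.contravariant_sequence_exact₃ hS G x h0 (add_comm 1 q)
    obtain ⟨z, rfl⟩ := (hb q hq).2 y
    rw [hS.extClass_comp_assoc]

end Groth.Agent.H23Geom.DepthExt
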