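import Groth.Agent.H23Geom.DepthExt
import Groth.Agent.H18Et.LC.Wrap
import Groth.Agent.H18Et.ConstHom
import Mathlib.GroupTheory.PGroup
import Mathlib.GroupTheory.SpecificGroups.Cyclic

/-! Depth along a closed subset is etale local; constant finite sheaves. -/

set_option autoImplicit false

universe u

open CategoryTheory CategoryTheory.Limits AlgebraicGeometry Opposite

namespace Groth.Agent.H23Geom.DepthLocal

set_option backward.isDefEq.respectTransparency false
set_option backward.isDefEq.respectTransparency.types false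

open H18Et DepthExt

variable {X U : Scheme.{u}} (j : U ⟶ X) [IsOpenImmersion j]

section Pull

variable {X' : Scheme.{u}} (g : X' ⟶ X) [Etale g]

theorem bijective_pullIso (F : EtCoh.Ab X) (V : X'.Etale) :
    Function.Bijective (((EtaleRestrict.pullIso g).hom.app F).hom.app (op V)) :=
  ConcreteCategory.bijective_of_isIso
    (((sheafToPresheaf _ _).mapIso ((EtaleRestrict.pullIso g).app F)).app (op V)).hom

theorem sep_pull {F : EtCoh.Ab X} (h : Sep j F) : Sep (pullback.snd j g) ((EtCoh.pull g).obj F) := by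
  intro W
  let k := pullback.snd j g
  let i := (EtaleRestrict.emap g).map (cou k W)
  let i' := cou j ((EtaleRestrict.emap g).obj W)
  have hinj : Function.Injective (F.obj.map i.op) := by
    let a : (EtaleRestrict.emap j).obj ((EtCoh.bc j).obj ((EtaleRestrict.emap g).obj W)) ⟶
        (EtaleRestrict.emap g).obj ((EtaleRestrict.emap k).obj ((EtCoh.bc k).obj W)) :=
      MorphismProperty.Over.homMk
        (pullback.lift (pullback.fst (W.hom ≫ g) j)
          (pullback.lift (pullback.snd (W.hom ≫ g) j) (pullback.fst (W.hom ≫ g) j ≫ W.hom)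
            ((pullback.condition (f := W.hom ≫ g) (g := j)).symm.trans (Category.assoc _ _ _).symm))
          (pullback.lift_snd _ _ _).symm)
        (by
          show pullback.lift _ _ _ ≫ (pullback.snd W.hom k ≫ k) ≫ g = pullback.snd (W.hom ≫ g) j ≫ j
          exact (congrArg (fun t => _ ≫ t) (Category.assoc (pullback.snd W.hom k) k g)).trans
            ((pullback.lift_snd_assoc _ _ _ (k ≫ g)).trans ((pullback.lift_snd_assoc _ _ _ g).trans
              ((Category.assoc _ _ _).trans pullback.condition))))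
    have ha : a ≫ i = i' := MorphismProperty.Over.Hom.ext
      (((congrArg (a.left ≫ ·) (cou_left k W))).trans
        ((pullback.lift_fst _ _ _).trans (cou_left j ((EtaleRestrict.emap g).obj W)).symm))
    exact map_injective_of_factor i i' a ha (h _)
  have hnat := ((EtaleRestrict.pullIso g).hom.app F).hom.naturality (cou k W).op
  intro x y hxy
  refine (bijective_pullIso g F _).1 (hinj ?_)
  exact ((ConcreteCategory.congr_hom hnat x).symm.trans ((congrArg (fun z => ((EtaleRestrict.pullIso g).hom.app F).hom.app _ z) hxy).trans (ConcreteCategory.congr_hom hnat y)))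

end Pull

theorem sep_of_covers (F : EtCoh.Ab X) {ι : Type u} (V : ι → X.Etale) (hV : EtCoh.Covers V)
    (h : ∀ i, haveI : Etale (V i).hom := (V i).prop
      Sep (pullback.snd j (V i).hom) ((EtCoh.pull (V i).hom).obj F)) : Sep j F := by
  intro W
  rw [injective_iff_map_eq_zero]
  intro s hs
  refine sect_ext s 0 fun Ω _ _ ξ x => ?_
  let R : Sieve W :=
    { arrows := fun {Z} r => F.obj.map r.op s = 0
      downward_closed := fun {Y Z r} hr q => by
        rw [op_comp, Functor.map_comp, ConcreteCategory.comp_apply, hr, map_zero] }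
  suffices hR : R ∈ X.smallEtaleTopology W by
    obtain ⟨Z, r, y, hr, hy⟩ := LC.exists_of_covering hR x
    rw [← hy, ← ConstSheaf.germ_map, ← ConstSheaf.germ_map]
    exact (congrArg (germ ξ F Z y) hr).trans (congrArg (germ ξ F Z y) (map_zero _).symm)
  refine mem_topology_of_forall_point _ fun w => ?_
  obtain ⟨i, v, hv⟩ := hV (W.hom.base w)
  haveI : Etale (V i).hom := (V i).prop
  let g := (V i).hom
  let W' := (EtCoh.bc g).obj W
  let π : (EtaleRestrict.emap g).obj W' ⟶ W := (EtaleRestrict.emapAdj g).counit.app W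
  have hπl : π.left = pullback.fst W.hom g := by
    simp [π, EtaleRestrict.emapAdj, MorphismProperty.Over.mapPullbackAdj]
  obtain ⟨z, hz₁, -⟩ := Scheme.Pullback.exists_preimage_pullback (f := W.hom) (g := g) w v hv.symm
  refine ⟨(EtaleRestrict.emap g).obj W', π, z, ?_, by rw [hπl]; exact hz₁⟩
  show F.obj.map π.op s = 0
  -- the restriction of `s` vanishes by separatedness over `V i`
  let k := pullback.snd j g
  let p := ((EtaleRestrict.pullIso g).hom.app F).hom
  obtain ⟨t, ht⟩ := (bijective_pullIso g F W').2 (F.obj.map π.op s)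
  let i₁ := (EtaleRestrict.emap g).map (cou k W') ≫ π
  let b : (EtaleRestrict.emap g).obj ((EtaleRestrict.emap k).obj ((EtCoh.bc k).obj W')) ⟶
      (EtaleRestrict.emap j).obj ((EtCoh.bc j).obj W) :=
    MorphismProperty.Over.homMk
      (pullback.lift i₁.left (pullback.snd W'.hom k ≫ pullback.fst j g) (by
        have h1 : i₁.left ≫ W.hom = (pullback.snd W'.hom k ≫ k) ≫ g := MorphismProperty.Over.w i₁
        rw [h1, Category.assoc, Category.assoc, ← pullback.condition]))
      (by
        show pullback.lift _ _ _ ≫ pullback.snd W.hom j ≫ j = (pullback.snd W'.hom k ≫ k) ≫ g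
        erw [pullback.lift_snd_assoc]
        simp [k, pullback.condition])
  have hb : b ≫ cou j W = i₁ := MorphismProperty.Over.Hom.ext (by
    show pullback.lift _ _ _ ≫ (cou j W).left = _
    rw [cou_left]
    exact pullback.lift_fst _ _ _)
  have h0 : t = 0 := by
    refine h i W' ?_
    rw [map_zero]
    refine (bijective_pullIso g F _).1 ?_
    refine (ConcreteCategory.congr_hom (p.naturality (cou k W').op) t).trans ?_
    show F.obj.map ((EtaleRestrict.emap g).map (cou k W')).op (p.app (op W') t) = _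
    rw [ht, ← ConcreteCategory.comp_apply, ← F.obj.map_comp, ← op_comp]
    show F.obj.map i₁.op s = _
    rw [← hb, op_comp, Functor.map_comp, ConcreteCategory.comp_apply, hs, map_zero, map_zero]
  rw [← ht, h0, map_zero]

section Shift

variable [EtCoh.BCCont j] {S : ShortComplex (EtCoh.Ab X)} (hS : S.ShortExact)
  (h₂ : ∀ q, IsZero ((EtDual.locCoh j q).obj S.X₂))

include hS h₂

theorem shift_down (n : ℕ) (h : EtDepth.DepthGE j S.X₁ (n + 1)) : EtDepth.DepthGE j S.X₃ n := fun p hp => by
  haveI := S5176.preservesFiniteLimits_secSupp j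
  obtain ⟨T, hT, e₁, e₂, e₃, -⟩ := H16Derived.AcyclicLES.exists_les (EtDual.secSupp j) S hS
  exact ((hT.homology_exact₃ (p : ℤ) ((p + 1 : ℕ) : ℤ) (by simp)).isZero_X₂
    (((h₂ p).of_iso (e₂ p).some.symm).eq_of_src _ _)
    (((h (p + 1) (by omega)).of_iso (e₁ (p + 1)).some.symm).eq_of_tgt _ _)).of_iso (e₃ p).some

theorem shift_up (n : ℕ) (h : EtDepth.DepthGE j S.X₃ n) (h₁ : Sep j S.X₁) :
    EtDepth.DepthGE j S.X₁ (n + 1) := fun p hp => by
  haveI := S5176.preservesFiniteLimits_secSupp j
  rcases p with _ | p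
  · exact ((S5176.isZero_secSupp_iff j _).2 ((sep_iff j _).1 h₁)).of_iso
      ((EtDual.secSupp j).rightDerivedZeroIsoSelf.app _)
  obtain ⟨T, hT, e₁, e₂, e₃, -⟩ := H16Derived.AcyclicLES.exists_les (EtDual.secSupp j) S hS
  exact ((hT.homology_exact₁ (p : ℤ) ((p + 1 : ℕ) : ℤ) (by simp)).isZero_X₂
    (((h p (by omega)).of_iso (e₃ p).some.symm).eq_of_src _ _)
    (((h₂ (p + 1)).of_iso (e₂ (p + 1)).some.symm).eq_of_tgt _ _)).of_iso (e₁ (p + 1)).some

end Shift

variable [EtCoh.BCCont j]

theorem depthGE_of_iso {F G : EtCoh.Ab X} (e : F ≅ G) {n : ℕ} (h : EtDepth.DepthGE j F n) :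
    EtDepth.DepthGE j G n := fun p hp => (h p hp).of_iso ((EtDual.locCoh j p).mapIso e.symm)

theorem sep_of_depthGE {F : EtCoh.Ab X} {n : ℕ} (h : EtDepth.DepthGE j F (n + 1)) : Sep j F :=
  haveI := S5176.preservesFiniteLimits_secSupp j
  (sep_iff j F).2 ((S5176.isZero_secSupp_iff j F).1 ((h 0 n.succ_pos).of_iso
    ((EtDual.secSupp j).rightDerivedZeroIsoSelf.app F).symm))

theorem isZero_locCoh_of_sep (I : EtCoh.Ab X) [Injective I] (h : Sep j I) (q : ℕ) :
    IsZero ((EtDual.locCoh j q).obj I) := by
  haveI := S5176.preservesFiniteLimits_secSupp j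
  rcases q with _ | q
  · exact ((S5176.isZero_secSupp_iff j I).2 ((sep_iff j I).1 h)).of_iso
      ((EtDual.secSupp j).rightDerivedZeroIsoSelf.app I)
  · exact (EtDual.secSupp j).isZero_rightDerived_obj_injective_succ q I

theorem exists_embedding {F : EtCoh.Ab X} (hF : Sep j F) : ∃ (S : ShortComplex (EtCoh.Ab X)),
    S.ShortExact ∧ S.X₁ = F ∧ Injective S.X₂ ∧ Sep j S.X₂ := by
  haveI := (sep_iff j F).1 hF
  haveI := pull_preservesFiniteLimits j
  let J := Injective.under ((EtCoh.pull j).obj F)
  haveI : PreservesFiniteLimits (EtCoh.push j) :=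
    (EtCoh.pullPushAdj j).rightAdjoint_preservesLimits.preservesFiniteLimits
  let i : F ⟶ (EtCoh.push j).obj J := EtDual.unitApp j F ≫ (EtCoh.push j).map (Injective.ι _)
  haveI : Mono i := mono_comp _ _
  exact ⟨ShortComplex.mk i (cokernel.π i) (cokernel.condition i),
    { exact := ShortComplex.exact_of_g_is_cokernel _ (cokernelIsCokernel i) }, rfl,
    Injective.injective_of_adjoint (EtCoh.pullPushAdj j) J,
    (sep_iff j _).2 (mono_of_mono_fac ((EtCoh.pullPushAdj j).right_triangle_components J))⟩

theorem shortExact_pull {S : ShortComplex (EtCoh.Ab X)} (hS : S.ShortExact) {X' : Scheme.{u}} (g : X' ⟶ X) :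
    (S.map (EtCoh.pull g)).ShortExact := by
  haveI := pull_preservesFiniteLimits g
  haveI : PreservesFiniteColimits (EtCoh.pull g) := by
    haveI : PreservesColimitsOfSize.{0, 0} (EtCoh.pull g) := (EtCoh.pullPushAdj g).leftAdjoint_preservesColimits
    exact PreservesColimitsOfSize.preservesFiniteColimits.{0, 0} _
  exact hS.map_of_exact _

/-- Depth is stable under etale localisation. -/
theorem depthGE_pull {X' : Scheme.{u}} (g : X' ⟶ X) [Etale g] (n : ℕ) :
    ∀ F : EtCoh.Ab X, EtDepth.DepthGE j F n →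
      EtDepth.DepthGE (pullback.snd j g) ((EtCoh.pull g).obj F) n := by
  induction n with
  | zero => exact fun F _ p hp => absurd hp p.not_lt_zero
  | succ n ih =>
    intro F hF
    obtain ⟨S, hS, rfl, hI, hIs⟩ := exists_embedding j (sep_of_depthGE j hF)
    haveI := hI
    haveI := EtaleRestrict.injective_pull g S.X₂
    exact shift_up (pullback.snd j g) (shortExact_pull hS g)
      (fun q => isZero_locCoh_of_sep (pullback.snd j g) _ (sep_pull j g hIs) q) n
      (ih _ (shift_down j hS (fun q => isZero_locCoh_of_sep j _ hIs q) n hF))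
      (sep_pull j g (sep_of_depthGE j hF))

/-- Depth is etale local. -/
theorem depthGE_of_covers {ι : Type u} (V : ι → X.Etale) (hV : EtCoh.Covers V) (n : ℕ) :
    ∀ F : EtCoh.Ab X, (∀ i, EtDepth.DepthGE (pullback.snd j (V i).hom) ((EtCoh.pull (V i).hom).obj F) n) →
      EtDepth.DepthGE j F n := by
  induction n with
  | zero => exact fun F _ p hp => absurd hp p.not_lt_zero
  | succ n ih =>
    intro F hF
    have hsep : Sep j F := sep_of_covers j F V hV fun i =>
      haveI : Etale (V i).hom := (V i).prop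
      sep_of_depthGE (pullback.snd j (V i).hom) (hF i)
    obtain ⟨S, hS, rfl, hI, hIs⟩ := exists_embedding j hsep
    haveI := hI
    refine shift_up j hS (fun q => isZero_locCoh_of_sep j _ hIs q) n (ih _ fun i => ?_) hsep
    haveI : Etale (V i).hom := (V i).prop
    haveI := EtaleRestrict.injective_pull (V i).hom S.X₂
    exact shift_down (pullback.snd j (V i).hom) (shortExact_pull hS (V i).hom)
      (fun q => isZero_locCoh_of_sep (pullback.snd j (V i).hom) ((EtCoh.pull (V i).hom).obj S.X₂) (sep_pull j (V i).hom hIs) q) n (hF i)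

omit [IsOpenImmersion j] in
theorem shortExact_const {S : ShortComplex AddCommGrpCat.{u + 1}} (hS : S.ShortExact) :
    (S.map (constantSheaf X.smallEtaleTopology AddCommGrpCat.{u + 1})).ShortExact := by
  haveI : PreservesFiniteLimits (constantSheaf X.smallEtaleTopology AddCommGrpCat.{u + 1}) := by
    unfold constantSheaf; exact comp_preservesFiniteLimits _ _
  haveI : PreservesFiniteColimits (constantSheaf X.smallEtaleTopology AddCommGrpCat.{u + 1}) := by
    unfold constantSheaf; exact comp_preservesFiniteColimits _ _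
  exact hS.map_of_exact _

/-- Depth of the constant sheaf `ℤ/ℓ` bounds the depth of constant finite `ℓ`-groups. -/
theorem depthGE_const {ℓ : ℕ} [Fact ℓ.Prime] {n : ℕ} (h : EtDepth.DepthGE j (EtCoh.const X (ZMod ℓ)) n) :
    ∀ (N : ℕ) (M : AddCommGrpCat.{u + 1}) [Finite M], Nat.card M = N → (∀ m : M, ∃ k : ℕ, ℓ ^ k • m = 0) →
      EtDepth.DepthGE j ((constantSheaf X.smallEtaleTopology AddCommGrpCat.{u + 1}).obj M) n := by
  intro N
  induction N using Nat.strong_induction_on with
  | _ N ih =>
    intro M _ hN hM p hp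
    haveI := S5176.preservesFiniteLimits_secSupp j
    let C := constantSheaf X.smallEtaleTopology AddCommGrpCat.{u + 1}
    haveI : C.PreservesZeroMorphisms := by
      haveI : PreservesFiniteLimits C := by
        show PreservesFiniteLimits (constantSheaf _ _)
        unfold constantSheaf; exact comp_preservesFiniteLimits _ _
      exact Functor.preservesZeroMorphisms_of_preserves_terminal_object
    by_cases htriv : ∀ m : M, m = 0
    · haveI : Subsingleton M := ⟨fun a b => (htriv a).trans (htriv b).symm⟩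
      have hz : IsZero (C.obj M) := C.map_isZero (AddCommGrpCat.isZero_of_subsingleton M)
      haveI : Injective (C.obj M) := hz.injective
      exact isZero_locCoh_of_sep j _ ((sep_iff j _).2 ⟨fun a b _ => hz.eq_of_tgt a b⟩) p
    push Not at htriv
    obtain ⟨m, hm⟩ := htriv
    obtain ⟨x, hx⟩ : ∃ x : M, addOrderOf x = ℓ := by
      obtain ⟨k, hk⟩ := hM m
      obtain ⟨i, -, hi⟩ := (Nat.dvd_prime_pow Fact.out).1 (addOrderOf_dvd_of_nsmul_eq_zero hk)
      rcases i with _ | i
      · exact absurd (AddMonoid.addOrderOf_eq_one_iff.1 (by simpa using hi)) hm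
      · refine ⟨ℓ ^ i • m, ?_⟩
        rw [addOrderOf_nsmul' _ (pow_ne_zero i (Nat.Prime.ne_zero Fact.out)), hi,
          Nat.gcd_eq_right (pow_dvd_pow ℓ (Nat.le_succ i)),
          Nat.pow_div (Nat.le_succ i) (Nat.Prime.pos Fact.out)]
        simp
    let H := AddSubgroup.zmultiples x
    have hHcard : Nat.card H = ℓ := by rw [Nat.card_zmultiples, hx]
    let S : ShortComplex AddCommGrpCat.{u + 1} :=
      ShortComplex.mk (AddCommGrpCat.ofHom H.subtype) (AddCommGrpCat.ofHom (QuotientAddGroup.mk' H))
        (AddCommGrpCat.ext fun y => (QuotientAddGroup.eq_zero_iff _).2 y.2)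
    have hS : S.ShortExact :=
      { exact := (ShortComplex.ab_exact_iff _).2 fun y hy =>
          ⟨⟨y, (QuotientAddGroup.eq_zero_iff y).1 hy⟩, rfl⟩
        mono_f := (AddCommGrpCat.mono_iff_injective _).2 Subtype.val_injective
        epi_g := (AddCommGrpCat.epi_iff_surjective _).2 (QuotientAddGroup.mk'_surjective H) }
    have h₁ : IsZero ((EtDual.locCoh j p).obj (C.obj S.X₁)) := by
      haveI : IsAddCyclic H := isAddCyclic_of_prime_card hHcard
      let e : ULift.{u + 1} (ZMod ℓ) ≃+ H :=
        AddEquiv.ulift.trans ((ZMod.ringEquivCongr hHcard.symm).toAddEquiv.trans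
          (zmodAddCyclicAddEquiv inferInstance))
      exact (h p hp).of_iso ((EtDual.locCoh j p).mapIso
        (C.mapIso (AddEquiv.toAddCommGrpIso (X := AddCommGrpCat.of (ULift.{u + 1} (ZMod ℓ))) (Y := S.X₁) e)).symm)
    have h₃ : IsZero ((EtDual.locCoh j p).obj (C.obj S.X₃)) := by
      haveI : Finite S.X₃ := inferInstanceAs (Finite (M ⧸ H))
      refine ih (Nat.card (M ⧸ H)) ?_ S.X₃ rfl (fun q => ?_) p hp
      · have h1 := H.card_eq_card_quotient_mul_card_addSubgroup
        rw [hHcard, hN] at h1
        rw [h1]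
        exact lt_mul_of_one_lt_right Nat.card_pos (Nat.Prime.one_lt Fact.out)
      · obtain ⟨y, rfl⟩ := QuotientAddGroup.mk'_surjective H q
        obtain ⟨k, hk⟩ := hM y
        exact ⟨k, (map_nsmul (QuotientAddGroup.mk' H) _ _).symm.trans (by rw [hk, map_zero])⟩
    obtain ⟨T, hT, e₁, e₂, e₃, -⟩ :=
      H16Derived.AcyclicLES.exists_les (EtDual.secSupp j) _ (shortExact_const (X := X) hS)
    exact ((hT.homology_exact₂ (p : ℤ)).isZero_X₂ ((h₁.of_iso (e₁ p).some.symm).eq_of_src _ _)
      ((h₃.of_iso (e₃ p).some.symm).eq_of_tgt _ _)).of_iso (e₂ p).some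

end Groth.Agent.H23Geom.DepthLocal
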