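import Groth.Agent.H18Et.Flasque
import Groth.Agent.H18Et.InjectiveRestrict
import Groth.Agent.H18Et.EtaleRestrict
import Groth.Prelude.Def_EtDepth
import Groth.Prelude.Def_RDer

/-! Sections with supports of injective sheaves, and edge maps in the lowest degree. -/

set_option autoImplicit false

universe u

open CategoryTheory CategoryTheory.Limits AlgebraicGeometry Opposite Abelian

namespace Groth.Agent.H23Geom.SecSupp

set_option backward.isDefEq.respectTransparency false
set_option backward.isDefEq.respectTransparency.types false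

open H18Et

variable {X U : Scheme.{u}} (j : U ⟶ X) [IsOpenImmersion j] [EtCoh.BCCont j]

/-- The restriction of an injective sheaf to an open is surjective on sections. -/
theorem surjective_unit (I : EtCoh.Ab X) [Injective I] (W : X.Etale) :
    Function.Surjective ((EtDual.unitApp j I).hom.app (op W)) := by
  have hu := congrArg (fun k => k.hom.app (op W))
    (Adjunction.unit_leftAdjointUniq_hom_app (EtCoh.pullPushAdj j) (EtaleRestrict.resPushAdj j) I)
  let g := (EtaleRestrict.emapAdj j).counit.app W
  haveI : Mono g := by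
    haveI : Mono g.left := by
      have : g.left = pullback.fst W.hom j := by
        simp [g, EtaleRestrict.emapAdj, MorphismProperty.Over.mapPullbackAdj]
      rw [this]
      infer_instance
    constructor
    intro Z a b h
    exact MorphismProperty.Over.Hom.ext ((cancel_mono g.left).1 (congrArg (fun t => t.left) h))
  have hs := surjective_map_of_injective I g
  have h2 : ((EtaleRestrict.resPushAdj j).unit.app I).hom.app (op W) = I.obj.map g.op := by
    simp [EtaleRestrict.resPushAdj, g]
  intro y
  let e := (EtCoh.push j).mapIso ((EtaleRestrict.pullIso j).app I)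
  obtain ⟨x, hx⟩ := hs (e.hom.hom.app (op W) y)
  refine ⟨x, ?_⟩
  have hinj : Function.Injective (e.hom.hom.app (op W)) :=
    Function.LeftInverse.injective (g := e.inv.hom.app (op W)) fun z => by
      rw [← ConcreteCategory.comp_apply, ← NatTrans.comp_app, ← ObjectProperty.FullSubcategory.comp_hom,
        e.hom_inv_id]
      rfl
  apply hinj
  rw [← hx, ← h2]
  exact ConcreteCategory.congr_hom hu x

theorem epi_unit (I : EtCoh.Ab X) [Injective I] : Epi (EtDual.unitApp j I) := by
  refine (sheafToPresheaf _ _).epi_of_epi_map ?_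
  haveI : ∀ W, Epi (((sheafToPresheaf _ _).map (EtDual.unitApp j I)).app W) := fun W =>
    (AddCommGrpCat.epi_iff_surjective _).2 (surjective_unit j I W.unop)
  exact NatTrans.epi_of_epi_app _

/-- Sections with supports of an injective sheaf are acyclic. -/
theorem isAcyclic_secSupp (I : EtCoh.Ab X) [Injective I] :
    Flasque.IsAcyclic ((EtDual.secSupp j).obj I) := by
  haveI := epi_unit j I
  haveI := pull_preservesFiniteLimits j
  haveI := EtaleRestrict.injective_pull j I
  haveI : Injective ((EtCoh.push j).obj ((EtCoh.pull j).obj I)) :=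
    Injective.injective_of_adjoint (EtCoh.pullPushAdj j) _
  let S := ShortComplex.mk (kernel.ι (EtDual.unitApp j I)) (EtDual.unitApp j I) (kernel.condition _)
  have hS : S.ShortExact :=
    { exact := ShortComplex.exact_of_f_is_kernel _ (kernelIsKernel _) }
  intro W q hq
  refine subsingleton_of_forall_eq 0 fun x => ?_
  obtain ⟨q, rfl⟩ : ∃ m, q = m + 1 := ⟨q - 1, by omega⟩
  have h2 : x.comp (Ext.mk₀ S.f) (add_zero _) = 0 :=
    (Flasque.isAcyclic_of_injective I W (q + 1) hq).elim _ _
  obtain ⟨y, rfl⟩ := Ext.covariant_sequence_exact₁ _ hS x h2 (n₀ := q) rfl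
  rcases q with _ | q
  · obtain ⟨φ, rfl⟩ := (Ext.mk₀_bijective _ _).surjective y
    obtain ⟨s, hs⟩ := surjective_unit j I W (FreeSheaf.homEquiv W _ φ)
    have h3 : (FreeSheaf.homEquiv W I).symm s ≫ S.g = φ := (FreeSheaf.homEquiv W _).injective (by
      rw [FreeSheaf.homEquiv_comp, Equiv.apply_symm_apply]
      exact hs)
    rw [← h3, ← Ext.mk₀_comp_mk₀, Ext.comp_assoc_of_second_deg_zero, hS.comp_extClass, Ext.comp_zero]
  · rw [(Flasque.isAcyclic_of_injective _ W (q + 1) q.succ_pos).elim y 0, Ext.zero_comp]

section Comparison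

variable (K : CochainComplex (EtCoh.Ab X) ℕ) (n : ℕ)

omit [IsOpenImmersion j] [EtCoh.BCCont j] in
theorem exact_homologyπ (p i : ℕ) (hp : (ComplexShape.up ℕ).prev i = p) :
    (ShortComplex.mk (K.toCycles p i) (K.homologyπ i) (K.toCycles_comp_homologyπ p i)).Exact :=
  ShortComplex.exact_of_g_is_cokernel _ (K.homologyIsCokernel p i hp)

theorem isAcyclic_bdry (hK : ∀ i, Flasque.IsAcyclic (K.X i)) (hH : ∀ i < n, IsZero (K.homology i)) :
    ∀ i ≤ n, Flasque.IsAcyclic (kernel (K.homologyπ i)) := by
  intro i
  induction i with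
  | zero =>
    intro _
    haveI : Mono (K.homologyπ 0) := (exact_homologyπ K 0 0 (by simp)).mono_g (by
      rw [← cancel_mono (K.iCycles 0)]; simp)
    exact fun W q hq => subsingleton_of_forall_eq 0 fun x => by
      have : x.comp (Ext.mk₀ (𝟙 _)) (add_zero q) = x := Ext.comp_mk₀_id x
      rw [← this, (isZero_kernel_of_mono (K.homologyπ 0)).eq_of_src (𝟙 _) 0, Ext.mk₀_zero, Ext.comp_zero]
  | succ i ih =>
    intro hi
    have hπ : K.homologyπ i = 0 := (hH i (by omega)).eq_of_tgt _ _
    have hZ : Flasque.IsAcyclic (K.cycles i) := by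
      have e : K.cycles i ≅ kernel (K.homologyπ i) :=
        { hom := kernel.lift _ (𝟙 _) (by rw [hπ, comp_zero])
          inv := kernel.ι _
          inv_hom_id := by rw [← cancel_mono (kernel.ι (K.homologyπ i))]; simp }
      intro W q hq
      refine subsingleton_of_forall_eq 0 fun x => ?_
      have h1 : x.comp (Ext.mk₀ e.hom) (add_zero q) = 0 := (ih (by omega) W q hq).elim _ _
      have : (x.comp (Ext.mk₀ e.hom) (add_zero q)).comp (Ext.mk₀ e.inv) (add_zero q) = x := by
        rw [Ext.comp_assoc_of_third_deg_zero, Ext.mk₀_comp_mk₀, e.hom_inv_id, Ext.comp_mk₀_id]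
      rw [← this, h1, Ext.zero_comp]
    let t : K.X i ⟶ kernel (K.homologyπ (i + 1)) :=
      kernel.lift _ (K.toCycles i (i + 1)) (K.toCycles_comp_homologyπ i (i + 1))
    haveI : Epi t := (exact_homologyπ K i (i + 1) (by simp)).epi_kernelLift
    have w : K.iCycles i ≫ t = 0 := by
      rw [← cancel_mono (kernel.ι _), Category.assoc, kernel.lift_ι, ← cancel_mono (K.iCycles (i + 1))]
      simp
    let S := ShortComplex.mk (K.iCycles i) t w
    have hex : S.Exact := ShortComplex.exact_of_f_is_kernel _ (KernelFork.IsLimit.ofι' _ w fun {A} a ha => by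
      refine ⟨K.liftCycles a (i + 1) (by simp) ?_, K.liftCycles_i _ _ _ _⟩
      have h1 := congrArg (fun x => x ≫ kernel.ι (K.homologyπ (i + 1)) ≫ K.iCycles (i + 1)) ha
      simpa [t] using h1)
    exact Flasque.isAcyclic_X₃ ({ exact := hex } : S.ShortExact) hZ (hK i)

theorem isIso_homologyComparison (hK : ∀ i, Flasque.IsAcyclic (K.X i)) (hH : ∀ i < n, IsZero (K.homology i))
    (W : X.Etale) :
    IsIso (RDer.homologyComparison (sheafToPresheaf X.smallEtaleTopology AddCommGrpCat.{u + 1} ⋙
      (evaluation X.Etaleᵒᵖ AddCommGrpCat.{u + 1}).obj (op W)) K n) := by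
  let Ψ := sheafToPresheaf X.smallEtaleTopology AddCommGrpCat.{u + 1} ⋙
      (evaluation X.Etaleᵒᵖ AddCommGrpCat.{u + 1}).obj (op W)
  let cc := RDer.cyclesComparison Ψ K n
  haveI hcc : IsIso cc :=
    (IsLimit.conePointUniqueUpToIso (((Ψ.mapHomologicalComplex _).obj K).cyclesIsKernel n _ rfl)
      (KernelFork.mapIsLimit _ (K.cyclesIsKernel n _ rfl) Ψ)).isIso_hom
  let p := (ComplexShape.up ℕ).prev n
  have hex := exact_homologyπ K p n rfl
  haveI : Epi (K.homologyπ n) := inferInstance
  let S := ShortComplex.mk (kernel.ι (K.homologyπ n)) (K.homologyπ n) (kernel.condition _)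
  have hS : S.ShortExact := { exact := ShortComplex.exact_of_f_is_kernel _ (kernelIsKernel _) }
  have hB := isAcyclic_bdry K n hK hH n le_rfl
  have hsurjπ : Function.Surjective (Ψ.map (K.homologyπ n)) := Flasque.surjective_sections hS hB W
  let t : K.X p ⟶ kernel (K.homologyπ n) := kernel.lift _ (K.toCycles p n) (K.toCycles_comp_homologyπ p n)
  haveI : Epi t := hex.epi_kernelLift
  have ht : Function.Surjective (Ψ.map t) := by
    rcases n with _ | m
    · intro b
      haveI : Mono (K.homologyπ 0) := (exact_homologyπ K 0 0 (by simp)).mono_g (by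
        rw [← cancel_mono (K.iCycles 0)]; simp)
      refine ⟨0, ?_⟩
      have h := ConcreteCategory.congr_hom
        (congrArg Ψ.map ((isZero_kernel_of_mono (K.homologyπ 0)).eq_of_src (𝟙 _) 0)) b
      simp only [CategoryTheory.Functor.map_id, Functor.map_zero] at h
      rw [map_zero]
      exact h.symm
    · obtain ⟨i, hi⟩ : ∃ i, p = i := ⟨p, rfl⟩
      have hp : p = m := by simp [p]
      have hπ : K.homologyπ m = 0 := (hH m (by omega)).eq_of_tgt _ _
      have hZ : Flasque.IsAcyclic (kernel t) := by
        have w : K.iCycles p ≫ t = 0 := by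
          rw [← cancel_mono (kernel.ι _), Category.assoc, kernel.lift_ι, ← cancel_mono (K.iCycles (m + 1))]
          simp
        have hlim : IsLimit (KernelFork.ofι (K.iCycles p) w) :=
          KernelFork.IsLimit.ofι' _ w fun {A} a ha => by
            refine ⟨K.liftCycles a (m + 1) (by simp [hp]) ?_, K.liftCycles_i _ _ _ _⟩
            have h1 := congrArg (fun x => x ≫ kernel.ι (K.homologyπ (m + 1)) ≫ K.iCycles (m + 1)) ha
            simpa [t] using h1
        have e : kernel t ≅ K.cycles p := IsLimit.conePointUniqueUpToIso (kernelIsKernel t) hlim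
        have hπp : K.homologyπ p = 0 := by rw [hp]; exact hπ
        let f : kernel t ⟶ kernel (K.homologyπ p) := kernel.lift _ e.hom (by rw [hπp, comp_zero])
        intro V q hq
        refine subsingleton_of_forall_eq 0 fun x => ?_
        have h1 : x.comp (Ext.mk₀ f) (add_zero q) = 0 :=
          (isAcyclic_bdry K (m + 1) hK hH p (by omega) V q hq).elim _ _
        have : (x.comp (Ext.mk₀ f) (add_zero q)).comp (Ext.mk₀ (kernel.ι (K.homologyπ p) ≫ e.inv)) (add_zero q) = x := by
          rw [Ext.comp_assoc_of_third_deg_zero, Ext.mk₀_comp_mk₀, kernel.lift_ι_assoc, e.hom_inv_id, Ext.comp_mk₀_id]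
        rw [← this, h1, Ext.zero_comp]
      exact Flasque.surjective_sections
        ({ exact := ShortComplex.exact_of_f_is_kernel _ (kernelIsKernel t) } :
          (ShortComplex.mk (kernel.ι t) t (kernel.condition t)).ShortExact) hZ W
  let π' := ((Ψ.mapHomologicalComplex _).obj K).homologyπ n
  have hπ' : Function.Surjective π' := (AddCommGrpCat.epi_iff_surjective _).1 inferInstance
  have hcomm : ∀ z, RDer.homologyComparison Ψ K n (π' z) = Ψ.map (K.homologyπ n) (cc z) := fun z =>
    ConcreteCategory.congr_hom (RDer.homologyπ_homologyComparison Ψ K n) z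
  have hccb : Function.Bijective cc := ConcreteCategory.bijective_of_isIso cc
  refine (ConcreteCategory.isIso_iff_bijective _).mpr ⟨?_, fun y => ?_⟩
  · rw [injective_iff_map_eq_zero]
    intro x hx
    obtain ⟨z, rfl⟩ := hπ' x
    rw [hcomm] at hx
    obtain ⟨b, hb⟩ := (ShortComplex.ab_exact_iff _).1
      (hS.exact.map_of_mono_of_preservesKernel Ψ hS.mono_f inferInstance) (cc z) hx
    obtain ⟨a, rfl⟩ := ht b
    have h3 : cc (((Ψ.mapHomologicalComplex _).obj K).toCycles p n a) = cc z := by
      refine Eq.trans ?_ hb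
      have h4 := ConcreteCategory.congr_hom (RDer.toCycles_cyclesComparison Ψ K n) a
      refine h4.trans ?_
      have h5 : t ≫ kernel.ι (K.homologyπ n) = K.toCycles p n := kernel.lift_ι _ _ _
      exact (ConcreteCategory.congr_hom ((congrArg Ψ.map h5).symm.trans (Ψ.map_comp _ _)) a)
    rw [← hccb.1 h3]
    exact ConcreteCategory.congr_hom (((Ψ.mapHomologicalComplex _).obj K).toCycles_comp_homologyπ p n) a
  · obtain ⟨w, hw⟩ := hsurjπ y
    obtain ⟨z, rfl⟩ := hccb.2 w
    exact ⟨π' z, (hcomm z).trans hw⟩

end Comparison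

end Groth.Agent.H23Geom.SecSupp
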