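import Mathlib
import Groth.Prelude.Def_W4bk4goldsch23FF

/-!
Separating elements, differentials and the field `k K^p` of a geometric function field.
-/

set_option autoImplicit false

universe u v

open IntermediateField Polynomial TensorProduct

namespace Groth.Agent.H23Geom

variable {k : Type u} {K : Type v} [Field k] [Field K] [Algebra k K]

theorem essFiniteType (hK : FunFld.IsFunctionField k K) : Algebra.EssFiniteType k K := by
  classical
  obtain ⟨⟨x, -, hfin⟩, -⟩ := hK
  obtain ⟨s, hs⟩ := Module.finite_def.1 hfin
  refine IntermediateField.fg_top_iff.1 ⟨insert x s, eq_top_iff.2 ?_⟩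
  rintro z -
  rw [Finset.coe_insert]
  have hz : z ∈ Submodule.span (adjoin k ({x} : Set K)) (s : Set K) := by rw [hs]; trivial
  induction hz using Submodule.span_induction with
  | mem w hw => exact subset_adjoin _ _ (Set.mem_insert_of_mem _ hw)
  | zero => exact zero_mem _
  | add a b _ _ ha hb => exact add_mem ha hb
  | smul c a _ ha =>
    exact mul_mem (adjoin.mono k _ _ (Set.singleton_subset_iff.2 (Set.mem_insert x _)) c.2) ha

/-- Geometric function fields: `p`-th powers of independent elements stay independent. -/
theorem linearIndepOn_pow (hg : FunFld.IsGeometric k K) (p : ℕ) (hp : p.Prime) [CharP k p]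
    (s : Finset K) (hs : LinearIndepOn k _root_.id (s : Set K)) :
    LinearIndepOn k (· ^ p) (s : Set K) := by
  classical
  haveI := Fact.mk hp
  let Ω := AlgebraicClosure k
  show LinearIndependent k fun i : ↥(s : Set K) => (i : K) ^ p
  rw [Fintype.linearIndependent_iff]
  intro c hc
  choose r hr using fun i => IsAlgClosed.exists_pow_nat_eq (algebraMap k Ω (c i)) hp.pos
  let k' : IntermediateField k Ω := adjoin k (Set.range r)
  haveI : FiniteDimensional k k' := finiteDimensional_adjoin fun z _ =>
    (Algebra.IsAlgebraic.isAlgebraic z).isIntegral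
  have hF : IsField (k' ⊗[k] K) := hg k' inferInstance
  letI : Field (k' ⊗[k] K) := hF.toField
  haveI : CharP (k' ⊗[k] K) p := charP_of_injective_algebraMap (algebraMap k (k' ⊗[k] K)).injective p
  let r' : ↥(s : Set K) → k' := fun i => ⟨r i, subset_adjoin _ _ ⟨i, rfl⟩⟩
  have hz : ∑ i, r' i ⊗ₜ[k] (i : K) = 0 := by
    refine pow_eq_zero_iff hp.ne_zero |>.1 ?_
    rw [sum_pow_char]
    simp only [Algebra.TensorProduct.tmul_pow]
    have : ∀ i, r' i ^ p = algebraMap k k' (c i) := fun i => Subtype.ext (hr i)
    simp only [this, Algebra.algebraMap_eq_smul_one, smul_tmul, ← tmul_sum]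
    rw [hc, tmul_zero]
  intro i
  let f : (↥(s : Set K) →₀ k) →ₗ[k] K := Finsupp.linearCombination k (fun i : ↥(s : Set K) => (i : K))
  have hf : Function.Injective f := hs
  have hlT : Function.Injective (f.lTensor k') := Module.Flat.lTensor_preserves_injective_linearMap f hf
  have hzero : ∑ j, r' j ⊗ₜ[k] Finsupp.single j (1 : k) = 0 := hlT (by
    rw [map_sum, map_zero, ← hz]
    refine Finset.sum_congr rfl fun j _ => ?_
    rw [LinearMap.lTensor_tmul, Finsupp.linearCombination_single, one_smul])
  have := congrArg (fun t => TensorProduct.finsuppScalarRight k k k' (s : Set K) t i) hzero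
  simp only [map_sum, map_zero, Finsupp.finsetSum_apply, TensorProduct.finsuppScalarRight_apply_tmul_apply,
    Finsupp.single_apply, ite_smul, one_smul, zero_smul, Finset.sum_ite_eq', Finset.mem_univ, if_true,
    Finsupp.coe_zero, Pi.zero_apply] at this
  have h0 : algebraMap k Ω (c i) = 0 := by
    rw [← hr i, show r i = 0 from congrArg Subtype.val this, zero_pow hp.ne_zero]
  exact (map_eq_zero _).1 h0

/-- A geometric function field of one variable has a separating element. -/
theorem exists_separating (hK : FunFld.IsFunctionField k K) (hg : FunFld.IsGeometric k K) :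
    ∃ x : K, Transcendental k x ∧ Algebra.IsSeparable (adjoin k ({x} : Set K)) K := by
  haveI := essFiniteType hK
  obtain ⟨⟨x₀, hx₀, hfin⟩, -⟩ := hK
  rcases CharP.exists' k with h0 | ⟨p, hp, hpk⟩
  · haveI : CharZero (adjoin k ({x₀} : Set K)) := charZero_of_injective_algebraMap (algebraMap k _).injective
    exact ⟨x₀, hx₀, inferInstance⟩
  · obtain ⟨s, hs, hsep⟩ := exists_isTranscendenceBasis_and_isSeparable_of_linearIndepOn_pow_of_essFiniteType
      p hp.out (linearIndepOn_pow hg p hp.out)
    have h1 : IsTranscendenceBasis k (fun _ : PUnit.{v + 1} => x₀) := by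
      have hai : AlgebraicIndependent k (fun _ : PUnit.{v + 1} => x₀) :=
        (algebraicIndependent_unique_type_iff (ι := PUnit.{v + 1})).2 hx₀
      rw [hai.isTranscendenceBasis_iff_isAlgebraic]
      haveI : Algebra.IsAlgebraic (adjoin k ({x₀} : Set K)) K := Algebra.IsAlgebraic.of_finite _ _
      rw [Set.range_const]
      exact IntermediateField.isAlgebraic_adjoin_iff_top.1 (Algebra.IsAlgebraic.of_finite (adjoin k ({x₀} : Set K)) K)
    have hcard : (s : Finset K).card = 1 := by
      have := h1.cardinalMk_eq hs
      simpa using this.symm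
    obtain ⟨x, rfl⟩ := Finset.card_eq_one.1 hcard
    refine ⟨x, ?_, ?_⟩
    · exact hs.1.transcendental ⟨x, Finset.mem_singleton_self x⟩
    · rwa [Finset.coe_singleton] at hsep

theorem transcendental_of_isSeparable (hK : FunFld.IsFunctionField k K) {x : K}
    [Algebra.IsSeparable (adjoin k ({x} : Set K)) K] : Transcendental k x := by
  intro hx
  obtain ⟨⟨y, hy, -⟩, -⟩ := hK
  haveI : FiniteDimensional k (adjoin k ({x} : Set K)) := adjoin.finiteDimensional hx.isIntegral
  haveI : Algebra.IsAlgebraic k (adjoin k ({x} : Set K)) := Algebra.IsAlgebraic.of_finite _ _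
  exact hy ((Algebra.IsSeparable.isSeparable (adjoin k ({x} : Set K)) y).isIntegral.isAlgebraic.restrictScalars k)

variable (k) in
/-- The differential of a fraction. -/
theorem D_div (a b : K) :
    KaehlerDifferential.D k K (a / b) ∈ Submodule.span K
      {KaehlerDifferential.D k K a, KaehlerDifferential.D k K b} := by
  rw [Derivation.leibniz_div]
  exact Submodule.smul_mem _ _ (Submodule.sub_mem _
    (Submodule.smul_mem _ _ (Submodule.subset_span (by simp)))
    (Submodule.smul_mem _ _ (Submodule.subset_span (by simp))))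

/-- The differential of a value of a polynomial, modulo the differentials of the coefficients. -/
theorem D_eval_sub_mem (S : Submodule K (KaehlerDifferential k K)) (f : K[X]) (z : K)
    (h : ∀ i, KaehlerDifferential.D k K (f.coeff i) ∈ S) :
    KaehlerDifferential.D k K (f.eval z) - f.derivative.eval z • KaehlerDifferential.D k K z ∈ S := by
  rw [eval_eq_sum, Polynomial.sum, map_sum, derivative_eval, Polynomial.sum, Finset.sum_smul,
    ← Finset.sum_sub_distrib]
  refine Submodule.sum_mem _ fun i _ => ?_
  rw [Derivation.leibniz, Derivation.leibniz_pow, ← Nat.cast_smul_eq_nsmul K, smul_smul, smul_smul,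
    add_sub_cancel_left]
  exact Submodule.smul_mem _ _ (h i)

/-- For a separating `x`, every differential is a multiple of `dx`. -/
theorem D_mem_span {x : K} [Algebra.IsSeparable (adjoin k ({x} : Set K)) K] (z : K) :
    KaehlerDifferential.D k K z ∈ Submodule.span K {KaehlerDifferential.D k K x} := by
  set S := Submodule.span K {KaehlerDifferential.D k K x}
  have hpoly : ∀ f : k[X], KaehlerDifferential.D k K (aeval x f) ∈ S := fun f => by
    rw [Derivation.map_aeval]
    exact Submodule.smul_mem _ _ (Submodule.subset_span rfl)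
  have hkx : ∀ w ∈ adjoin k ({x} : Set K), KaehlerDifferential.D k K w ∈ S := by
    intro w hw
    obtain ⟨r, s, rfl⟩ := (IntermediateField.mem_adjoin_simple_iff k w).1 hw
    exact (Submodule.span_le.2 (by
      simp only [Set.insert_subset_iff, Set.singleton_subset_iff, SetLike.mem_coe]
      exact ⟨hpoly r, hpoly s⟩)) (D_div k _ _)
  set E := adjoin k ({x} : Set K)
  have hsep := Algebra.IsSeparable.isSeparable E z
  set f := (minpoly E z).map (algebraMap E K)
  have hf : f.eval z = 0 := by rw [eval_map, ← aeval_def]; exact minpoly.aeval E z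
  have hne : f.derivative.eval z ≠ 0 := by
    rw [derivative_map, eval_map, ← aeval_def]
    exact hsep.aeval_derivative_ne_zero (minpoly.aeval E z)
  have key : KaehlerDifferential.D k K (f.eval z) - f.derivative.eval z • KaehlerDifferential.D k K z ∈ S :=
    D_eval_sub_mem S f z fun i => hkx _ (by rw [coeff_map]; exact ((minpoly E z).coeff i).2)
  rw [hf, map_zero, zero_sub, neg_mem_iff, Submodule.smul_mem_iff _ hne] at key
  exact key

theorem span_D_eq_top {x : K} [Algebra.IsSeparable (adjoin k ({x} : Set K)) K] :
    Submodule.span K {KaehlerDifferential.D k K x} = ⊤ := by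
  rw [eq_top_iff, ← KaehlerDifferential.span_range_derivation, Submodule.span_le]
  rintro _ ⟨z, rfl⟩
  exact D_mem_span z

theorem D_ne_zero (hK : FunFld.IsFunctionField k K) {x : K}
    [Algebra.IsSeparable (adjoin k ({x} : Set K)) K] : KaehlerDifferential.D k K x ≠ 0 := by
  intro h
  haveI := essFiniteType hK
  have htop := span_D_eq_top (k := k) (x := x)
  rw [h, Submodule.span_zero_singleton] at htop
  haveI : Algebra.FormallyUnramified k K :=
    ⟨(Submodule.subsingleton_iff K).1 (subsingleton_of_bot_eq_top htop)⟩
  haveI := Algebra.FormallyUnramified.isSeparable k K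
  exact transcendental_of_isSeparable hK (x := x)
    (Algebra.IsSeparable.isSeparable k x).isIntegral.isAlgebraic

theorem finrank_kaehler (hK : FunFld.IsFunctionField k K) (hg : FunFld.IsGeometric k K) :
    Module.finrank K (KaehlerDifferential k K) = 1 := by
  obtain ⟨x, -, hsep⟩ := exists_separating hK hg
  exact finrank_eq_one_iff'.2 ⟨_, D_ne_zero hK (x := x), fun w =>
    Submodule.mem_span_singleton.1 ((span_D_eq_top (k := k) (x := x)).ge trivial)⟩

/-- A nonzero differential comes from a separating element. -/
theorem isSeparable_of_D_ne_zero (hK : FunFld.IsFunctionField k K) (hg : FunFld.IsGeometric k K) {x : K}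
    (hx : KaehlerDifferential.D k K x ≠ 0) : Algebra.IsSeparable (adjoin k ({x} : Set K)) K := by
  haveI := essFiniteType hK
  haveI : Algebra.EssFiniteType (adjoin k ({x} : Set K)) K := Algebra.EssFiniteType.of_comp k _ _
  rw [← Algebra.FormallyUnramified.iff_isSeparable]
  refine ⟨subsingleton_of_forall_eq 0 fun w => ?_⟩
  obtain ⟨w', rfl⟩ := KaehlerDifferential.map_surjective k (adjoin k ({x} : Set K)) K w
  obtain ⟨c, rfl⟩ := (finrank_eq_one_iff_of_nonzero' _ hx).1 (finrank_kaehler hK hg) w'
  rw [map_smul, KaehlerDifferential.map_D]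
  rw [show algebraMap K K x = algebraMap (adjoin k ({x} : Set K)) K ⟨x, mem_adjoin_simple_self k x⟩ from rfl,
    Derivation.map_algebraMap, smul_zero]

section CharP

variable (p : ℕ) [Fact p.Prime] [CharP K p]

local notation "M" => adjoin k (Set.range fun y : K => y ^ p)

theorem pow_mem (y : K) : y ^ p ∈ M := subset_adjoin _ _ ⟨y, rfl⟩

theorem D_eq_zero {z : K} (hz : z ∈ M) : KaehlerDifferential.D k K z = 0 := by
  induction hz using IntermediateField.adjoin_induction with
  | mem w hw =>
    obtain ⟨y, rfl⟩ := hw
    rw [Derivation.leibniz_pow, ← Nat.cast_smul_eq_nsmul K, CharP.cast_eq_zero K p, zero_smul]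
  | algebraMap c => exact Derivation.map_algebraMap _ c
  | add a b _ _ ha hb => rw [map_add, ha, hb, add_zero]
  | inv a _ ha => rw [Derivation.leibniz_inv, ha, smul_zero]
  | mul a b _ _ ha hb => rw [Derivation.leibniz, ha, hb, smul_zero, smul_zero, add_zero]

theorem isPurelyInseparable_M : IsPurelyInseparable M K :=
  (isPurelyInseparable_iff_pow_mem M p).2 fun z => ⟨1, ⟨⟨_, pow_mem p z⟩, (pow_one p).symm ▸ rfl⟩⟩

variable (hK : FunFld.IsFunctionField k K) (x : K) [Algebra.IsSeparable (adjoin k ({x} : Set K)) K]

include hK in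
theorem adjoin_M_eq_top : adjoin M ({x} : Set K) = ⊤ := by
  set L := adjoin M ({x} : Set K)
  set E := adjoin k ({x} : Set K)
  haveI : IsPurelyInseparable L K :=
    (isPurelyInseparable_iff_pow_mem L p).2 fun z =>
      ⟨1, ⟨⟨_, L.algebraMap_mem ⟨_, pow_mem p z⟩⟩, (pow_one p).symm ▸ rfl⟩⟩
  have hle : E ≤ L.restrictScalars k := by
    rw [adjoin_le_iff, Set.singleton_subset_iff]
    exact mem_adjoin_simple_self M x
  let ι : E →+* L := (inclusion hle).toRingHom
  haveI : Algebra.IsSeparable L K := ⟨fun z => by
    have hsep := Algebra.IsSeparable.isSeparable E z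
    refine (Polynomial.Separable.map hsep (f := ι)).of_dvd (minpoly.dvd L z ?_)
    rw [aeval_def, eval₂_map, show (algebraMap L K).comp ι = algebraMap E K from RingHom.ext fun _ => rfl,
      ← aeval_def, minpoly.aeval]⟩
  rw [eq_top_iff]
  intro z _
  obtain ⟨c, rfl⟩ := IsPurelyInseparable.surjective_algebraMap_of_isSeparable L K z
  exact c.2

include hK in
theorem finrank_M : Module.finrank M K = p ∧ minpoly M x = X ^ p - C ⟨x ^ p, pow_mem p x⟩ := by
  have hp : p.Prime := Fact.out
  have hirr : Irreducible (X ^ p - C (⟨x ^ p, pow_mem p x⟩ : M)) := by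
    refine X_pow_sub_C_irreducible_of_prime hp fun b hb => ?_
    have hbx : (b : K) = x := frobenius_inj K p (congrArg Subtype.val hb)
    exact D_ne_zero hK (x := x) (hbx ▸ D_eq_zero p b.2)
  have hmin := (minpoly.eq_of_irreducible_of_monic hirr (x := x) (by simp)
    (monic_X_pow_sub_C _ hp.ne_zero)).symm
  have hint : IsIntegral M x := (minpoly.ne_zero_iff).1 (by rw [hmin]; exact hirr.ne_zero)
  refine ⟨?_, hmin⟩
  rw [← IntermediateField.finrank_top', ← adjoin_M_eq_top p hK x, adjoin.finrank hint, hmin,
    natDegree_X_pow_sub_C]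

include x hK in
theorem mem_M_of_D_eq_zero {z : K} (hz : KaehlerDifferential.D k K z = 0) : z ∈ M := by
  have hp : p.Prime := Fact.out
  obtain ⟨-, hmin⟩ := finrank_M p hK x
  have hint : IsIntegral M x := (minpoly.ne_zero_iff).1 (by
    rw [hmin]; exact (monic_X_pow_sub_C _ hp.ne_zero).ne_zero)
  have hzL : z ∈ Algebra.adjoin M ({x} : Set K) := by
    rw [← adjoin_simple_toSubalgebra_of_isAlgebraic hint.isAlgebraic, adjoin_M_eq_top p hK x]
    trivial
  rw [Algebra.adjoin_singleton_eq_range_aeval] at hzL
  obtain ⟨g, rfl⟩ := hzL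
  set f := g %ₘ minpoly M x
  have hfg : aeval x f = aeval x g := aeval_modByMonic_eq_self_of_root (minpoly.aeval M x)
  change aeval x g ∈ M
  change KaehlerDifferential.D k K (aeval x g) = 0 at hz
  rw [← hfg] at hz ⊢
  have hdeg : f.natDegree < p := by
    have h := natDegree_modByMonic_lt g (minpoly.monic hint) (minpoly.ne_one M x)
    rwa [hmin, natDegree_X_pow_sub_C, ← hmin] at h
  have hd : KaehlerDifferential.D k K (aeval x f) =
      aeval x (derivative f) • KaehlerDifferential.D k K x := by
    have h := D_eval_sub_mem (k := k) ⊥ (f.map (algebraMap M K)) x fun i => by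
      rw [coeff_map, Submodule.mem_bot]
      exact D_eq_zero p (f.coeff i).2
    rw [Submodule.mem_bot, sub_eq_zero, derivative_map, eval_map, eval_map] at h
    exact h
  rw [hd, smul_eq_zero] at hz
  have hder : derivative f = 0 := by
    by_contra hne
    have h1 := natDegree_le_of_dvd (minpoly.dvd M x (hz.resolve_right (D_ne_zero hK (x := x)))) hne
    rw [hmin, natDegree_X_pow_sub_C] at h1
    have := natDegree_derivative_le f
    omega
  have hf0 : f.natDegree = 0 := by
    by_contra h0
    have h1 := congrArg (fun q => q.coeff (f.natDegree - 1)) hder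
    simp only [coeff_derivative, coeff_zero] at h1
    rw [Nat.sub_add_cancel (Nat.pos_of_ne_zero h0), coeff_natDegree, mul_eq_zero,
      leadingCoeff_eq_zero] at h1
    rcases h1 with h1 | h1
    · exact h0 (by rw [h1, natDegree_zero])
    · rw [← Nat.cast_add_one, Nat.sub_add_cancel (Nat.pos_of_ne_zero h0)] at h1
      haveI : CharP M p := (algebraMap M K).charP (algebraMap M K).injective p
      have := Nat.le_of_dvd (Nat.pos_of_ne_zero h0) ((CharP.cast_eq_zero_iff M p _).1 h1)
      omega
  rw [eq_C_of_natDegree_eq_zero hf0, aeval_C]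
  exact (f.coeff 0).2

end CharP

end Groth.Agent.H23Geom
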