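import Mathlib
import Groth.Agent.H23Geom.Separating
import Groth.Agent.H23Ext.Constants

/-!
Criteria for a function field to be geometric.
-/

set_option autoImplicit false

universe u v

set_option synthInstance.maxHeartbeats 200000
set_option maxHeartbeats 1000000
set_option synthInstance.maxSize 2048

open IntermediateField Polynomial TensorProduct

namespace Groth.Agent.H23Geom

variable {k : Type u} {K : Type v} [Field k] [Field K] [Algebra k K]

/-- An irreducible polynomial over `k` stays irreducible over `K` when `k` is algebraically closed in `K`. -/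
theorem irreducible_map (hcl : ∀ y : K, IsAlgebraic k y → y ∈ Set.range (algebraMap k K))
    {f : k[X]} (hm : f.Monic) (hi : Irreducible f) : Irreducible (f.map (algebraMap k K)) := by
  have hnu : ¬ IsUnit (f.map (algebraMap k K)) := fun h => by
    have := natDegree_eq_zero_of_isUnit h
    rw [natDegree_map] at this
    exact hi.natDegree_pos.ne' this
  obtain ⟨g, hgm, hgi, hgd⟩ := exists_monic_irreducible_factor _ hnu
  have hl : g ∈ lifts (algebraMap k K) := by
    rw [lifts_iff_coeff_lifts]
    exact fun n => hcl _ (isIntegral_coeff_of_dvd f g hm hgm hgd n).isAlgebraic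
  obtain ⟨g₀, hg₀, -, hg₀m⟩ := lifts_and_degree_eq_and_monic hl hgm
  rw [← hg₀, map_dvd_map _ (algebraMap k K).injective hg₀m] at hgd
  have hu : ¬ IsUnit g₀ := fun h => hgi.not_isUnit (hg₀ ▸ h.map (mapRingHom (algebraMap k K)))
  rw [← eq_of_monic_of_associated hg₀m hm ((hi.dvd_iff.1 hgd).resolve_left hu).symm, hg₀]
  exact hgi

/-- A finite simple extension tensored with `K` is a field. -/
theorem isField_of_powerBasis (hcl : ∀ y : K, IsAlgebraic k y → y ∈ Set.range (algebraMap k K))
    {k' : Type*} [Field k'] [Algebra k k'] (pb : PowerBasis k k') : IsField (k' ⊗[k] K) := by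
  haveI := pb.finite
  have hint : IsIntegral k pb.gen := IsIntegral.of_finite k _
  set f := (minpoly k pb.gen).map (algebraMap k K)
  haveI : Fact (Irreducible f) := ⟨irreducible_map hcl (minpoly.monic hint) (minpoly.irreducible hint)⟩
  have hroot : aeval (AdjoinRoot.root f) (minpoly k pb.gen) = 0 := by
    rw [← aeval_map_algebraMap K, AdjoinRoot.aeval_eq, AdjoinRoot.mk_self]
  let e : k' →ₐ[k] AdjoinRoot f := pb.lift _ hroot
  let ψ : K ⊗[k] k' →ₐ[K] AdjoinRoot f :=
    Algebra.TensorProduct.lift (Algebra.ofId K (AdjoinRoot f)) e fun _ _ => Commute.all _ _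
  have hsurj : Function.Surjective ψ := by
    rw [← AlgHom.range_eq_top, eq_top_iff, ← AdjoinRoot.adjoinRoot_eq_top, Algebra.adjoin_le_iff,
      Set.singleton_subset_iff]
    exact ⟨1 ⊗ₜ pb.gen, by simp [ψ, e, pb.lift_gen]⟩
  haveI := (AdjoinRoot.powerBasis (f := f) (Fact.out : Irreducible f).ne_zero).finite
  have hfr : Module.finrank K (K ⊗[k] k') = Module.finrank K (AdjoinRoot f) := by
    rw [Module.finrank_baseChange, pb.finrank, PowerBasis.finrank
      (AdjoinRoot.powerBasis (f := f) (Fact.out : Irreducible f).ne_zero), AdjoinRoot.powerBasis_dim,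
      natDegree_map, pb.natDegree_minpoly]
  have hbij : Function.Bijective ψ :=
    ⟨(LinearMap.injective_iff_surjective_of_finrank_eq_finrank hfr (f := ψ.toLinearMap)).2 hsurj, hsurj⟩
  exact MulEquiv.isField (Field.toIsField (AdjoinRoot f))
    ((Algebra.TensorProduct.comm k k' K).toMulEquiv.trans (AlgEquiv.ofBijective ψ hbij).toMulEquiv)

theorem isGeometric_of_perfectField [PerfectField k] (hK : FunFld.IsFunctionField k K) :
    FunFld.IsGeometric k K := by
  intro k' _ _ hfin
  exact isField_of_powerBasis hK.2 (Field.powerBasisOfFiniteOfSeparable k k')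

/-- `k'` and `k(x)` are linearly disjoint. -/
theorem isField_adjoin_tensor {x : K} (hx : Transcendental k x) (k' : Type*) [Field k'] [Algebra k k']
    [FiniteDimensional k k'] :
    ∃ T : IntermediateField (adjoin k ({x} : Set K)) (AlgebraicClosure K),
      Nonempty (((adjoin k ({x} : Set K)) ⊗[k] k') ≃ₐ[adjoin k ({x} : Set K)] T) := by
  set E := adjoin k ({x} : Set K)
  let Ω := AlgebraicClosure K
  let e : k' →ₐ[k] Ω := IsAlgClosed.lift
  let ψ : E ⊗[k] k' →ₐ[E] Ω :=
    Algebra.TensorProduct.lift (Algebra.ofId E Ω) e fun _ _ => Commute.all _ _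
  let b := Module.finBasis k k'
  have hx' : Transcendental k (algebraMap K Ω x) := fun h =>
    hx ((isAlgebraic_algebraMap_iff (algebraMap K Ω).injective).1 h)
  have hmap : ∀ w : E, algebraMap E Ω w ∈ adjoin k ({algebraMap K Ω x} : Set Ω) := fun w => by
    have h : algebraMap K Ω (w : K) ∈ E.map (IsScalarTower.toAlgHom k K Ω) := ⟨w, w.2, rfl⟩
    rw [adjoin_map, Set.image_singleton] at h
    exact h
  let c : Fin (Module.finrank k k') → Groth.Agent.H23Ext.cst k Ω := fun i =>
    ⟨e (b i), Groth.Agent.H23Ext.mem_cst.2 ((IsIntegral.of_finite k (b i)).map e).isAlgebraic⟩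
  have hc : LinearIndependent k c := by
    refine LinearIndependent.of_comp (Groth.Agent.H23Ext.cst k Ω).val.toLinearMap ?_
    exact b.linearIndependent.map' e.toLinearMap (LinearMap.ker_eq_bot.2 e.injective)
  have hli := Groth.Agent.H23Ext.linearIndependent_cst hx' c hc
  have hinj : Function.Injective ψ := by
    rw [injective_iff_map_eq_zero]
    intro t ht
    rw [← (Algebra.TensorProduct.basis E b).sum_repr t, map_sum] at ht
    have h0 := Fintype.linearIndependent_iff.1 hli
      (fun i => ⟨_, hmap ((Algebra.TensorProduct.basis E b).repr t i)⟩) (by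
        rw [← ht]
        refine Finset.sum_congr rfl fun i _ => ?_
        rw [map_smul, Algebra.TensorProduct.basis_apply]
        simp [ψ, Algebra.smul_def, c])
    refine (Algebra.TensorProduct.basis E b).repr.injective (Finsupp.ext fun i => ?_)
    rw [map_zero, Finsupp.coe_zero, Pi.zero_apply]
    exact (algebraMap E Ω).injective ((congrArg Subtype.val (h0 i)).trans (map_zero _).symm)
  have hF : IsField ψ.range := by
    haveI : FiniteDimensional E ψ.range := (AlgEquiv.ofInjective ψ hinj).toLinearEquiv.finiteDimensional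
    exact isField_of_isIntegral_of_isField' (R := E) (Field.toIsField E)
  exact ⟨ψ.range.toIntermediateField' hF, ⟨AlgEquiv.ofInjective ψ hinj⟩⟩

theorem isReduced_tensor {k E L k' T : Type*} [Field k] [Field E] [Field L] [Field k'] [Field T]
    [Algebra k E] [Algebra k L] [Algebra E L] [IsScalarTower k E L] [Algebra k k'] [Algebra E T]
    [Algebra.IsSeparable E L] [FiniteDimensional E L] (e : E ⊗[k] k' ≃ₐ[E] T) :
    IsReduced (k' ⊗[k] L) := by
  haveI := Algebra.FormallyUnramified.of_isSeparable E L
  haveI : IsReduced (T ⊗[E] L) := Algebra.FormallyUnramified.isReduced_of_field T _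
  let g₁ : k' ⊗[k] L ≃+* L ⊗[k] k' := (Algebra.TensorProduct.comm k k' L).toRingEquiv
  let g₂ : L ⊗[k] k' ≃+* L ⊗[E] (E ⊗[k] k') :=
    (Algebra.TensorProduct.cancelBaseChange k E L L k').symm.toRingEquiv
  let g₃ : L ⊗[E] (E ⊗[k] k') ≃+* L ⊗[E] T :=
    (Algebra.TensorProduct.congr (AlgEquiv.refl (R := E) (A₁ := L)) e).toRingEquiv
  let g₄ : L ⊗[E] T ≃+* T ⊗[E] L := (Algebra.TensorProduct.comm E L T).toRingEquiv
  exact isReduced_of_injective (((g₁.trans g₂).trans g₃).trans g₄) (RingEquiv.injective _)

theorem isField_of_pow_mem {R S : Type*} [CommRing R] [Nontrivial R] [IsReduced R] [Semiring S]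
    (hS : IsField S) (f : S →+* R) (h : ∀ r : R, ∃ N : ℕ, N ≠ 0 ∧ ∃ s, f s = r ^ N) : IsField R := by
  refine ⟨exists_pair_ne _, mul_comm, fun {r} hr => ?_⟩
  obtain ⟨N, hN, s, hs⟩ := h r
  have hs0 : s ≠ 0 := fun h0 => hr (eq_zero_of_pow_eq_zero (by rw [← hs, h0, map_zero]))
  obtain ⟨t, ht⟩ := hS.mul_inv_cancel hs0
  have hu : IsUnit (r ^ N) := hs ▸ isUnit_iff_exists_inv.2 ⟨f t, by rw [← map_mul, ht, map_one]⟩
  exact ((isUnit_pow_iff hN).1 hu).exists_right_inv

/-- A separably generated field with algebraically closed constants is geometric. -/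
theorem isGeometric_of_separating (hcl : ∀ y : K, IsAlgebraic k y → y ∈ Set.range (algebraMap k K))
    {x : K} (hx : Transcendental k x) [Algebra.IsSeparable (adjoin k ({x} : Set K)) K]
    [FiniteDimensional (adjoin k ({x} : Set K)) K] : FunFld.IsGeometric k K := by
  intro k' _ _ hfin
  set E := adjoin k ({x} : Set K)
  -- reduced
  obtain ⟨T, ⟨eT⟩⟩ := isField_adjoin_tensor hx k'
  haveI : IsReduced (k' ⊗[k] K) := isReduced_tensor eT
  -- a power of every element lies in the separable part
  set ks := separableClosure k k'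
  have hF : IsField (ks ⊗[k] K) := isField_of_powerBasis hcl (Field.powerBasisOfFiniteOfSeparable k ks)
  let ι : ks ⊗[k] K →+* k' ⊗[k] K := (Algebra.TensorProduct.map ks.val (AlgHom.id k K)).toRingHom
  obtain ⟨q, hq⟩ := ExpChar.exists k
  haveI : ExpChar ks q := expChar_of_injective_algebraMap (algebraMap k ks).injective q
  haveI : Nontrivial (k' ⊗[k] K) := Module.FaithfullyFlat.lTensor_nontrivial k k' K
  haveI : ExpChar (k' ⊗[k] K) q := expChar_of_injective_algebraMap (algebraMap k _).injective q
  have hpow : ∀ r : k' ⊗[k] K, ∃ n : ℕ, r ^ q ^ n ∈ ι.range := by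
    intro r
    induction r using TensorProduct.induction_on with
    | zero => exact ⟨0, by rw [pow_zero, pow_one]; exact zero_mem _⟩
    | tmul a b =>
      obtain ⟨n, c, hc⟩ := IsPurelyInseparable.pow_mem ks q a
      exact ⟨n, c ⊗ₜ (b ^ q ^ n), by
        simp only [ι, AlgHom.toRingHom_eq_coe, RingHom.coe_coe, Algebra.TensorProduct.map_tmul,
          AlgHom.id_apply, Algebra.TensorProduct.tmul_pow]
        rw [← hc]; rfl⟩
    | add a b ha hb =>
      obtain ⟨n, hn⟩ := ha
      obtain ⟨m, hm⟩ := hb
      refine ⟨n + m, ?_⟩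
      rw [add_pow_expChar_pow, pow_add, pow_mul]
      refine add_mem (_root_.pow_mem hn _) ?_
      rw [mul_comm, pow_mul]
      exact _root_.pow_mem hm _
  refine isField_of_pow_mem hF ι fun r => ?_
  obtain ⟨n, s, hs⟩ := hpow r
  exact ⟨q ^ n, (expChar_pow_pos k q n).ne', s, hs⟩

variable {k' : Type u} {K' : Type v} [Field k'] [Field K'] [Algebra k k'] [Algebra K K'] [Algebra k' K']
  [Algebra k K'] [IsScalarTower k k' K'] [IsScalarTower k K K']

theorem isGeometric_finite_separable [FiniteDimensional K K'] [Algebra.IsSeparable K K']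
    (hK : FunFld.IsFunctionField k K) (hg : FunFld.IsGeometric k K)
    (hK' : FunFld.IsFunctionField k' K') : FunFld.IsGeometric k' K' := by
  obtain ⟨x, hx, hsep⟩ := exists_separating hK hg
  haveI := Groth.Agent.H23FunFld.finiteDimensional_adjoin hK hx
  set E := adjoin k ({x} : Set K)
  set E' := adjoin k' ({algebraMap K K' x} : Set K')
  haveI : Algebra.IsSeparable E K' := Algebra.IsSeparable.trans E K K'
  have hle : ∀ w : E, algebraMap E K' w ∈ E' := fun w => by
    have h : algebraMap K K' (w : K) ∈ E.map (IsScalarTower.toAlgHom k K K') := ⟨w, w.2, rfl⟩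
    rw [adjoin_map, Set.image_singleton] at h
    have hsub : adjoin k ({algebraMap K K' x} : Set K') ≤ E'.restrictScalars k := by
      rw [adjoin_le_iff, Set.singleton_subset_iff]
      exact mem_adjoin_simple_self k' _
    exact hsub h
  let ι : E →+* E' := (algebraMap E K').codRestrict E'.toSubalgebra.toSubring hle
  haveI : Algebra.IsSeparable E' K' := ⟨fun z => by
    refine (Polynomial.Separable.map (Algebra.IsSeparable.isSeparable E z) (f := ι)).of_dvd
      (minpoly.dvd E' z ?_)
    rw [aeval_def, eval₂_map, show (algebraMap E' K').comp ι = algebraMap E K' from RingHom.ext fun _ => rfl,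
      ← aeval_def, minpoly.aeval]⟩
  have hx' := transcendental_of_isSeparable hK' (x := algebraMap K K' x)
  haveI := Groth.Agent.H23FunFld.finiteDimensional_adjoin hK' hx'
  exact isGeometric_of_separating hK'.2 hx'

/-- A subfield of a geometric function field is geometric. -/
theorem isGeometric_of_le (hK : FunFld.IsFunctionField k K) (hg : FunFld.IsGeometric k K)
    (K₀ : IntermediateField k K) (h₀ : ∃ x ∈ K₀, Transcendental k x) :
    FunFld.IsFunctionField k K₀ ∧ FunFld.IsGeometric k K₀ := by
  obtain ⟨x, hx₀, hx⟩ := h₀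
  have hx' : Transcendental k (⟨x, hx₀⟩ : K₀) := fun h =>
    hx (h.algebraMap)
  refine ⟨⟨⟨_, hx', ?_⟩, fun y hy => ?_⟩, fun k' _ _ hfin => ?_⟩
  · haveI := Groth.Agent.H23FunFld.finiteDimensional_adjoin hK hx
    set E := adjoin k ({(⟨x, hx₀⟩ : K₀)} : Set K₀)
    set E₁ := adjoin k ({x} : Set K)
    have hmap : E.map K₀.val = E₁ := by rw [adjoin_map, Set.image_singleton]; rfl
    haveI : FiniteDimensional E K := by
      let ε : E₁ →+* E := RingHom.comp (E.equivMap K₀.val).symm.toRingHom (inclusion hmap.ge).toRingHom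
      letI := ε.toAlgebra
      haveI : IsScalarTower E₁ E K := IsScalarTower.of_algebraMap_eq fun w => by
        have h := (E.equivMap K₀.val).apply_symm_apply (inclusion hmap.ge w)
        exact (congrArg Subtype.val h).symm
      exact Module.Finite.of_restrictScalars_finite E₁ E K
    exact Module.Finite.left E K₀ K
  · obtain ⟨c, hc⟩ := hK.2 (y : K) (hy.algebraMap)
    exact ⟨c, Subtype.ext hc⟩
  · let ι : k' ⊗[k] K₀ →ₐ[k] k' ⊗[k] K := Algebra.TensorProduct.map (AlgHom.id k k') K₀.val
    have hinj : Function.Injective ι :=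
      Module.Flat.lTensor_preserves_injective_linearMap K₀.val.toLinearMap K₀.val.injective
    letI : Field (k' ⊗[k] K) := (hg k' hfin).toField
    haveI : IsDomain (k' ⊗[k] K₀) := hinj.isDomain ι.toRingHom
    haveI : IsDomain (K₀ ⊗[k] k') :=
      (Algebra.TensorProduct.comm k K₀ k').injective.isDomain (Algebra.TensorProduct.comm k K₀ k').toAlgHom.toRingHom
    exact MulEquiv.isField (isField_of_isIntegral_of_isField' (R := K₀) (Field.toIsField K₀))
      (Algebra.TensorProduct.comm k k' K₀).toMulEquiv

/-- Constant field extension. -/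
theorem constExt [FiniteDimensional k k']
    (h : Function.Bijective (Algebra.TensorProduct.productMap
      (IsScalarTower.toAlgHom k k' K') (IsScalarTower.toAlgHom k K K')))
    (hK : FunFld.IsFunctionField k K) (hg : FunFld.IsGeometric k K) :
    FunFld.IsFunctionField k' K' ∧ FunFld.IsGeometric k' K' := by
  -- `K'` as a `K`-algebra
  let ψ : K ⊗[k] k' →ₐ[K] K' :=
    Algebra.TensorProduct.lift (Algebra.ofId K K') (IsScalarTower.toAlgHom k k' K') fun _ _ => Commute.all _ _
  have hψ : ∀ t, ψ t = Algebra.TensorProduct.productMap (IsScalarTower.toAlgHom k k' K')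
      (IsScalarTower.toAlgHom k K K') (Algebra.TensorProduct.comm k K k' t) := fun t => by
    induction t using TensorProduct.induction_on with
    | zero => simp
    | tmul a b => simp [ψ, mul_comm]
    | add a b ha hb => simp [ha, hb]
  have hψb : Function.Bijective ψ := by
    rw [show (ψ : K ⊗[k] k' → K') = _ ∘ (Algebra.TensorProduct.comm k K k') from funext hψ]
    exact h.comp (Algebra.TensorProduct.comm k K k').bijective
  let ψe := AlgEquiv.ofBijective ψ hψb
  haveI : FiniteDimensional K K' := ψe.toLinearEquiv.finiteDimensional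
  have hfr : Module.finrank K K' = Module.finrank k k' := by
    rw [← ψe.toLinearEquiv.finrank_eq, Module.finrank_baseChange]
  obtain ⟨⟨x, hx, hfinx⟩, hcl⟩ := hK
  set x' := algebraMap K K' x
  have hx' : Transcendental k' x' := fun hal => by
    haveI : Algebra.IsAlgebraic k k' := Algebra.IsAlgebraic.of_finite k k'
    exact hx ((isAlgebraic_algebraMap_iff (algebraMap K K').injective).1 (hal.restrictScalars k))
  refine ⟨⟨⟨x', hx', ?_⟩, fun y hy => ?_⟩, fun k'' _ _ hfin'' => ?_⟩
  · set E := adjoin k ({x} : Set K)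
    set E' := adjoin k' ({x'} : Set K')
    haveI : FiniteDimensional E K' := Module.Finite.trans K K'
    have hle : ∀ w : E, algebraMap E K' w ∈ E' := fun w => by
      have h : algebraMap K K' (w : K) ∈ E.map (IsScalarTower.toAlgHom k K K') := ⟨w, w.2, rfl⟩
      rw [adjoin_map, Set.image_singleton] at h
      have hsub : adjoin k ({x'} : Set K') ≤ E'.restrictScalars k := by
        rw [adjoin_le_iff, Set.singleton_subset_iff]
        exact mem_adjoin_simple_self k' _
      exact hsub h
    let ι : E →+* E' := (algebraMap E K').codRestrict E'.toSubalgebra.toSubring hle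
    letI := ι.toAlgebra
    haveI : IsScalarTower E E' K' := IsScalarTower.of_algebraMap_eq fun _ => rfl
    exact Module.Finite.of_restrictScalars_finite E E' K'
  · set g := minpoly k' y
    haveI : Fact (Irreducible g) := ⟨minpoly.irreducible hy.isIntegral⟩
    haveI : FiniteDimensional k' (AdjoinRoot g) := (AdjoinRoot.powerBasis (Fact.out : Irreducible g).ne_zero).finite
    haveI : FiniteDimensional k (AdjoinRoot g) := Module.Finite.trans k' _
    let φ : AdjoinRoot g →ₐ[k] K' := (AdjoinRoot.liftAlgHom g (Algebra.ofId k' K') y (minpoly.aeval k' y)).restrictScalars k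
    let Φ : K ⊗[k] AdjoinRoot g →ₐ[K] K' :=
      Algebra.TensorProduct.lift (Algebra.ofId K K') φ fun _ _ => Commute.all _ _
    have hF : IsField (K ⊗[k] AdjoinRoot g) :=
      MulEquiv.isField (hg (AdjoinRoot g) inferInstance) (Algebra.TensorProduct.comm k K (AdjoinRoot g)).toMulEquiv
    letI := hF.toField
    have hle := LinearMap.finrank_le_finrank_of_injective (f := Φ.toLinearMap) Φ.toRingHom.injective
    rw [Module.finrank_baseChange, hfr, ← Module.finrank_mul_finrank k k' (AdjoinRoot g)] at hle
    have h1 : Module.finrank k' (AdjoinRoot g) = g.natDegree := by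
      rw [PowerBasis.finrank (AdjoinRoot.powerBasis (Fact.out : Irreducible g).ne_zero), AdjoinRoot.powerBasis_dim]
    have hg1 : g.natDegree = 1 := by
      have := minpoly.natDegree_pos hy.isIntegral
      have hb : Module.finrank k' (AdjoinRoot g) ≤ 1 :=
        Nat.le_of_mul_le_mul_left (by rw [mul_one]; exact hle) (Module.finrank_pos (R := k) (M := k'))
      rw [h1] at hb
      show g.natDegree = 1
      exact le_antisymm hb this
    exact minpoly.natDegree_eq_one_iff.1 hg1
  · letI : Algebra k k'' := ((algebraMap k' k'').comp (algebraMap k k')).toAlgebra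
    haveI : IsScalarTower k k' k'' := IsScalarTower.of_algebraMap_eq fun _ => rfl
    haveI : FiniteDimensional k k'' := Module.Finite.trans k' _
    let e : k' ⊗[k] K ≃ₐ[k'] K' := AlgEquiv.ofBijective
      (Algebra.TensorProduct.lift (Algebra.ofId k' K') (IsScalarTower.toAlgHom k K K') fun _ _ => Commute.all _ _) h
    exact MulEquiv.isField (hg k'' inferInstance)
      ((Algebra.TensorProduct.congr (AlgEquiv.refl (R := k') (A₁ := k'')) e.symm).toMulEquiv.trans
        (Algebra.TensorProduct.cancelBaseChange k k' k'' k'' K).toMulEquiv)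

end Groth.Agent.H23Geom
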