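import Mathlib
import Groth.Agent.H23Ext.Over
import Groth.Agent.H23FunFld.Approx

/-!
Almost all places of a finite separable extension of function fields are unramified.
-/

set_option autoImplicit false
set_option linter.unusedSectionVars false
set_option linter.style.haveILetI false
set_option maxHeartbeats 1000000
set_option synthInstance.maxHeartbeats 200000

namespace Groth.Agent.H23Geom

open WithZero Polynomial Groth.Agent.H23Ext
open Groth.Agent.H23FunFld (val_eq_exp val_le_one_iff val_lt_one_iff exists_val_eq approximation place_eq_of_le)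

variable {k K K' : Type*} [Field k] [Field K] [Field K'] [Algebra k K] [Algebra K K'] [Algebra k K']
  [IsScalarTower k K K'] [FiniteDimensional K K']

omit [FiniteDimensional K K'] in
theorem isUnit_O_iff {L : Type*} [Field L] [Algebra k L] (P : FunFld.Place k L) (z : P.O) :
    IsUnit z ↔ P.1 (z : L) = 1 :=
  Valuation.Integers.isUnit_iff_valuation_eq_one (Valuation.integer.integers P.1)

omit [FiniteDimensional K K'] in
/-- The inclusion of valuation rings. -/
def incl {Q : FunFld.Place k K'} {P : FunFld.Place k K} (h : FunFld.IsOver Q P) : P.O →+* Q.O :=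
  ((algebraMap K K').comp P.O.subtype).codRestrict Q.O fun z =>
    (le_one_iff_of_isOver h (z : K)).2 z.2

/-- The inclusion of valuation rings is local. -/
theorem isLocalHom_incl {Q : FunFld.Place k K'} {P : FunFld.Place k K} (h : FunFld.IsOver Q P) :
    IsLocalHom (incl h) := by
  refine ⟨fun z hz => ?_⟩
  obtain ⟨e, he⟩ := h
  have hQ : Q.1 (algebraMap K K' (z : K)) = 1 :=
    (Valuation.Integers.isUnit_iff_valuation_eq_one (Valuation.integer.integers Q.1)).1 hz
  rw [he, pow_eq_one_iff_of_nonneg zero_le (IsOverWith.pos he).ne'] at hQ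
  exact (Valuation.Integers.isUnit_iff_valuation_eq_one (Valuation.integer.integers P.1)).2 hQ

theorem isSeparable_of_generator {F L : Type*} [Field F] [Field L] [Algebra F L] {b : L}
    (hb : IsSeparable F b) (h : ∀ r : L, ∃ q : F[X], aeval b q = r) : Algebra.IsSeparable F L := by
  have htop : IntermediateField.adjoin F ({b} : Set L) = ⊤ := by
    rw [eq_top_iff]
    intro r _
    obtain ⟨q, rfl⟩ := h r
    exact IntermediateField.algebra_adjoin_le_adjoin F _ (Polynomial.aeval_mem_adjoin_singleton F b)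
  have := (IntermediateField.isSeparable_adjoin_simple_iff_isSeparable F L).2 hb
  rw [htop] at this
  exact AlgEquiv.Algebra.isSeparable (IntermediateField.topEquiv)

/-- A function integral at all places over `P` is integral over `O_P`. -/
theorem isIntegral_of_forall_over (hK : IsFF k K) (P : FunFld.Place k K) {a : K'}
    (ha : ∀ Q : FunFld.Place k K', FunFld.IsOver Q P → Q.1 a ≤ 1) : IsIntegral P.O a := by
  by_contra h
  set R := (integralClosure P.O K').toSubring
  haveI : IsIntegrallyClosedIn R K' :=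
    inferInstanceAs (IsIntegrallyClosedIn (integralClosure P.O K') K')
  obtain ⟨V, hRV, haV⟩ := Subring.exists_le_valuationSubring_of_isIntegrallyClosedIn (R := R) h
  have hPV : ∀ z : K, z ∈ P.O → algebraMap K K' z ∈ V := fun z hz =>
    hRV ((integralClosure P.O K').algebraMap_mem ⟨z, hz⟩)
  obtain ⟨Q, hQ⟩ := exists_place_of_valuationSubring' (isFF_extension (K' := K') hK) V
    (fun c => by rw [IsScalarTower.algebraMap_apply k K K']; exact hPV _ (P.2.1 c))
    (fun htop => haV (htop ▸ ValuationSubring.mem_top a))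
  obtain ⟨P', hP'⟩ := exists_below hK Q
  have hPP : P = P' := place_eq_of_le fun z hz =>
    (le_one_iff_of_isOver hP' z).1 ((hQ _).2 (hPV z hz))
  exact haV ((hQ a).1 (ha Q (hPP ▸ hP')))

/-- The ramification index is one and residue fields stay separable. -/
theorem exists_bad (hK : FunFld.IsFunctionField k K) [Algebra.IsSeparable K K'] :
    ∃ S : Set (FunFld.Place k K'), S.Finite ∧ ∀ Q ∉ S, ∀ P : FunFld.Place k K, FunFld.IsOver Q P →
      FunFld.IsOverWith Q P 1 ∧ (Algebra.IsSeparable k (IsLocalRing.ResidueField P.O) →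
        Algebra.IsSeparable k (IsLocalRing.ResidueField Q.O)) := by
  classical
  let B := Field.powerBasisOfFiniteOfSeparable K K'
  set y := B.gen
  set g := minpoly K y
  set d := Algebra.discr K B.basis
  have hd : d ≠ 0 := Algebra.discr_not_zero_of_basis K B.basis
  have hgm : g.Monic := minpoly.monic (IsIntegral.of_finite K y)
  let T : Set (FunFld.Place k K) :=
    (⋃ i ∈ Finset.range (g.natDegree + 1), Function.support fun P => P.ord (g.coeff i)) ∪
      Function.support fun P => P.ord d
  have hT : T.Finite := ((Finset.range (g.natDegree + 1)).finite_toSet.biUnion fun i _ =>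
    finite_support hK.1 _).union (finite_support hK.1 _)
  set δ := aeval y (derivative g)
  have hδ : δ ≠ 0 := (Algebra.IsSeparable.isSeparable K y).aeval_derivative_ne_zero (minpoly.aeval K y)
  refine ⟨(⋃ P ∈ T, {Q | FunFld.IsOver Q P}) ∪ Function.support fun Q => Q.ord δ,
    (hT.biUnion fun P _ => finite_isOver hK P).union (finite_support (isFF_extension hK.1) _),
    fun Q hQ P hQP => ?_⟩
  simp only [Set.mem_union, Set.mem_iUnion, Set.mem_setOf_eq, Function.mem_support, not_or,
    not_exists, not_not] at hQ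
  obtain ⟨hQT, hQδ⟩ := hQ
  have hPT : P ∉ T := fun hP => hQT P hP hQP
  simp only [T, Set.mem_union, Set.mem_iUnion, Finset.mem_range, Function.mem_support, not_or,
    not_exists, not_not] at hPT
  obtain ⟨hcoef, hPd⟩ := hPT
  -- `g` has coefficients in `O_P` and `d` is a unit
  have hPd1 : P.1 d = 1 := by rw [val_eq_exp P hd, hPd]; simp
  have hlift : g ∈ lifts (algebraMap P.O K) := by
    rw [lifts_iff_coeff_lifts]
    intro i
    rcases eq_or_ne (g.coeff i) 0 with h0 | h0
    · exact ⟨0, by rw [map_zero, h0]⟩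
    refine ⟨⟨g.coeff i, (val_le_one_iff P h0).2 (ge_of_eq ?_)⟩, rfl⟩
    refine hcoef i ?_
    exact Nat.lt_succ_of_le (le_natDegree_of_ne_zero h0)
  obtain ⟨g₀, hg₀, -, hg₀m⟩ := lifts_and_degree_eq_and_monic hlift hgm
  have hg₀y : aeval y g₀ = 0 := by
    rw [← aeval_map_algebraMap K, hg₀]; exact minpoly.aeval K y
  have hint : IsIntegral P.O y := ⟨g₀, hg₀m, by rw [← aeval_def]; exact hg₀y⟩
  have hmem : ∀ a : K', (∀ R : FunFld.Place k K', FunFld.IsOver R P → R.1 a ≤ 1) →
      ∃ h : P.O[X], aeval y h = a := by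
    intro a ha
    have h1 := Algebra.discr_mul_isIntegral_mem_adjoin K (B := B) hint
      (isIntegral_of_forall_over hK.1 P ha)
    rw [Algebra.adjoin_singleton_eq_range_aeval] at h1
    obtain ⟨h, hh⟩ := h1
    refine ⟨C ⟨d⁻¹, show P.1 d⁻¹ ≤ 1 by rw [map_inv₀, hPd1, inv_one]⟩ * h, ?_⟩
    rw [map_mul, aeval_C]
    refine (congrArg _ hh).trans ?_
    rw [Algebra.smul_def, ← mul_assoc]
    change algebraMap K K' d⁻¹ * algebraMap K K' d * a = a
    rw [← map_mul, inv_mul_cancel₀ hd, map_one, one_mul]
  -- evaluation at `y` in `O_Q`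
  set ι := incl hQP
  haveI := isLocalHom_incl hQP
  have hy : Q.1 y ≤ 1 := by
    letI := ι.toAlgebra
    haveI : IsScalarTower P.O Q.O K' := IsScalarTower.of_algebraMap_eq fun _ => rfl
    obtain ⟨w, hw⟩ := IsIntegrallyClosed.algebraMap_eq_of_integral (hint.tower_top (A := Q.O))
    exact hw ▸ w.2
  set yQ : Q.O := ⟨y, hy⟩
  have hev : ∀ h : P.O[X], ((eval₂ ι yQ h : Q.O) : K') = aeval y h := fun h => by
    rw [← ValuationSubring.subtype_apply, hom_eval₂, aeval_def]
    rfl
  set ψ : IsLocalRing.ResidueField P.O →+* IsLocalRing.ResidueField Q.O :=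
    IsLocalRing.ResidueField.map ι
  set yb := IsLocalRing.residue Q.O yQ
  have hbar : ∀ h : P.O[X],
      IsLocalRing.residue Q.O (eval₂ ι yQ h) = eval₂ ψ yb (h.map (IsLocalRing.residue P.O)) := fun h => by
    rw [hom_eval₂, eval₂_map]
    rfl
  have hres0 : ∀ z : Q.O, IsLocalRing.residue Q.O z = 0 ↔ Q.1 (z : K') < 1 := fun z => by
    rw [IsLocalRing.residue_eq_zero_iff, IsLocalRing.mem_maximalIdeal, mem_nonunits_iff,
      isUnit_O_iff]
    exact ⟨fun h => lt_of_le_of_ne z.2 h, fun h => h.ne⟩
  -- residue fields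
  let S₀ := (finite_isOver (K' := K') hK P).toFinset
  have hS₀ : ∀ R, R ∈ S₀ ↔ FunFld.IsOver R P := fun R => (finite_isOver hK P).mem_toFinset
  have hexp : exp (-1 : ℤ) < (1 : WithZero (Multiplicative ℤ)) := by
    rw [← exp_zero, exp_lt_exp]; omega
  have hgen : ∀ r : IsLocalRing.ResidueField Q.O, ∃ h : P.O[X],
      eval₂ ψ yb (h.map (IsLocalRing.residue P.O)) = r := by
    intro r
    obtain ⟨r, rfl⟩ := IsLocalRing.residue_surjective r
    obtain ⟨a, ha⟩ := approximation S₀ (fun R => if R = Q then (r : K') else 0) fun _ => -1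
    obtain ⟨h, hh⟩ := hmem a fun R hR => by
      have h1 := ha R ((hS₀ R).2 hR)
      rcases eq_or_ne R Q with rfl | hne
      · rw [if_pos rfl] at h1
        have := R.1.map_add (a - r) r
        rw [sub_add_cancel] at this
        exact this.trans (max_le (h1.trans hexp.le) r.2)
      · rw [if_neg hne, sub_zero] at h1
        exact h1.trans hexp.le
    refine ⟨h, ?_⟩
    rw [← hbar, ← sub_eq_zero, ← map_sub, hres0]
    have h1 := ha Q ((hS₀ Q).2 hQP)
    rw [if_pos rfl, ← hh, ← hev] at h1
    exact h1.trans_lt hexp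
  -- the minimal polynomial of `yb`
  letI := ψ.toAlgebra
  set gb := g₀.map (IsLocalRing.residue P.O)
  have hgb : eval₂ ψ yb gb = 0 := by
    rw [← hbar, hres0, hev, hg₀y, map_zero]
    exact zero_lt_one
  have hintb : IsIntegral (IsLocalRing.ResidueField P.O) yb := ⟨gb, hg₀m.map _, hgb⟩
  set m := minpoly (IsLocalRing.ResidueField P.O) yb
  obtain ⟨c, hc⟩ : m ∣ gb := minpoly.dvd _ yb hgb
  have hder : eval₂ ψ yb (derivative gb) ≠ 0 := by
    rw [derivative_map, ← hbar, Ne, hres0, hev, ← aeval_map_algebraMap K, ← derivative_map, hg₀]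
    change ¬ Q.1 δ < 1
    rw [val_eq_exp Q hδ, hQδ]
    simp
  have hmy : eval₂ ψ yb m = 0 := minpoly.aeval _ yb
  have hm' : eval₂ ψ yb (derivative m) ≠ 0 ∧ eval₂ ψ yb c ≠ 0 := by
    rw [hc, derivative_mul, eval₂_add, eval₂_mul, eval₂_mul, hmy, zero_mul, add_zero] at hder
    exact ⟨left_ne_zero_of_mul hder, right_ne_zero_of_mul hder⟩
  refine ⟨?_, fun hsep => ?_⟩
  · -- `e = 1`
    obtain ⟨e, he⟩ := hQP
    suffices e ≤ 1 by
      have := IsOverWith.pos he
      rwa [show e = 1 by omega] at he
    obtain ⟨s, hs0, hs⟩ := exists_val_eq Q (-1)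
    obtain ⟨a, ha⟩ := approximation S₀ (fun R => if R = Q then s else 0) fun _ => -2
    have hQa : Q.1 a = exp (-1) := by
      have h1 := ha Q ((hS₀ Q).2 ⟨e, he⟩)
      rw [if_pos rfl] at h1
      have h2 : Q.1 (a - s) < Q.1 s := by
        rw [hs]; exact h1.trans_lt (exp_lt_exp.2 (by omega))
      rw [← hs]
      exact Valuation.map_eq_of_sub_lt Q.1 h2
    obtain ⟨h, hh⟩ := hmem a fun R hR => by
      have h1 := ha R ((hS₀ R).2 hR)
      rcases eq_or_ne R Q with rfl | hne
      · exact hQa.le.trans hexp.le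
      · rw [if_neg hne, sub_zero] at h1
        exact h1.trans (le_trans (exp_le_exp.2 (by omega : (-2 : ℤ) ≤ -1)) hexp.le)
    have hsmall : ∀ H : P.O[X], H.map (IsLocalRing.residue P.O) = 0 →
        Q.1 (aeval y H) ≤ exp (-(e : ℤ)) := by
      intro H hH
      rw [aeval_eq_sum_range]
      refine Q.1.map_sum_le fun i _ => ?_
      rw [Algebra.smul_def, map_mul, map_pow]
      refine (mul_le_of_le_one_right zero_le (pow_le_one₀ zero_le hy)).trans ?_
      have h1 := congrArg (fun q => q.coeff i) hH
      simp only [coeff_map, coeff_zero] at h1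
      rw [IsLocalRing.residue_eq_zero_iff, IsLocalRing.mem_maximalIdeal, mem_nonunits_iff,
        isUnit_O_iff] at h1
      change Q.1 (algebraMap K K' ((H.coeff i : P.O) : K)) ≤ _
      rw [he]
      exact Groth.Agent.H23FunFld.pow_le_exp_of_lt_one (lt_of_le_of_ne (H.coeff i).2 h1) e
    have hh0 : eval₂ ψ yb (h.map (IsLocalRing.residue P.O)) = 0 := by
      rw [← hbar, hres0, hev, hh, hQa]; exact hexp
    obtain ⟨u, hu⟩ : m ∣ h.map (IsLocalRing.residue P.O) := minpoly.dvd _ yb hh0
    obtain ⟨M, hM⟩ := map_surjective _ IsLocalRing.residue_surjective m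
    obtain ⟨C₀, hC⟩ := map_surjective _ IsLocalRing.residue_surjective c
    obtain ⟨U, hU⟩ := map_surjective _ IsLocalRing.residue_surjective u
    have hCy : Q.1 (aeval y C₀) = 1 := by
      refine le_antisymm (hev C₀ ▸ (eval₂ ι yQ C₀).2) (not_lt.1 fun hlt => hm'.2 ?_)
      rw [← hC, ← hbar, hres0, hev]
      exact hlt
    have hMy : Q.1 (aeval y M) ≤ exp (-(e : ℤ)) := by
      have h1 := hsmall (g₀ - M * C₀) (by rw [Polynomial.map_sub, Polynomial.map_mul, hM, hC, ← hc, sub_self])
      rw [map_sub, hg₀y, zero_sub, Valuation.map_neg, map_mul, map_mul, hCy, mul_one] at h1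
      exact h1
    have h1 := hsmall (h - M * U) (by rw [Polynomial.map_sub, Polynomial.map_mul, hM, hU, ← hu, sub_self])
    rw [map_sub, hh, map_mul] at h1
    have h2 : Q.1 a ≤ exp (-(e : ℤ)) := by
      have h3 := Q.1.map_add (a - aeval y M * aeval y U) (aeval y M * aeval y U)
      rw [sub_add_cancel] at h3
      refine h3.trans (max_le h1 ?_)
      rw [map_mul]
      exact (mul_le_of_le_one_right zero_le (hev U ▸ (eval₂ ι yQ U).2)).trans hMy
    rw [hQa, exp_le_exp] at h2
    omega
  · -- separability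
    haveI : IsScalarTower k (IsLocalRing.ResidueField P.O) (IsLocalRing.ResidueField Q.O) :=
      IsScalarTower.of_algebraMap_eq fun c => by
        change _ = ψ (IsLocalRing.residue P.O (algebraMap k P.O c))
        rw [IsLocalRing.ResidueField.map_residue]
        exact congrArg _ (Subtype.ext (IsScalarTower.algebraMap_apply k K K' c))
    have hysep : IsSeparable (IsLocalRing.ResidueField P.O) yb := by
      rw [IsSeparable, separable_iff_derivative_ne_zero (minpoly.irreducible hintb)]
      exact fun h0 => hm'.1 (by rw [show derivative m = 0 from h0, eval₂_zero])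
    haveI : Algebra.IsSeparable (IsLocalRing.ResidueField P.O) (IsLocalRing.ResidueField Q.O) :=
      isSeparable_of_generator hysep fun r => (hgen r).elim fun h hh => ⟨_, hh⟩
    exact Algebra.IsSeparable.trans k (IsLocalRing.ResidueField P.O) (IsLocalRing.ResidueField Q.O)

end Groth.Agent.H23Geom
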