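import Mathlib
import Groth.Agent.H23Ext.Semilocal
import Groth.Agent.H23Geom.Criteria

/-!
`k' ⊗ O_P` inside a constant extension.
-/

set_option autoImplicit false
set_option linter.unusedSectionVars false
set_option linter.style.haveILetI false

open scoped TensorProduct

namespace Groth.Agent.H23Geom

open Groth.Agent.H23FunFld Groth.Agent.H23Ext

/-- The module structure underlying the algebra structure on a residue field. -/
noncomputable instance (priority := high) resModule {k K : Type*} [Field k] [Field K] [Algebra k K]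
    (P : FunFld.Place k K) : Module k (IsLocalRing.ResidueField P.O) :=
  (FunFld.Place.algRes P).toModule

theorem isReduced_of_separable (k A L : Type*) [Field k] [Field A] [Field L] [Algebra k A] [Algebra k L]
    [FiniteDimensional k A] [FiniteDimensional k L] (h : Algebra.IsSeparable k L ∨ Algebra.IsSeparable k A) :
    IsReduced (A ⊗[k] L) := by
  rcases h with h | h
  · haveI := Algebra.FormallyUnramified.of_isSeparable k L
    exact Algebra.FormallyUnramified.isReduced_of_field A _
  · haveI := Algebra.FormallyUnramified.of_isSeparable k A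
    haveI : IsReduced (L ⊗[k] A) := Algebra.FormallyUnramified.isReduced_of_field L _
    exact isReduced_of_injective (Algebra.TensorProduct.comm k A L).toRingEquiv (RingEquiv.injective _)

variable {k K K' L : Type*} [Field k] [Field K] [Field K'] [Field L] [Algebra k K] [Algebra K K'] [Algebra k K']
  [IsScalarTower k K K'] [Algebra k L] [FiniteDimensional k L]
  (P : FunFld.Place k K) (j : L →ₐ[k] K')
  (hinj : Function.Injective (Algebra.TensorProduct.productMap (IsScalarTower.toAlgHom k K K') j))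

/-- `O_P` inside `K`. -/
def oHom : P.O →ₐ[k] K :=
  { P.O.subtype with commutes' := fun _ => rfl }

/-- The residue map. -/
noncomputable def resHom : P.O →ₐ[k] IsLocalRing.ResidueField P.O :=
  { IsLocalRing.residue P.O with commutes' := fun _ => rfl }

/-- `O_P ⊗ L → K'`. -/
noncomputable def iota : P.O ⊗[k] L →ₐ[k] K' :=
  (Algebra.TensorProduct.productMap (IsScalarTower.toAlgHom k K K') j).comp
    (Algebra.TensorProduct.map (oHom P) (AlgHom.id k L))

/-- `O_P ⊗ L → F_P ⊗ L`. -/
noncomputable def psi : P.O ⊗[k] L →ₐ[k] IsLocalRing.ResidueField P.O ⊗[k] L :=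
  Algebra.TensorProduct.map (resHom P) (AlgHom.id k L)

theorem iota_tmul (c : P.O) (l : L) : iota P j (c ⊗ₜ l) = algebraMap K K' (c : K) * j l := by
  simp [iota]
  left
  rfl

theorem iota_one_tmul (c : P.O) : iota P j (c ⊗ₜ 1) = algebraMap K K' (c : K) := by
  rw [iota_tmul, map_one, mul_one]

include hinj in
theorem iota_injective : Function.Injective (iota P j) := by
  refine hinj.comp ?_
  exact Module.Flat.rTensor_preserves_injective_linearMap (M := L) (oHom P).toLinearMap Subtype.val_injective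

theorem psi_surjective : Function.Surjective (psi (L := L) P) := by
  intro w
  induction w using TensorProduct.induction_on with
  | zero => exact ⟨0, map_zero _⟩
  | tmul a l =>
    obtain ⟨a, rfl⟩ := IsLocalRing.residue_surjective a
    exact ⟨a ⊗ₜ l, rfl⟩
  | add a b ha hb =>
    obtain ⟨s, rfl⟩ := ha
    obtain ⟨t, rfl⟩ := hb
    exact ⟨s + t, map_add _ _ _⟩

theorem resHom_eq_zero_iff (c : P.O) : resHom P c = 0 ↔ P.1 (c : K) < 1 := by
  change IsLocalRing.residue P.O c = 0 ↔ _
  rw [IsLocalRing.residue_eq_zero_iff, ValuationSubring.valuation_lt_one_iff,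
    ← P.1.isEquiv_valuation_valuationSubring.lt_one_iff_lt_one]

theorem exists_unif : ∃ π : P.O, P.1 (π : K) = WithZero.exp (-1) := by
  obtain ⟨t, -, ht⟩ := exists_val_eq P (-1)
  exact ⟨⟨t, by
    change P.1 t ≤ 1
    rw [ht, ← WithZero.exp_zero, WithZero.exp_le_exp]; omega⟩, ht⟩

variable {P}

theorem exists_mul_of_psi_eq_zero {π : P.O} (hπ : P.1 (π : K) = WithZero.exp (-1)) {t : P.O ⊗[k] L}
    (h : psi P t = 0) : ∃ t' : P.O ⊗[k] L, t = (π ⊗ₜ 1) * t' := by
  classical
  let b := Module.finBasis k L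
  let B := Algebra.TensorProduct.basis P.O b
  have hB : ∀ i, B i = (1 : P.O) ⊗ₜ b i := fun i => Algebra.TensorProduct.basis_apply b i
  have hsum : t = ∑ i, (B.repr t i) ⊗ₜ b i := by
    conv_lhs => rw [← B.sum_repr t]
    refine Finset.sum_congr rfl fun i _ => ?_
    rw [hB, TensorProduct.smul_tmul', smul_eq_mul, mul_one]
  let Bκ := Algebra.TensorProduct.basis (IsLocalRing.ResidueField P.O) b
  have hzero : ∀ i, resHom P (B.repr t i) = 0 := by
    have h0 : ∑ i, resHom P (B.repr t i) • Bκ i = 0 := by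
      rw [← h]
      conv_rhs => rw [hsum, map_sum]
      refine Finset.sum_congr rfl fun i _ => ?_
      rw [Algebra.TensorProduct.basis_apply b i, TensorProduct.smul_tmul', smul_eq_mul, mul_one]
      rfl
    exact fun i => Fintype.linearIndependent_iff.1 Bκ.linearIndependent _ h0 i
  have hπ0 : (π : K) ≠ 0 := fun h0 => by rw [h0, map_zero] at hπ; exact WithZero.exp_ne_zero hπ.symm
  have hdiv : ∀ i, ∃ c : P.O, B.repr t i = π * c := by
    intro i
    refine ⟨⟨(B.repr t i : K) / π, ?_⟩, Subtype.ext (mul_div_cancel₀ _ hπ0).symm⟩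
    change P.1 ((B.repr t i : K) / π) ≤ 1
    rw [map_div₀, hπ, div_eq_mul_inv, ← WithZero.exp_neg, neg_neg]
    have h1 := pow_le_exp_of_lt_one ((resHom_eq_zero_iff P _).1 (hzero i)) 1
    rw [pow_one] at h1
    refine (mul_le_mul' h1 le_rfl).trans ?_
    rw [← WithZero.exp_add]; simp
  choose c hc using hdiv
  refine ⟨∑ i, c i ⊗ₜ b i, ?_⟩
  conv_lhs => rw [hsum]
  rw [Finset.mul_sum]
  refine Finset.sum_congr rfl fun i _ => ?_
  rw [Algebra.TensorProduct.tmul_mul_tmul, one_mul, hc]

include hinj in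
/-- If `ι t / π` is integral then `ψ t` is nilpotent. -/
theorem isNilpotent_psi [Algebra P.O K'] [IsScalarTower P.O K K'] {π : P.O}
    (hπ : P.1 (π : K) = WithZero.exp (-1)) {t : P.O ⊗[k] L} {y : K'} (hy : IsIntegral P.O y)
    (h : iota P j t = algebraMap K K' (π : K) * y) : IsNilpotent (psi P t) := by
  obtain ⟨p, hm, hp⟩ := hy
  set N := p.natDegree
  set s : P.O ⊗[k] L := -∑ i ∈ Finset.range N, ((p.coeff i * π ^ (N - i - 1)) ⊗ₜ 1) * t ^ i
  refine ⟨N, ?_⟩
  have key : t ^ N = (π ⊗ₜ 1) * s := by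
    refine iota_injective P j hinj ?_
    have e : algebraMap P.O K' = (algebraMap K K').comp P.O.subtype :=
      RingHom.ext fun r => IsScalarTower.algebraMap_apply P.O K K' r
    rw [Polynomial.eval₂_eq_sum_range, Finset.sum_range_succ, hm.coeff_natDegree, map_one, one_mul] at hp
    rw [map_pow, h, mul_pow, eq_neg_of_add_eq_zero_right hp]
    simp only [s, map_mul, map_neg, map_sum, map_pow, iota_one_tmul, h, mul_neg, Finset.mul_sum]
    congr 1
    refine Finset.sum_congr rfl fun i hi => ?_
    have hi' := Finset.mem_range.1 hi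
    have e2 : N = (N - i - 1) + i + 1 := by omega
    rw [e, RingHom.comp_apply]
    simp only [MulMemClass.coe_mul, SubmonoidClass.coe_pow, map_mul, map_pow]
    change _ * (algebraMap K K' ((p.coeff i : P.O) : K) * _) = _
    conv_lhs => rw [e2]
    ring
  rw [← map_pow, key, map_mul]
  have : psi (L := L) P (π ⊗ₜ 1) = 0 := by
    change resHom P π ⊗ₜ[k] (1 : L) = 0
    rw [(resHom_eq_zero_iff P π).2 (by rw [hπ, ← WithZero.exp_zero, WithZero.exp_lt_exp]; omega),
      TensorProduct.zero_tmul]
  rw [this, zero_mul]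

include hinj in
/-- Integral elements of `K ⊗ L` lie in `O_P ⊗ L`. -/
theorem integral_mem_range [Algebra P.O K'] [IsScalarTower P.O K K']
    [IsReduced (IsLocalRing.ResidueField P.O ⊗[k] L)] {z : K'}
    (hzr : z ∈ (Algebra.TensorProduct.productMap (IsScalarTower.toAlgHom k K K') j).range)
    (hz : IsIntegral P.O z) : ∃ t, iota P j t = z := by
  obtain ⟨π, hπ⟩ := exists_unif P
  have hπ0 : (π : K) ≠ 0 := fun h0 => by rw [h0, map_zero] at hπ; exact WithZero.exp_ne_zero hπ.symm
  have hscale : ∃ (n : ℕ) (t : P.O ⊗[k] L), iota P j t = algebraMap K K' (π : K) ^ n * z := by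
    obtain ⟨w, rfl⟩ := hzr
    clear hz
    induction w using TensorProduct.induction_on with
    | zero => exact ⟨0, 0, by simp⟩
    | tmul a l =>
      obtain ⟨n, hn⟩ := exists_exp_neg_nat_bound (-(WithZero.log (P.1 a)))
      refine ⟨n, ⟨(π : K) ^ n * a, ?_⟩ ⊗ₜ l, ?_⟩
      · change P.1 _ ≤ 1
        rcases eq_or_ne (P.1 a) 0 with h0 | h0
        · rw [map_mul, h0, mul_zero]; exact zero_le
        rw [map_mul, map_pow, hπ, ← WithZero.exp_log h0, ← WithZero.exp_nsmul]
        refine (mul_le_mul' (le_of_eq_of_le ?_ (hn n le_rfl)) le_rfl).trans ?_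
        · congr 1; simp
        · rw [← WithZero.exp_add]; simp
      · rw [iota_tmul]
        simp [map_mul, map_pow, mul_assoc]
    | add a b ha hb =>
      obtain ⟨m, s, hs⟩ := ha
      obtain ⟨n, t, ht⟩ := hb
      refine ⟨m + n, ((π ^ n) ⊗ₜ 1) * s + ((π ^ m) ⊗ₜ 1) * t, ?_⟩
      simp only [AlgHom.toRingHom_eq_coe, RingHom.coe_coe] at hs ht ⊢
      rw [map_add, map_mul, map_mul, iota_one_tmul, iota_one_tmul, hs, ht]
      simp only [SubmonoidClass.coe_pow, map_pow, map_add, pow_add]
      ring
  obtain ⟨n, t, ht⟩ := hscale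
  induction n generalizing t with
  | zero => exact ⟨t, by rw [ht, pow_zero, one_mul]⟩
  | succ n ih =>
    have hint : IsIntegral P.O (algebraMap K K' (π : K) ^ n * z) := by
      rw [show algebraMap K K' (π : K) = algebraMap P.O K' π from (IsScalarTower.algebraMap_apply P.O K K' π).symm]
      exact ((isIntegral_algebraMap (x := π)).pow n).mul hz
    have h0 : psi P t = 0 := (isNilpotent_psi j hinj hπ hint (by rw [ht, pow_succ']; ring)).eq_zero
    obtain ⟨t', rfl⟩ := exists_mul_of_psi_eq_zero hπ h0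
    refine ih t' (mul_left_cancel₀ ((_root_.map_ne_zero (algebraMap K K')).2 hπ0) ?_)
    rw [map_mul, iota_one_tmul] at ht
    rw [ht, pow_succ']; ring

variable [FiniteDimensional K K']

theorem val_j_le_one (Q : FunFld.Place k K') (l : L) : Q.1 (j l) ≤ 1 := by
  by_contra hgt
  have h0 : j l ≠ 0 := fun h => hgt (by rw [h, map_zero]; exact zero_le)
  exact transcendental_of_val_ne_one Q h0 (fun h1 => hgt h1.le)
    ((Algebra.IsAlgebraic.isAlgebraic (R := k) l).algHom j)

theorem val_iota_le_one {Q : FunFld.Place k K'} (hQ : FunFld.IsOver Q P) (t : P.O ⊗[k] L) :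
    Q.1 (iota P j t) ≤ 1 := by
  induction t using TensorProduct.induction_on with
  | zero => rw [map_zero, map_zero]; exact zero_le
  | tmul c l =>
    rw [iota_tmul, map_mul]
    exact mul_le_one' ((le_one_iff_of_isOver hQ _).2 c.2) (val_j_le_one j Q l)
  | add a b ha hb => rw [map_add]; exact (Q.1.map_add _ _).trans (max_le ha hb)

theorem val_iota_lt_one {Q : FunFld.Place k K'} (hQ : FunFld.IsOver Q P) {t : P.O ⊗[k] L}
    (h : psi P t = 0) : Q.1 (iota P j t) < 1 := by
  obtain ⟨π, hπ⟩ := exists_unif P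
  obtain ⟨t', rfl⟩ := exists_mul_of_psi_eq_zero hπ h
  obtain ⟨e, he⟩ := hQ
  rw [map_mul, map_mul, iota_one_tmul, he, hπ]
  refine lt_of_le_of_lt (mul_le_of_le_one_right zero_le (val_iota_le_one j ⟨e, he⟩ t')) ?_
  exact pow_lt_one₀ zero_le (by rw [← WithZero.exp_zero, WithZero.exp_lt_exp]; omega) (IsOverWith.pos he).ne'

theorem val_iota_eq_one {Q : FunFld.Place k K'} (hQ : FunFld.IsOver Q P) {t : P.O ⊗[k] L}
    (h : IsUnit (psi P t)) : Q.1 (iota P j t) = 1 := by
  obtain ⟨w, hw⟩ := h.exists_right_inv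
  obtain ⟨t', rfl⟩ := psi_surjective P w
  have h1 := val_iota_lt_one j hQ (t := t * t' - 1) (by rw [map_sub, map_mul, hw, map_one, sub_self])
  rw [map_sub, map_mul, map_one] at h1
  have h2 : Q.1 (iota P j t * iota P j t') = 1 := by
    have := Q.1.map_one_add_of_lt h1
    rwa [add_sub_cancel] at this
  rw [map_mul] at h2
  refine le_antisymm (val_iota_le_one j hQ t) (h2.symm.trans_le ?_)
  exact mul_le_of_le_one_right zero_le (val_iota_le_one j hQ t')

include hinj in
/-- A generated extension with reduced closed fibre is unramified. -/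
theorem unramified_of_reduced (hK : FunFld.IsFunctionField k K)
    [IsReduced (IsLocalRing.ResidueField P.O ⊗[k] L)]
    (hsurj : ∀ z : K', z ∈ (Algebra.TensorProduct.productMap (IsScalarTower.toAlgHom k K K') j).range)
    {Q : FunFld.Place k K'} {e : ℕ} (he : FunFld.IsOverWith Q P e) : e = 1 := by
  classical
  letI : Algebra P.O K' := ((algebraMap K K').comp P.O.subtype).toAlgebra
  haveI : IsScalarTower P.O K K' := IsScalarTower.of_algebraMap_eq fun _ => rfl
  haveI : IsScalarTower k P.O K' := IsScalarTower.of_algebraMap_eq fun c => IsScalarTower.algebraMap_apply k K K' c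
  obtain ⟨π, hπ⟩ := exists_unif P
  have he1 := IsOverWith.pos he
  set S := (finite_isOver (K' := K') hK P).toFinset
  have hS : ∀ R, R ∈ S ↔ FunFld.IsOver R P := fun R => Set.Finite.mem_toFinset _
  obtain ⟨z₀, -, hz₀⟩ := exists_val_eq Q (-1)
  obtain ⟨z, hz⟩ := approximation S (fun R => if R = Q then z₀ else 0)
    (fun R => if R = Q then -2 else -(FunFld.ramIdx R P : ℤ))
  have hzQ : Q.1 z = WithZero.exp (-1) := by
    have h := hz Q ((hS Q).2 ⟨e, he⟩)
    rw [if_pos rfl, if_pos rfl] at h
    have h2 : Q.1 (z - z₀) < Q.1 z₀ := h.trans_lt (by rw [hz₀, WithZero.exp_lt_exp]; omega)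
    rw [Valuation.map_eq_of_sub_lt _ h2, hz₀]
  have hpiR : ∀ (R : FunFld.Place k K') (e' : ℕ), FunFld.IsOverWith R P e' →
      R.1 (algebraMap K K' (π : K)) = WithZero.exp (-(e' : ℤ)) := fun R e' he' => by
    rw [he', hπ, ← WithZero.exp_nsmul]; congr 1; simp
  have hzint : IsIntegral P.O z := by
    refine (mem_integralClosure_iff hK P).2 fun R hR => ?_
    rcases eq_or_ne R Q with rfl | hne
    · rw [hzQ, ← WithZero.exp_zero, WithZero.exp_le_exp]; omega
    · have h := hz R ((hS R).2 hR)
      rw [if_neg hne, if_neg hne, sub_zero] at h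
      refine h.trans ?_
      rw [← WithZero.exp_zero, WithZero.exp_le_exp]; omega
  have hπ0 : algebraMap K K' (π : K) ≠ 0 := (_root_.map_ne_zero _).2 fun h0 => by
    rw [h0, map_zero] at hπ; exact WithZero.exp_ne_zero hπ.symm
  have hyint : IsIntegral P.O (z ^ e / algebraMap K K' (π : K)) := by
    refine (mem_integralClosure_iff hK P).2 fun R hR => ?_
    obtain ⟨e', he'⟩ := hR
    rw [map_div₀, map_pow, hpiR R e' he', div_eq_mul_inv, ← WithZero.exp_neg, neg_neg]
    rcases eq_or_ne R Q with rfl | hne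
    · obtain rfl := IsOverWith.unique he he'
      rw [hzQ, ← WithZero.exp_nsmul, ← WithZero.exp_add, ← WithZero.exp_zero, WithZero.exp_le_exp]
      simp
    · have h := hz R ((hS R).2 ⟨e', he'⟩)
      rw [if_neg hne, if_neg hne, sub_zero, ramIdx_eq he'] at h
      have h2 : R.1 z ^ e ≤ WithZero.exp (-(e' : ℤ)) :=
        (pow_le_of_le_one zero_le (h.trans (by rw [← WithZero.exp_zero, WithZero.exp_le_exp]; omega)) (by omega)).trans h
      refine (mul_le_mul' h2 le_rfl).trans ?_
      rw [← WithZero.exp_add]; simp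
  obtain ⟨t, ht⟩ := integral_mem_range j hinj (hsurj z) hzint
  have h0 : psi P (t ^ e) = 0 := (isNilpotent_psi j hinj hπ hyint (by rw [map_pow, ht, mul_div_cancel₀ _ hπ0])).eq_zero
  rw [map_pow] at h0
  obtain ⟨t', rfl⟩ := exists_mul_of_psi_eq_zero hπ (eq_zero_of_pow_eq_zero h0)
  rw [map_mul, iota_one_tmul] at ht
  have h1 : Q.1 z ≤ WithZero.exp (-(e : ℤ)) := by
    rw [← ht, map_mul, hpiR Q e he]
    exact mul_le_of_le_one_right zero_le (val_iota_le_one j ⟨e, he⟩ t')
  rw [hzQ, WithZero.exp_le_exp] at h1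
  omega

end Groth.Agent.H23Geom
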