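import Mathlib
import Groth.Agent.H23Geom.ConstInt

/-!
Constant extensions: consequences.
-/

set_option autoImplicit false
set_option linter.unusedSectionVars false
set_option linter.style.haveILetI false

open scoped TensorProduct

namespace Groth.Agent.H23Geom

open Groth.Agent.H23FunFld Groth.Agent.H23Ext

variable {k k' K K' : Type*} [Field k] [Field k'] [Field K] [Field K'] [Algebra k k'] [FiniteDimensional k k']
  [Algebra k K] [Algebra K K'] [Algebra k' K'] [Algebra k K'] [IsScalarTower k k' K'] [IsScalarTower k K K']
  (h : Function.Bijective (Algebra.TensorProduct.productMap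
      (IsScalarTower.toAlgHom k k' K') (IsScalarTower.toAlgHom k K K')))
include h

theorem productMap_swap : Function.Bijective (Algebra.TensorProduct.productMap
      (IsScalarTower.toAlgHom k K K') (IsScalarTower.toAlgHom k k' K')) := by
  have e : Algebra.TensorProduct.productMap (IsScalarTower.toAlgHom k K K') (IsScalarTower.toAlgHom k k' K') =
      (Algebra.TensorProduct.productMap (IsScalarTower.toAlgHom k k' K') (IsScalarTower.toAlgHom k K K')).comp
        (Algebra.TensorProduct.comm k K k').toAlgHom := by
    refine Algebra.TensorProduct.ext' fun a b => ?_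
    simp [mul_comm]
  rw [e]
  exact h.comp (Algebra.TensorProduct.comm k K k').bijective

theorem finiteDimensional_ext' : FiniteDimensional K K' := by
  let f : K ⊗[k] k' →ₐ[K] K' := Algebra.TensorProduct.lift (Algebra.ofId K K') (IsScalarTower.toAlgHom k k' K')
    (fun _ _ => Commute.all _ _)
  refine Module.Finite.of_surjective f.toLinearMap fun z => ?_
  obtain ⟨w, hw⟩ := (productMap_swap h).2 z
  refine ⟨w, ?_⟩
  rw [← hw]
  induction w using TensorProduct.induction_on generalizing z with
  | zero => simp
  | tmul a b => simp [f, Algebra.ofId_apply]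
  | add a b ha hb =>
    change f (a + b) = _
    rw [map_add, map_add, ← ha _ rfl, ← hb _ rfl]
    rfl

theorem integralClosure_eq_adjoin (hK : FunFld.IsFunctionField k K) (P : FunFld.Place k K)
    [Algebra P.O K'] [IsScalarTower P.O K K']
    [IsReduced (IsLocalRing.ResidueField P.O ⊗[k] k')] :
    (integralClosure P.O K').toSubring = (Algebra.adjoin P.O (Set.range (algebraMap k' K'))).toSubring := by
  haveI := finiteDimensional_ext' h
  have hb := productMap_swap h
  ext z
  constructor
  · intro hz
    obtain ⟨w, hw⟩ := hb.2 z
    obtain ⟨t, rfl⟩ := integral_mem_range (P := P) _ hb.1 ⟨w, hw⟩ (show IsIntegral P.O z from hz)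
    clear hz hw
    change iota P (IsScalarTower.toAlgHom k k' K') t ∈ Algebra.adjoin P.O (Set.range (algebraMap k' K'))
    induction t using TensorProduct.induction_on with
    | zero => rw [map_zero]; exact zero_mem _
    | tmul c l =>
      rw [iota_tmul, ← show algebraMap P.O K' c = algebraMap K K' (c : K) from IsScalarTower.algebraMap_apply P.O K K' c]
      exact mul_mem (Subalgebra.algebraMap_mem _ c) (Algebra.subset_adjoin ⟨l, rfl⟩)
    | add a b ha hb' => rw [map_add]; exact add_mem ha hb'
  · intro hz
    change z ∈ integralClosure P.O K'
    refine (Algebra.adjoin_le (S := integralClosure P.O K') ?_) hz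
    rintro _ ⟨l, rfl⟩
    haveI : IsScalarTower k P.O K' := IsScalarTower.of_algebraMap_eq fun c => by
      rw [IsScalarTower.algebraMap_apply P.O K K', IsScalarTower.algebraMap_apply k K K']
      rfl
    exact (mem_integralClosure_iff hK P).2 fun Q _ => val_j_le_one (IsScalarTower.toAlgHom k k' K') Q l

end Groth.Agent.H23Geom
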