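import Mathlib
import Groth.Prelude.Def_W4bk4goldsch23Ext
import Groth.Agent.H23Geom.ConstIntApp
import Groth.Agent.H23Geom.Unram
import Groth.Agent.H23FunFld.Weil
import Groth.Agent.S10997

/-!
All but finitely many places stay regular under every constant extension.
-/

set_option autoImplicit false
set_option linter.unusedSectionVars false
set_option linter.style.haveILetI false
set_option maxHeartbeats 1000000
set_option synthInstance.maxHeartbeats 200000

namespace Groth.Agent.H23Geom

open WithZero Polynomial IntermediateField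
open scoped IntermediateField.algebraAdjoinAdjoin
open Groth.Agent.H23FunFld (val_eq_exp place_eq_of_le pow_le_exp_of_lt_one exists_val_eq)
open Groth.Agent.H23Ext

section Adjoin

variable {k K : Type*} [Field k] [Field K] [Algebra k K]

theorem isIntegrallyClosed_adjoin {x : K} (hx : Transcendental k x) :
    IsIntegrallyClosed (Algebra.adjoin k ({x} : Set K)) :=
  IsIntegrallyClosed.of_equiv ((AlgEquiv.ofInjective (Polynomial.aeval (R := k) x)
    (transcendental_iff_injective.1 hx)).trans
      (Subalgebra.equivOfEq _ _ (Algebra.adjoin_singleton_eq_range_aeval k x).symm)).toRingEquiv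

/-- The derivative of any equation clears denominators of integral elements. -/
theorem derivative_mul_mem {A E L : Type*} [CommRing A] [IsDomain A] [Field E] [Field L]
    [Algebra A E] [IsFractionRing A E] [IsIntegrallyClosed A] [Algebra E L] [Algebra A L]
    [IsScalarTower A E L] [FiniteDimensional E L] [Algebra.IsSeparable E L]
    [Module.IsTorsionFree A L] {y : L} (hy : IsIntegral A y) (hgen : Algebra.adjoin E {y} = ⊤) {f : A[X]}
    (hfy : aeval y f = 0) {w : L} (hw : IsIntegral A w) :
    aeval y (derivative f) * w ∈ Algebra.adjoin A ({y} : Set L) := by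
  set g := minpoly A y
  have hgE : minpoly E y = g.map (algebraMap A E) :=
    minpoly.isIntegrallyClosed_eq_field_fractions' E hy
  have hmem : w ∈ (Algebra.traceForm E L).dualSubmodule
      (Subalgebra.toSubmodule (Algebra.adjoin A ({y} : Set L))) := by
    intro a ha
    rw [Algebra.traceForm_apply]
    have ha' : IsIntegral A a := by
      refine adjoin_le_integralClosure hy (show a ∈ Algebra.adjoin A ({y} : Set L) from ha)
    obtain ⟨t, ht⟩ := IsIntegrallyClosed.isIntegral_iff.1 (Algebra.isIntegral_trace (F := L)
      (L := E) (hw.mul ha'))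
    exact Submodule.mem_one.2 ⟨t, ht⟩
  rw [traceForm_dualSubmodule_adjoin A E hgen hy] at hmem
  obtain ⟨a, ha, hwa⟩ := hmem
  obtain ⟨h, rfl⟩ : g ∣ f := minpoly.isIntegrallyClosed_dvd hy hfy
  have hg0 : aeval y g = 0 := minpoly.aeval A y
  have hd : aeval y (derivative (minpoly E y)) = aeval y (derivative g) := by
    rw [hgE, derivative_map, aeval_map_algebraMap]
  have hne : aeval y (derivative g) ≠ 0 := by
    rw [← hd]
    exact (Algebra.IsSeparable.isSeparable E y).aeval_derivative_ne_zero (minpoly.aeval E y)
  have hwa' : (aeval y (derivative (minpoly E y)))⁻¹ * a = w := hwa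
  rw [derivative_mul, map_add, map_mul, map_mul, hg0, zero_mul, add_zero, ← hwa', hd]
  rw [show aeval y (derivative g) * aeval y h * ((aeval y (derivative g))⁻¹ * a) =
    aeval y h * a * (aeval y (derivative g) * (aeval y (derivative g))⁻¹) by ring,
    mul_inv_cancel₀ hne, mul_one]
  exact mul_mem (Polynomial.aeval_mem_adjoin_singleton A y) ha

end Adjoin

variable {k K : Type*} [Field k] [Field K] [Algebra k K]

theorem integral_le_one {x w : K} (P : FunFld.Place k K) (hx : P.1 x ≤ 1)
    (hw : IsIntegral (Algebra.adjoin k ({x} : Set K)) w) : P.1 w ≤ 1 := by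
  obtain ⟨p, hm, hp⟩ := hw
  have hsub : ∀ r : Algebra.adjoin k ({x} : Set K), (r : K) ∈ P.O := by
    rintro ⟨r, hr⟩
    induction hr using Algebra.adjoin_induction with
    | mem z hz => rw [Set.mem_singleton_iff] at hz; subst hz; exact hx
    | algebraMap c => exact P.2.1 c
    | add a b _ _ ha hb => exact add_mem ha hb
    | mul a b _ _ ha hb => exact mul_mem ha hb
  let ι : Algebra.adjoin k ({x} : Set K) →+* P.O :=
    (algebraMap (Algebra.adjoin k ({x} : Set K)) K).codRestrict P.O hsub
  have hint : IsIntegral P.O w := ⟨p.map ι, hm.map _, by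
    rw [eval₂_map, show (algebraMap P.O K).comp ι = algebraMap (Algebra.adjoin k ({x} : Set K)) K
      from RingHom.ext fun _ => rfl]
    exact hp⟩
  obtain ⟨t, rfl⟩ := IsIntegrallyClosed.algebraMap_eq_of_integral hint
  exact t.2

section Main

/-- There are only finitely many places which may become singular after a constant extension. -/
theorem exists_regular (hK : FunFld.IsFunctionField k K) (hg : FunFld.IsGeometric k K) :
    ∃ T : Set (FunFld.Place k K), T.Finite ∧ ∀ P ∉ T,
      ∀ (L : Type*) (K' : Type*) [Field L] [Field K'] [Algebra k L] [FiniteDimensional k L]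
        [Algebra K K'] [Algebra k K'] [IsScalarTower k K K'] [FiniteDimensional K K']
        (j : L →ₐ[k] K'),
        (∀ z : K', z ∈ (Algebra.TensorProduct.productMap (IsScalarTower.toAlgHom k K K') j).range) →
        ∀ z : K', (∀ Q : FunFld.Place k K', FunFld.IsOver Q P → Q.1 z ≤ 1) →
          z ∈ Subring.closure (algebraMap K K' '' (P.O : Set K) ∪ Set.range j) := by
  classical
  obtain ⟨x, hx, hsep⟩ := exists_separating hK hg
  haveI := Groth.Agent.H23FunFld.finiteDimensional_adjoin hK hx
  set E := adjoin k ({x} : Set K) with hE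
  haveI := isIntegrallyClosed_adjoin hx
  haveI : Algebra.IsAlgebraic E K := Algebra.IsAlgebraic.of_finite E K
  obtain ⟨y₀, hy₀⟩ := Field.exists_primitive_element E K
  haveI : Algebra.IsAlgebraic (Algebra.adjoin k ({x} : Set K)) K :=
    (IsFractionRing.comap_isAlgebraic_iff (A := Algebra.adjoin k ({x} : Set K)) (K := E)).2 inferInstance
  obtain ⟨b, hb, hy⟩ :=
    (Algebra.IsAlgebraic.isAlgebraic (R := Algebra.adjoin k ({x} : Set K)) y₀).exists_integral_multiple
  set y : K := b • y₀ with hydef
  have hygen : adjoin E ({y} : Set K) = ⊤ := by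
    rw [eq_top_iff, ← hy₀, adjoin_simple_le_iff]
    have hbE : algebraMap E K ⟨(b : K), algebra_adjoin_le_adjoin k _ b.2⟩ = (b : K) := rfl
    have hb0 : (b : K) ≠ 0 := fun h => hb (Subtype.ext h)
    have hy0 : y₀ = (b : K)⁻¹ * y := by
      rw [hydef, Algebra.smul_def, ← mul_assoc, show algebraMap (Algebra.adjoin k ({x} : Set K)) K b = (b : K) from rfl,
        inv_mul_cancel₀ hb0, one_mul]
    rw [hy0, ← hbE]
    exact mul_mem (inv_mem (IntermediateField.algebraMap_mem _ _)) (mem_adjoin_simple_self E y)
  set f := minpoly (Algebra.adjoin k ({x} : Set K)) y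
  set δ : K := aeval y (derivative f) with hδdef
  have hδ : δ ≠ 0 := by
    have := (Algebra.IsSeparable.isSeparable E y).aeval_derivative_ne_zero (minpoly.aeval E y)
    rwa [minpoly.isIntegrallyClosed_eq_field_fractions' E hy, derivative_map, aeval_map_algebraMap] at this
  obtain ⟨Pinf, hPinf⟩ : ∃ P : FunFld.Place k K, 1 < P.1 x := by
    obtain ⟨P, hP⟩ := Groth.Agent.H23FunFld.exists_pole hK (x := x) (by
      rintro ⟨c, rfl⟩
      exact hx (isAlgebraic_algebraMap c))
    · refine ⟨P, lt_of_not_ge fun h => ?_⟩
      rcases eq_or_ne x 0 with rfl | h0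
      · simp [FunFld.Place.ord] at hP
      · have := (Groth.Agent.H23FunFld.val_le_one_iff P h0).1 h
        omega
  refine ⟨{P | ¬ P.1 x ≤ 1} ∪ {P | P.1 δ ≠ 1}, ?_, ?_⟩
  · refine Set.Finite.union ?_ ?_
    · refine (finite_support (isFF_of_isFunctionField hK) x).subset fun P hP h => hP ?_
      rcases eq_or_ne x 0 with rfl | h0
      · simp
      · rw [val_eq_exp P h0, show P.ord x = 0 from h]; simp
    · refine (finite_support (isFF_of_isFunctionField hK) δ).subset fun P hP h => hP ?_
      rw [val_eq_exp P hδ, show P.ord δ = 0 from h]; simp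
  intro P hP L K' _ _ _ _ _ _ _ _ j hsurj z hz
  simp only [Set.mem_union, Set.mem_setOf_eq, not_or, not_not] at hP
  obtain ⟨hPx, hPδ⟩ := hP
  -- the set-up over `L`
  letI : Algebra L K' := j.toRingHom.toAlgebra
  haveI : IsScalarTower k L K' := IsScalarTower.of_algebraMap_eq fun c => (j.commutes c).symm
  set x' : K' := algebraMap K K' x with hx'def
  have hxk : Transcendental k x' := transcendental_algebraMap hx
  have hxL : Transcendental L x' := hxk.extendScalars L
  haveI := isIntegrallyClosed_adjoin hxL
  set E' := adjoin L ({x'} : Set K') with hE'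
  set A' := Algebra.adjoin L ({x'} : Set K') with hA'
  have hA : ∀ a : Algebra.adjoin k ({x} : Set K), algebraMap K K' (a : K) ∈ A' := by
    rintro ⟨a, ha⟩
    induction ha using Algebra.adjoin_induction with
    | mem z hz => rw [Set.mem_singleton_iff] at hz; subst hz; exact Algebra.self_mem_adjoin_singleton L x'
    | algebraMap c =>
      change algebraMap K K' (algebraMap k K c) ∈ A'
      rw [← IsScalarTower.algebraMap_apply k K K', IsScalarTower.algebraMap_apply k L K']
      exact A'.algebraMap_mem _
    | add a b _ _ ha hb => simpa using add_mem ha hb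
    | mul a b _ _ ha hb => simpa using mul_mem ha hb
  let ι : Algebra.adjoin k ({x} : Set K) →+* A' :=
    ((algebraMap K K').comp (algebraMap (Algebra.adjoin k ({x} : Set K)) K)).codRestrict A' hA
  set y' : K' := algebraMap K K' y with hy'def
  have heval : ∀ q : (Algebra.adjoin k ({x} : Set K))[X],
      aeval y' (q.map ι) = algebraMap K K' (aeval y q) := fun q => by
    rw [aeval_def, eval₂_map, aeval_def, hom_eval₂]
    exact eval₂_congr (RingHom.ext fun _ => rfl) rfl rfl
  have hfy : aeval y' (f.map ι) = 0 := by rw [heval, minpoly.aeval, map_zero]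
  have hy' : IsIntegral A' y' := ⟨f.map ι, (minpoly.monic hy).map ι, by rw [← aeval_def]; exact hfy⟩
  haveI hfin' : FiniteDimensional E' K' := by
    haveI := Groth.Agent.H23FunFld.finiteDimensional_adjoin (k := k) (K := K) hK hx
    haveI : FiniteDimensional E K' := Module.Finite.trans K K'
    let e : E →+* E' := ((algebraMap K K').comp (algebraMap E K)).codRestrict E'.toSubalgebra.toSubring (by
      intro a
      have h1 : algebraMap K K' (a : K) ∈ E.map (IsScalarTower.toAlgHom k K K') := ⟨a, a.2, rfl⟩
      rw [adjoin_map, Set.image_singleton] at h1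
      have h2 : adjoin k ({x'} : Set K') ≤ E'.restrictScalars k := by
        rw [adjoin_le_iff, Set.singleton_subset_iff]
        exact mem_adjoin_simple_self L _
      exact h2 h1)
    letI : Algebra E E' := e.toAlgebra
    haveI : IsScalarTower E E' K' := IsScalarTower.of_algebraMap_eq fun a =>
      IsScalarTower.algebraMap_apply E K K' a
    exact Module.Finite.of_restrictScalars_finite E E' K'
  have hgen' : Algebra.adjoin E' ({y'} : Set K') = ⊤ := by
    have halg : (adjoin E' ({y'} : Set K')).toSubalgebra = Algebra.adjoin E' ({y'} : Set K') :=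
      adjoin_simple_toSubalgebra_of_isAlgebraic (Algebra.IsAlgebraic.isAlgebraic y')
    rw [← halg, ← IntermediateField.top_toSubalgebra]
    congr 1
    set F := adjoin E' ({y'} : Set K')
    have hKF : ∀ a : K, algebraMap K K' a ∈ F := by
      intro a
      have ha : a ∈ adjoin E ({y} : Set K) := hygen ▸ IntermediateField.mem_top
      induction ha using IntermediateField.adjoin_induction with
      | mem w hw => rw [Set.mem_singleton_iff] at hw; subst hw; exact mem_adjoin_simple_self E' y'
      | algebraMap c =>
        have h1 : algebraMap K K' (c : K) ∈ E.map (IsScalarTower.toAlgHom k K K') := ⟨c, c.2, rfl⟩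
        rw [adjoin_map, Set.image_singleton] at h1
        have h2 : adjoin k ({x'} : Set K') ≤ E'.restrictScalars k := by
          rw [adjoin_le_iff, Set.singleton_subset_iff]
          exact mem_adjoin_simple_self L _
        exact F.algebraMap_mem ⟨_, h2 h1⟩
      | add a b _ _ ha hb => rw [map_add]; exact add_mem ha hb
      | inv a _ ha => rw [map_inv₀]; exact inv_mem ha
      | mul a b _ _ ha hb => rw [map_mul]; exact mul_mem ha hb
    have hLF : ∀ c : L, j c ∈ F := fun c => F.algebraMap_mem ⟨j c, E'.algebraMap_mem c⟩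
    rw [eq_top_iff]
    rintro w -
    obtain ⟨t, rfl⟩ := hsurj w
    induction t using TensorProduct.induction_on with
    | zero => simp
    | tmul a c =>
      simp only [AlgHom.toRingHom_eq_coe, RingHom.coe_coe, Algebra.TensorProduct.productMap_apply_tmul]
      exact mul_mem (hKF a) (hLF c)
    | add a b ha hb =>
      simp only [AlgHom.toRingHom_eq_coe, RingHom.coe_coe, map_add] at ha hb ⊢
      exact add_mem ha hb
  haveI : Algebra.IsSeparable E' K' := by
    refine isSeparable_of_generator (b := y') ?_ fun r => ?_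
    · have hsep : (f.map (algebraMap (Algebra.adjoin k ({x} : Set K)) E)).Separable := by
        rw [← minpoly.isIntegrallyClosed_eq_field_fractions' E hy]
        exact Algebra.IsSeparable.isSeparable E y
      have hder : aeval y' (derivative ((f.map ι).map (algebraMap A' E'))) ≠ 0 := by
        rw [derivative_map, aeval_map_algebraMap, derivative_map, heval]
        exact (_root_.map_ne_zero _).2 hδ
      obtain ⟨h, hh⟩ : minpoly E' y' ∣ (f.map ι).map (algebraMap A' E') :=
        minpoly.dvd E' y' (by rw [aeval_map_algebraMap, hfy])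
      rw [IsSeparable, separable_iff_derivative_ne_zero (minpoly.irreducible (hy'.tower_top))]
      intro h0
      apply hder
      rw [hh, derivative_mul, h0, zero_mul, zero_add, map_mul, minpoly.aeval, zero_mul]
    · have hr : r ∈ Algebra.adjoin E' ({y'} : Set K') := hgen' ▸ Algebra.mem_top
      rw [Algebra.adjoin_singleton_eq_range_aeval] at hr
      exact hr
  -- clear the other poles
  have hFF' : IsFF k K' := isFF_extension (K' := K') (isFF_of_isFunctionField hK)
  have hpoles : {Q : FunFld.Place k K' | ¬ Q.1 z ≤ 1}.Finite :=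
    (finite_support hFF' z).subset fun Q hQ h => hQ (by
      rcases eq_or_ne z 0 with rfl | h0
      · simp
      · rw [val_eq_exp Q h0, show Q.ord z = 0 from h]; simp)
  choose dn hdn using fun Q : FunFld.Place k K' => exists_below (isFF_of_isFunctionField hK) Q
  set S : Finset (FunFld.Place k K) :=
    (hpoles.toFinset.image dn).filter fun R => R.1 x ≤ 1 with hS
  obtain ⟨N, hN⟩ : ∃ N : ℕ, ∀ Q ∈ hpoles.toFinset, Q.1 z ≤ exp (N : ℤ) := by
    refine ⟨hpoles.toFinset.sup fun Q => (log (Q.1 z)).toNat, fun Q hQ => ?_⟩
    have h1 : (log (Q.1 z)).toNat ≤ _ := Finset.le_sup (f := fun Q => (log (Q.1 z)).toNat) hQ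
    rcases eq_or_ne (Q.1 z) 0 with h0 | h0
    · rw [h0]; exact zero_le
    · rw [← exp_log h0, exp_le_exp]; omega
  have hPS : P ∉ S := by
    intro h
    simp only [hS, Finset.mem_filter, Finset.mem_image, Set.Finite.mem_toFinset, Set.mem_setOf_eq] at h
    obtain ⟨⟨Q, hQ, hQP⟩, -⟩ := h
    exact hQ (hz Q (hQP ▸ hdn Q))
  obtain ⟨s, hsS, hsP, hsint⟩ : ∃ s : K, (∀ R ∈ S, R.1 s ≤ exp (-(N : ℤ))) ∧ P.1 s = 1 ∧
      ∀ R : FunFld.Place k K, R.1 x ≤ 1 → R.1 s ≤ 1 := by
    set S' := (insert P S : Finset _)
    let e := S'.equivFin.symm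
    obtain ⟨s, hs, hs'⟩ := Groth.Agent.S10997.result k K hK Pinf S'.card (fun i => (e i : FunFld.Place k K))
      (Subtype.val_injective.comp e.injective)
      (by
        rintro ⟨i, hi⟩
        have hm := (e i).2
        rw [show ((e i : FunFld.Place k K)) = Pinf from hi] at hm
        simp only [S', hS, Finset.mem_insert, Finset.mem_filter] at hm
        rcases hm with rfl | ⟨-, h⟩
        · exact not_lt.2 hPx hPinf
        · exact not_lt.2 h hPinf)
      (fun i => if (e i : FunFld.Place k K) = P then 1 else 0)
      (fun i => if (e i : FunFld.Place k K) = P then 1 else (N : ℤ))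
    have key : ∀ R (hR : R ∈ S'), R.1 (s - if R = P then 1 else 0) =
        exp (-(if R = P then 1 else (N : ℤ))) := fun R hR => by
      have := hs (e.symm ⟨R, hR⟩)
      simpa using this
    have hsP : P.1 s = 1 := by
      have h1 := key P (Finset.mem_insert_self _ _)
      rw [if_pos rfl, if_pos rfl] at h1
      have h2 : P.1 (s - 1) < P.1 (1 : K) := by
        rw [h1, map_one, ← exp_zero, exp_lt_exp]; omega
      rw [Valuation.map_eq_of_sub_lt _ h2, map_one]
    have hsS : ∀ R ∈ S, R.1 s ≤ exp (-(N : ℤ)) := fun R hR => by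
      have h1 := key R (Finset.mem_insert_of_mem hR)
      have hne : R ≠ P := fun h => hPS (h ▸ hR)
      rw [if_neg hne, if_neg hne, sub_zero] at h1
      exact h1.le
    refine ⟨s, hsS, hsP, fun R hR => ?_⟩
    by_cases hmem : R ∈ S'
    · rcases Finset.mem_insert.1 hmem with rfl | h
      · exact hsP.le
      · exact (hsS R h).trans (by rw [← exp_zero, exp_le_exp]; omega)
    · refine hs' R (fun h => not_lt.2 hR (h ▸ hPinf)) ?_
      rintro ⟨i, rfl⟩
      exact hmem (e i).2
  have hwint : IsIntegral A' (algebraMap K K' s * z) := by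
    by_contra h
    set R := (integralClosure A' K').toSubring
    haveI : IsIntegrallyClosedIn R K' :=
      inferInstanceAs (IsIntegrallyClosedIn (integralClosure A' K') K')
    obtain ⟨V, hRV, haV⟩ := Subring.exists_le_valuationSubring_of_isIntegrallyClosedIn (R := R) h
    have hAV : ∀ a ∈ A', a ∈ V := fun a ha => hRV ((integralClosure A' K').algebraMap_mem ⟨a, ha⟩)
    obtain ⟨Q, hQ⟩ := exists_place_of_valuationSubring' hFF' V
      (fun c => by
        rw [IsScalarTower.algebraMap_apply k L K']
        exact hAV _ (A'.algebraMap_mem _))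
      (fun htop => haV (htop ▸ ValuationSubring.mem_top _))
    have hQx : Q.1 x' ≤ 1 := (hQ _).2 (hAV _ (Algebra.self_mem_adjoin_singleton L x'))
    refine haV ((hQ _).1 ?_)
    have hov := hdn Q
    have hRx : (dn Q).1 x ≤ 1 := (le_one_iff_of_isOver hov x).1 hQx
    have hQs : Q.1 (algebraMap K K' s) ≤ 1 := (le_one_iff_of_isOver hov s).2 (hsint _ hRx)
    rw [map_mul]
    by_cases hQz : Q.1 z ≤ 1
    · exact mul_le_one' hQs hQz
    have hmem : dn Q ∈ S := by
      simp only [hS, Finset.mem_filter, Finset.mem_image, Set.Finite.mem_toFinset, Set.mem_setOf_eq]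
      exact ⟨⟨Q, hQz, rfl⟩, hRx⟩
    obtain ⟨e, he⟩ := hov
    rw [he]
    have he1 := IsOverWith.pos he
    have h1 : (dn Q).1 s ^ e ≤ exp (-(N : ℤ)) := by
      have := hsS _ hmem
      exact (pow_le_of_le_one zero_le (this.trans (by rw [← exp_zero, exp_le_exp]; omega)) (by omega)).trans this
    refine (mul_le_mul' h1 (hN Q ((Set.Finite.mem_toFinset _).2 hQz))).trans ?_
    rw [← exp_add]; simp
  haveI : FaithfulSMul A' E' := (faithfulSMul_iff_algebraMap_injective _ _).2 fun a b h =>
    Subtype.ext (congrArg (fun e : E' => (e : K')) h)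
  haveI : IsFractionRing A' E' := IsFractionRing.of_field _ _ fun ⟨_, h⟩ ↦
    have ⟨a, ha, b, hb, eq⟩ := mem_adjoin_iff_div.mp h
    ⟨⟨a, ha⟩, ⟨b, hb⟩, Subtype.ext eq⟩
  haveI : Module.IsTorsionFree A' K' :=
    Module.isTorsionFree_iff_algebraMap_injective.2 Subtype.val_injective
  have hmain := derivative_mul_mem (E := E') hy' hgen' hfy hwint
  rw [derivative_map, heval, ← hδdef] at hmain
  set G := Subring.closure (algebraMap K K' '' (P.O : Set K) ∪ Set.range j)
  have hKG : ∀ a : K, P.1 a ≤ 1 → algebraMap K K' a ∈ G := fun a ha =>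
    Subring.subset_closure (Or.inl ⟨a, ha, rfl⟩)
  have hAG : ∀ a ∈ A', a ∈ G := by
    intro a ha
    induction ha using Algebra.adjoin_induction with
    | mem w hw => rw [Set.mem_singleton_iff] at hw; subst hw; exact hKG x hPx
    | algebraMap c => exact Subring.subset_closure (Or.inr ⟨c, rfl⟩)
    | add a b _ _ ha hb => exact add_mem ha hb
    | mul a b _ _ ha hb => exact mul_mem ha hb
  have hyG : algebraMap K K' y ∈ G := hKG y (integral_le_one P hPx hy)
  have hsub : ∀ a ∈ Algebra.adjoin A' ({y'} : Set K'), a ∈ G := by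
    intro a ha
    induction ha using Algebra.adjoin_induction with
    | mem w hw => rw [Set.mem_singleton_iff] at hw; subst hw; exact hyG
    | algebraMap c => exact hAG _ c.2
    | add a b _ _ ha hb => exact add_mem ha hb
    | mul a b _ _ ha hb => exact mul_mem ha hb
  have hinv : algebraMap K K' ((δ * s)⁻¹) ∈ G := hKG _ (by rw [map_inv₀, map_mul, hPδ, hsP, one_mul, inv_one])
  have := mul_mem hinv (hsub _ hmain)
  rwa [← mul_assoc, ← mul_assoc, ← map_mul, ← map_mul,
    show (δ * s)⁻¹ * δ * s = 1 by
      have hs0 : s ≠ 0 := fun h => by rw [h, map_zero] at hsP; exact zero_ne_one hsP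
      field_simp,
    map_one, one_mul] at this

end Main

end Groth.Agent.H23Geom
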