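import Mathlib
import Groth.Prelude.Def_W4bk4goldsch23Ext
import Groth.Agent.H23Geom.Singular

/-!
Constant extensions by arbitrary algebraic extensions.
-/

set_option autoImplicit false
set_option linter.unusedSectionVars false
set_option linter.style.haveILetI false
set_option maxHeartbeats 1000000

namespace Groth.Agent.H23Geom

open WithZero Polynomial IntermediateField
open scoped IntermediateField.algebraAdjoinAdjoin TensorProduct
open Groth.Agent.H23FunFld (val_eq_exp exists_val_eq transcendental_of_val_ne_one)
open Groth.Agent.H23Ext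

variable {k L K M : Type*} [Field k] [Field L] [Field K] [Field M] [Algebra k L]
  [Algebra.IsAlgebraic k L] [Algebra k K] [Algebra K M] [Algebra L M] [Algebra k M]
  [IsScalarTower k L M] [IsScalarTower k K M]
  (h : Function.Bijective (Algebra.TensorProduct.productMap
      (IsScalarTower.toAlgHom k L M) (IsScalarTower.toAlgHom k K M)))

include h in
/-- The constant extension is algebraic. -/
theorem isAlgebraic_const : Algebra.IsAlgebraic K M := by
  refine ⟨fun z => isAlgebraic_iff_isIntegral.2 ?_⟩
  obtain ⟨t, rfl⟩ := h.2 z
  induction t using TensorProduct.induction_on with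
  | zero => rw [map_zero]; exact isIntegral_zero
  | tmul c a =>
    rw [Algebra.TensorProduct.productMap_apply_tmul]
    exact ((Algebra.IsIntegral.isIntegral (R := k) c).map (IsScalarTower.toAlgHom k L M)).tower_top.mul
      isIntegral_algebraMap
  | add a b ha hb => rw [map_add]; exact ha.add hb

include h in
theorem transcendental_const {x : K} (hx : Transcendental k x) :
    Transcendental L (algebraMap K M x) :=
  Transcendental.extendScalars L
    (fun halg => hx ((isAlgebraic_algebraMap_iff (algebraMap K M).injective).1 halg))

include h in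
/-- A basis over `k(x)` stays a basis over `L(x)`. -/
theorem exists_basis_const {x : K} (hx : Transcendental k x) {n : Type*} [Fintype n]
    (b : Module.Basis n (adjoin k ({x} : Set K)) K) :
    Nonempty (Module.Basis n (adjoin L ({algebraMap K M x} : Set M)) M) := by
  classical
  set x' := algebraMap K M x
  set E' := adjoin L ({x'} : Set M)
  set A' := Algebra.adjoin L ({x'} : Set M)
  haveI : FaithfulSMul A' E' := (faithfulSMul_iff_algebraMap_injective _ _).2 fun a b h =>
    Subtype.ext (congrArg (fun e : E' => (e : M)) h)
  haveI : IsFractionRing A' E' := IsFractionRing.of_field _ _ fun ⟨_, h⟩ ↦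
    have ⟨a, ha, c, hc, eq⟩ := mem_adjoin_iff_div.mp h
    ⟨⟨a, ha⟩, ⟨c, hc⟩, Subtype.ext eq⟩
  set v : n → M := fun i => algebraMap K M (b i)
  have hE : ∀ e : adjoin k ({x} : Set K), algebraMap K M (e : K) ∈ E' := by
    intro e
    have h1 : algebraMap K M (e : K) ∈ (adjoin k ({x} : Set K)).map (IsScalarTower.toAlgHom k K M) :=
      ⟨e, e.2, rfl⟩
    rw [adjoin_map, Set.image_singleton] at h1
    have h2 : adjoin k ({x'} : Set M) ≤ E'.restrictScalars k := by
      rw [adjoin_le_iff, Set.singleton_subset_iff]
      exact mem_adjoin_simple_self L _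
    exact h2 h1
  have hspan : ⊤ ≤ Submodule.span E' (Set.range v) := by
    rintro z -
    obtain ⟨t, rfl⟩ := h.2 z
    induction t using TensorProduct.induction_on with
    | zero => simp
    | tmul c a =>
      rw [Algebra.TensorProduct.productMap_apply_tmul]
      have ha : algebraMap K M a ∈ Submodule.span E' (Set.range v) := by
        rw [← b.sum_repr a, map_sum]
        refine Submodule.sum_mem _ fun i _ => ?_
        rw [Algebra.smul_def, map_mul]
        exact Submodule.smul_mem _ (⟨_, hE (b.repr a i)⟩ : E') (Submodule.subset_span ⟨i, rfl⟩)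
      exact Submodule.smul_mem _ (algebraMap L E' c) ha
    | add a b ha hb => rw [map_add]; exact add_mem ha hb
  have hli' : LinearIndependent A' v := by
    rw [Fintype.linearIndependent_iff]
    intro g hg
    have hp : ∀ i, ∃ p : L[X], aeval x' p = (g i : M) := fun i => by
      have hg2 : (g i : M) ∈ Algebra.adjoin L ({x'} : Set M) := (g i).2
      rw [Algebra.adjoin_singleton_eq_range_aeval] at hg2
      exact hg2
    choose p hp using hp
    let β := Module.Free.chooseBasis k L
    -- for every coordinate, a linear map back to `K`
    have key : ∀ j, ∑ i, (aeval x (∑ m ∈ (p i).support, C (β.coord j ((p i).coeff m)) * X ^ m)) * b i = 0 := by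
      intro j
      let Φ : L ⊗[k] K →ₗ[k] K := (TensorProduct.lid k K).toLinearMap ∘ₗ (β.coord j).rTensor K
      set t : L ⊗[k] K := ∑ i, ∑ m ∈ (p i).support, (p i).coeff m ⊗ₜ (x ^ m * b i)
      have ht : t = 0 := by
        refine h.1 ?_
        rw [map_zero]
        simp only [t, map_sum, Algebra.TensorProduct.productMap_apply_tmul,
          IsScalarTower.coe_toAlgHom', map_mul, map_pow, ← mul_assoc, ← Finset.sum_mul]
        rw [← hg]
        refine Finset.sum_congr rfl fun i _ => ?_
        rw [Algebra.smul_def]
        change _ = (g i : M) * v i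
        rw [← hp i, aeval_def, eval₂_eq_sum, Polynomial.sum]
      have := congrArg Φ ht
      rw [map_zero] at this
      rw [← this]
      simp only [t, map_sum, Φ, LinearMap.coe_comp, LinearEquiv.coe_coe, Function.comp_apply,
        LinearMap.rTensor_tmul, TensorProduct.lid_tmul, map_mul, map_pow, aeval_C, aeval_X,
        Finset.sum_mul]
      refine Finset.sum_congr rfl fun i _ => Finset.sum_congr rfl fun m _ => ?_
      rw [Algebra.smul_def, mul_assoc]
    intro i
    have hzero : p i = 0 := by
      ext m
      rw [coeff_zero]
      refine β.repr.map_eq_zero_iff.1 (Finsupp.ext fun j => ?_)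
      have hli := Fintype.linearIndependent_iff.1 b.linearIndependent
        (fun i => (⟨_, algebra_adjoin_le_adjoin k _ (Polynomial.aeval_mem_adjoin_singleton k x
          (p := ∑ m ∈ (p i).support, C (β.coord j ((p i).coeff m)) * X ^ m))⟩ :
            adjoin k ({x} : Set K))) (by
          refine Eq.trans ?_ (key j)
          exact Finset.sum_congr rfl fun i _ => Algebra.smul_def _ _) i
      have h0 : (∑ m ∈ (p i).support, C (β.coord j ((p i).coeff m)) * X ^ m) = 0 :=
        transcendental_iff_injective.1 hx (by rw [map_zero]; exact congrArg Subtype.val hli)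
      have := congrArg (fun q => q.coeff m) h0
      simp only [finsetSum_coeff, coeff_C_mul, coeff_X_pow, mul_ite, mul_one, mul_zero,
        Finset.sum_ite_eq, coeff_zero] at this
      by_cases hm : m ∈ (p i).support
      · rw [if_pos hm] at this; exact this
      · rw [notMem_support_iff.1 hm, map_zero]
    exact Subtype.ext (by rw [← hp i, hzero, map_zero]; rfl)
  exact ⟨Module.Basis.mk ((LinearIndependent.iff_fractionRing A' E').1 hli') hspan⟩

include h in
theorem finrank_const (hK : FunFld.IsFunctionField k K) {x : K} (hx : Transcendental k x) :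
    FiniteDimensional (adjoin L ({algebraMap K M x} : Set M)) M ∧
    Module.finrank (adjoin L ({algebraMap K M x} : Set M)) M =
      Module.finrank (adjoin k ({x} : Set K)) K := by
  haveI := Groth.Agent.H23FunFld.finiteDimensional_adjoin hK hx
  set b := Module.finBasis (adjoin k ({x} : Set K)) K
  obtain ⟨B⟩ := exists_basis_const h hx b
  exact ⟨Module.Finite.of_basis B, by rw [Module.finrank_eq_card_basis B, Fintype.card_fin]⟩

include h in
theorem isFF_const (hK : FunFld.IsFunctionField k K) : IsFF L M := by
  obtain ⟨⟨x, hx, -⟩, -⟩ := id hK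
  exact ⟨_, transcendental_const h hx, (finrank_const h hK hx).1⟩

include h in
/-- An element of the constant extension is defined over a finite extension. -/
theorem exists_finite_const (s : Finset M) :
    ∃ F : IntermediateField k L, FiniteDimensional k F ∧
      ∀ z ∈ s, z ∈ Algebra.adjoin K (Set.range fun c : F => algebraMap L M c) := by
  classical
  induction s using Finset.induction_on with
  | empty => exact ⟨⊥, inferInstance, by simp⟩
  | insert z s _ ih =>
    obtain ⟨F, hF, hs⟩ := ih
    obtain ⟨t, rfl⟩ := h.2 z
    obtain ⟨S, rfl⟩ := TensorProduct.exists_finset t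
    let F' : IntermediateField k L := F ⊔ adjoin k ((S.image Prod.fst : Finset L) : Set L)
    haveI : FiniteDimensional k (adjoin k ((S.image Prod.fst : Finset L) : Set L)) :=
      finiteDimensional_adjoin fun c _ => Algebra.IsIntegral.isIntegral c
    haveI := hF
    refine ⟨F', inferInstance, fun w hw => ?_⟩
    have hmono : Algebra.adjoin K (Set.range fun c : F => algebraMap L M c) ≤
        Algebra.adjoin K (Set.range fun c : F' => algebraMap L M c) := by
      refine Algebra.adjoin_mono ?_
      rintro _ ⟨c, rfl⟩
      exact ⟨⟨c, (le_sup_left : F ≤ F') c.2⟩, rfl⟩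
    rcases Finset.mem_insert.1 hw with rfl | hw
    · rw [map_sum]
      refine sum_mem fun p hp => ?_
      rw [Algebra.TensorProduct.productMap_apply_tmul]
      refine mul_mem (Algebra.subset_adjoin ⟨⟨p.1, ?_⟩, rfl⟩) (Subalgebra.algebraMap_mem _ _)
      exact (le_sup_right : _ ≤ F') (subset_adjoin k _ (Finset.mem_coe.2 (Finset.mem_image_of_mem _ hp)))
    · exact hmono (hs w hw)

include h in
/-- A place of the constant extension is nontrivial on `K`. -/
theorem exists_val_lt_one_const (Q : FunFld.Place L M) :
    ∃ a : K, a ≠ 0 ∧ Q.1 (algebraMap K M a) < 1 := by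
  haveI := isAlgebraic_const h
  by_contra hno
  push Not at hno
  have hQ : ∀ c : K, Q.1 (algebraMap K M c) ≤ 1 := fun c => by
    rcases eq_or_ne c 0 with rfl | hc
    · simp
    · have h1 := hno c⁻¹ (inv_ne_zero hc)
      rw [map_inv₀, map_inv₀] at h1
      have hpos : 0 < Q.1 (algebraMap K M c) := Valuation.pos_iff _ |>.2 (by simpa using hc)
      exact (one_le_inv₀ hpos).1 h1
  obtain ⟨y, hy0, hy⟩ := exists_val_eq Q 1
  have := transcendental_of_val_ne_one (⟨Q.1, hQ, Q.2.2⟩ : FunFld.Place K M) hy0 (fun h1 => by
    have h2 : Q.1 y = 1 := h1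
    rw [hy, ← exp_zero, exp_inj] at h2
    omega)
  exact this (Algebra.IsAlgebraic.isAlgebraic y)

end Groth.Agent.H23Geom
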