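import Mathlib
import Groth.Agent.H23Ext.OverFF
import Groth.Agent.H23Geom.Unram

/-!
The order of the inertia group.
-/

set_option autoImplicit false
set_option linter.unusedSectionVars false
set_option linter.style.haveILetI false

namespace Groth.Agent.H23Geom

open Groth.Agent.H23FunFld Groth.Agent.H23Ext Polynomial

variable {k K K' : Type*} [Field k] [Field K] [Field K'] [Algebra k K] [Algebra K K'] [Algebra k K']
  [IsScalarTower k K K'] [FiniteDimensional K K'] [IsGalois K K']

theorem res_eq_zero_iff (Q : FunFld.Place k K') (z : Q.O) :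
    IsLocalRing.residue Q.O z = 0 ↔ Q.1 (z : K') < 1 := by
  rw [IsLocalRing.residue_eq_zero_iff, ValuationSubring.valuation_lt_one_iff,
    ← Q.1.isEquiv_valuation_valuationSubring.lt_one_iff_lt_one]

set_option maxHeartbeats 600000 in
theorem card_inertia (hK : IsFF k K) (Q : FunFld.Place k K') (P : FunFld.Place k K) (e : ℕ)
    (he : FunFld.IsOverWith Q P e) [Algebra.IsSeparable k (IsLocalRing.ResidueField Q.O)] :
    Nat.card (Q.O.inertiaSubgroup K) = e := by
  classical
  have hcount := card_decomposition_mul_deg hK he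
  haveI := isLocalHom_incl (⟨e, he⟩ : FunFld.IsOver Q P)
  set i := incl (⟨e, he⟩ : FunFld.IsOver Q P)
  let fk : IsLocalRing.ResidueField P.O →ₐ[k] IsLocalRing.ResidueField Q.O :=
    { toRingHom := IsLocalRing.ResidueField.map i
      commutes' := fun c => congrArg (IsLocalRing.residue Q.O)
        (Subtype.ext (IsScalarTower.algebraMap_apply k K K' c).symm) }
  set κ₀ : IntermediateField k (IsLocalRing.ResidueField Q.O) := fk.fieldRange
  have hPdeg : P.deg = Module.finrank k κ₀ := (AlgEquiv.ofInjectiveField fk).toLinearEquiv.finrank_eq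
  letI : Module k (IsLocalRing.ResidueField Q.O) := (FunFld.Place.algRes Q).toModule
  haveI : Module.Finite k (IsLocalRing.ResidueField Q.O) := Module.finite_of_finrank_pos (deg_pos' (isFF_extension (K' := K') hK) Q)
  haveI : Algebra.IsSeparable κ₀ (IsLocalRing.ResidueField Q.O) :=
    Algebra.isSeparable_tower_top_of_isSeparable k κ₀ (IsLocalRing.ResidueField Q.O)
  haveI : Module.Finite κ₀ (IsLocalRing.ResidueField Q.O) :=
    Module.Finite.of_restrictScalars_finite k κ₀ (IsLocalRing.ResidueField Q.O)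
  set D := Q.O.decompositionSubgroup K
  obtain ⟨r₀, hr₀⟩ := Field.exists_primitive_element κ₀ (IsLocalRing.ResidueField Q.O)
  set r : (IsLocalRing.ResidueField Q.O) := if r₀ = 0 then 1 else r₀
  have hr : IntermediateField.adjoin κ₀ ({r} : Set (IsLocalRing.ResidueField Q.O)) = ⊤ ∧ r ≠ 0 := by
    by_cases h : r₀ = 0
    · simp only [r, if_pos h]
      refine ⟨top_unique ?_, one_ne_zero⟩
      rw [← hr₀, h, IntermediateField.adjoin_simple_le_iff]
      exact zero_mem _
    · simp only [r, if_neg h]; exact ⟨hr₀, h⟩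
  obtain ⟨hgen, hr0⟩ := hr
  -- the action
  have hfix : ∀ (σ : D) (a : κ₀), σ • algebraMap κ₀ (IsLocalRing.ResidueField Q.O) a = algebraMap κ₀ (IsLocalRing.ResidueField Q.O) a := by
    intro σ a
    obtain ⟨_, a, rfl⟩ := a
    obtain ⟨a, rfl⟩ := IsLocalRing.residue_surjective a
    change σ • IsLocalRing.residue Q.O (i a) = IsLocalRing.residue Q.O (i a)
    rw [← IsLocalRing.ResidueField.residue_smul]
    congr 1
    exact Subtype.ext ((σ : K' ≃ₐ[K] K').commutes (a : K))
  let τ : D → ((IsLocalRing.ResidueField Q.O) →ₐ[κ₀] (IsLocalRing.ResidueField Q.O)) := fun σ =>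
    { (MulSemiringAction.toRingHom D (IsLocalRing.ResidueField Q.O) σ) with commutes' := hfix σ }
  have hτ : ∀ (σ : D) (w : (IsLocalRing.ResidueField Q.O)), τ σ w = σ • w := fun _ _ => rfl
  have hext : ∀ σ : D, σ • r = r → ∀ w : (IsLocalRing.ResidueField Q.O), σ • w = w := by
    intro σ h w
    have hw : w ∈ IntermediateField.adjoin κ₀ ({r} : Set (IsLocalRing.ResidueField Q.O)) := by rw [hgen]; trivial
    rw [← IntermediateField.mem_toSubalgebra, IntermediateField.adjoin_simple_toSubalgebra_of_isAlgebraic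
      (Algebra.IsAlgebraic.isAlgebraic r), Algebra.adjoin_singleton_eq_range_aeval] at hw
    obtain ⟨q, rfl⟩ := hw
    change σ • (aeval r q) = aeval r q
    rw [← hτ, ← aeval_algHom_apply, hτ, h]
  have hstab : MulAction.stabilizer D r = Q.O.inertiaSubgroup K := by
    ext σ
    rw [MulAction.mem_stabilizer_iff, ValuationSubring.inertiaSubgroup, MonoidHom.mem_ker]
    constructor
    · intro h
      refine RingEquiv.ext fun w => ?_
      exact hext σ h w
    · intro h
      exact RingEquiv.congr_fun h r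
  -- the roots of the minimal polynomial
  set m := minpoly κ₀ r
  have hint : IsIntegral κ₀ r := Algebra.IsIntegral.isIntegral r
  have hf : Module.finrank κ₀ (IsLocalRing.ResidueField Q.O) = m.natDegree := by
    rw [← IntermediateField.finrank_top' (F := κ₀) (E := (IsLocalRing.ResidueField Q.O)), ← hgen, IntermediateField.adjoin.finrank hint]
  set O : Finset (IsLocalRing.ResidueField Q.O) := Finset.univ.image fun σ : D => σ • r
  have hOcard : O.card = Nat.card (MulAction.orbit D r) := by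
    rw [Nat.card_coe_set_eq, ← Set.ncard_coe_finset]
    congr 1
    ext w
    simp [O, MulAction.orbit]
  have hupper : ∀ o ∈ O, o ∈ (m.map (algebraMap κ₀ (IsLocalRing.ResidueField Q.O))).roots := by
    intro o ho
    simp only [O, Finset.mem_image, Finset.mem_univ, true_and] at ho
    obtain ⟨σ, rfl⟩ := ho
    rw [mem_roots (map_ne_zero (minpoly.ne_zero hint)), IsRoot.def, eval_map_algebraMap, ← hτ, aeval_algHom_apply,
      minpoly.aeval, map_zero]
  -- the auxiliary element
  obtain ⟨z₀, hz₀⟩ := IsLocalRing.residue_surjective r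
  set T := (Finset.univ : Finset (K' ≃ₐ[K] K')).image (fun σ => Groth.Agent.H23Ext.conj σ Q)
  obtain ⟨z, hz⟩ := approximation T (fun R => if R = Q then (z₀ : K') else 0) (fun _ => -1)
  have hlt : (WithZero.exp (-1 : ℤ)) < 1 := by rw [← WithZero.exp_zero, WithZero.exp_lt_exp]; omega
  have hconjQ : Groth.Agent.H23Ext.conj (1 : K' ≃ₐ[K] K') Q = Q := Subtype.ext (Valuation.ext fun _ => rfl)
  have hzQ : Q.1 (z - z₀) < 1 := by
    have h := hz Q (Finset.mem_image.2 ⟨1, Finset.mem_univ _, hconjQ⟩)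
    rw [if_pos rfl] at h
    exact h.trans_lt hlt
  have hzoff : ∀ σ : K' ≃ₐ[K] K', σ ∉ D → Q.1 (σ z) < 1 := by
    intro σ hσ
    have hne : Groth.Agent.H23Ext.conj σ Q ≠ Q := fun h => hσ (mem_decomposition.2 h)
    have h := hz _ (Finset.mem_image_of_mem (fun σ => Groth.Agent.H23Ext.conj σ Q) (Finset.mem_univ σ))
    rw [if_neg hne, sub_zero, conj_apply] at h
    exact h.trans_lt hlt
  have hzle : Q.1 z ≤ 1 := by
    have := (Q.1.map_add (z - z₀) z₀).trans (max_le hzQ.le z₀.2)
    rwa [sub_add_cancel] at this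
  have hzint : ∀ σ : K' ≃ₐ[K] K', Q.1 (σ z) ≤ 1 := by
    intro σ
    by_cases hσ : σ ∈ D
    · rw [← conj_apply, mem_decomposition.1 hσ]; exact hzle
    · exact (hzoff σ hσ).le
  let zz : (K' ≃ₐ[K] K') → Q.O := fun σ => ⟨σ z, hzint σ⟩
  have hres1 : ∀ σ : D, IsLocalRing.residue Q.O (zz σ) = σ • r := by
    intro σ
    rw [← hz₀, ← IsLocalRing.ResidueField.residue_smul, ← sub_eq_zero, ← map_sub, res_eq_zero_iff]
    change Q.1 ((σ : K' ≃ₐ[K] K') z - (σ : K' ≃ₐ[K] K') (z₀ : K')) < 1
    rw [← map_sub, ← conj_apply, mem_decomposition.1 σ.2]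
    exact hzQ
  have hres2 : ∀ σ : K' ≃ₐ[K] K', σ ∉ D → IsLocalRing.residue Q.O (zz σ) = 0 := fun σ hσ =>
    (res_eq_zero_iff Q _).2 (hzoff σ hσ)
  set g : Q.O[X] := ∏ σ : K' ≃ₐ[K] K', (X - C (zz σ))
  have hgK : ∀ n, ∃ c : P.O, i c = g.coeff n := by
    intro n
    have hmap : g.map Q.O.subtype = ∏ σ : K' ≃ₐ[K] K', (X - C (σ z)) := by
      simp only [g, Polynomial.map_prod, Polynomial.map_sub, map_X, map_C]
      rfl
    have hfixed : ∀ τ' : K' ≃ₐ[K] K', τ' ((g.coeff n : Q.O) : K') = ((g.coeff n : Q.O) : K') := by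
      intro τ'
      have h1 : ((g.map Q.O.subtype).map (τ' : K' →+* K')) = g.map Q.O.subtype := by
        rw [hmap, Polynomial.map_prod]
        refine Fintype.prod_equiv (Equiv.mulLeft τ') _ _ fun σ => ?_
        simp [AlgEquiv.mul_apply]
      have h2 := congrArg (fun q => Polynomial.coeff q n) h1
      simp only [coeff_map] at h2
      exact h2
    obtain ⟨c, hc⟩ := (IsGalois.mem_range_algebraMap_iff_fixed _).2 hfixed
    have hcP : P.1 c ≤ 1 := by
      refine (le_one_iff_of_isOver ⟨e, he⟩ c).1 ?_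
      rw [hc]
      exact (g.coeff n).2
    exact ⟨⟨c, hcP⟩, Subtype.ext hc⟩
  set gb : (IsLocalRing.ResidueField Q.O)[X] := g.map (IsLocalRing.residue Q.O)
  have hlift : gb ∈ Polynomial.lifts (algebraMap κ₀ (IsLocalRing.ResidueField Q.O)) := by
    rw [lifts_iff_coeff_lifts]
    intro n
    obtain ⟨c, hc⟩ := hgK n
    exact ⟨⟨fk (IsLocalRing.residue P.O c), IsLocalRing.residue P.O c, rfl⟩, by rw [coeff_map, ← hc]; rfl⟩
  obtain ⟨gP, hgP⟩ := hlift
  change gP.map (algebraMap κ₀ (IsLocalRing.ResidueField Q.O)) = gb at hgP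
  have hgb : gb = ∏ σ : K' ≃ₐ[K] K', (X - C (IsLocalRing.residue Q.O (zz σ))) := by
    simp only [gb, g, Polynomial.map_prod, Polynomial.map_sub, map_X, map_C]
  have hroot : aeval r gP = 0 := by
    rw [← eval_map_algebraMap, hgP, hgb, eval_prod]
    refine Finset.prod_eq_zero (Finset.mem_univ 1) ?_
    have := hres1 1
    rw [one_smul] at this
    rw [show zz ((1 : D) : K' ≃ₐ[K] K') = zz 1 from rfl] at this
    rw [this]
    simp
  have hdvd : m.map (algebraMap κ₀ (IsLocalRing.ResidueField Q.O)) ∣ gb := by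
    rw [← hgP]
    exact Polynomial.map_dvd (algebraMap κ₀ (IsLocalRing.ResidueField Q.O)) (minpoly.dvd κ₀ r hroot)
  have hgb0 : gb ≠ 0 := by
    rw [hgb]; exact Finset.prod_ne_zero_iff.2 fun σ _ => X_sub_C_ne_zero _
  have hsplit : (m.map (algebraMap κ₀ (IsLocalRing.ResidueField Q.O))).Splits := by
    refine Splits.of_dvd ?_ hgb0 hdvd
    rw [hgb]
    exact Splits.prod fun σ _ => Splits.X_sub_C _
  have hlower : ∀ o ∈ (m.map (algebraMap κ₀ (IsLocalRing.ResidueField Q.O))).roots, o ∈ O := by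
    intro o ho
    obtain ⟨hne, ho'⟩ := mem_roots'.1 ho
    have ho2 : gb.IsRoot o := ho'.dvd hdvd
    rw [hgb, IsRoot.def, eval_prod, Finset.prod_eq_zero_iff] at ho2
    obtain ⟨σ, -, hσ⟩ := ho2
    rw [eval_sub, eval_X, eval_C, sub_eq_zero] at hσ
    by_cases hD : σ ∈ D
    · rw [hσ]
      exact Finset.mem_image.2 ⟨⟨σ, hD⟩, Finset.mem_univ _, (hres1 ⟨σ, hD⟩).symm⟩
    · rw [hres2 σ hD] at hσ
      rw [IsRoot.def, hσ, ← coeff_zero_eq_eval_zero, coeff_map, _root_.map_eq_zero] at ho'
      exact absurd ho' (minpoly.coeff_zero_ne_zero hint hr0)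
  have hnodup : (m.map (algebraMap κ₀ (IsLocalRing.ResidueField Q.O))).roots.Nodup :=
    nodup_roots (Polynomial.Separable.map (Algebra.IsSeparable.isSeparable κ₀ r : (minpoly κ₀ r).Separable))
  have hOf : O.card = m.natDegree := by
    rw [← natDegree_map (algebraMap κ₀ (IsLocalRing.ResidueField Q.O)), hsplit.natDegree_eq_card_roots, ← Multiset.toFinset_card_of_nodup hnodup]
    congr 1
    ext o
    rw [Multiset.mem_toFinset]
    exact ⟨hupper o, hlower o⟩
  have hQdeg : Q.deg = P.deg * O.card := by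
    rw [hOf, ← hf, hPdeg]
    exact (Module.finrank_mul_finrank k κ₀ (IsLocalRing.ResidueField Q.O)).symm
  have horb : O.card * Nat.card (Q.O.inertiaSubgroup K) = Nat.card D := by
    rw [hOcard, ← hstab, Nat.card_coe_set_eq, ← MulAction.index_stabilizer, mul_comm]
    exact Subgroup.card_mul_index _
  have hO0 : 0 < O.card := Finset.card_pos.2 (Finset.univ_nonempty.image _)
  have hP0 : 0 < P.deg := deg_pos' hK P
  rw [← horb, hQdeg] at hcount
  have h1 : (P.deg * O.card) * Nat.card (Q.O.inertiaSubgroup K) = (P.deg * O.card) * e := by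
    rw [mul_comm (P.deg * O.card) e, ← hcount]; ring
  exact Nat.eq_of_mul_eq_mul_left (Nat.mul_pos hP0 hO0) h1

end Groth.Agent.H23Geom
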