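import Mathlib
import Groth.Agent.H23Geom.Inertia

/-!
Inertia in a subextension.
-/

set_option autoImplicit false
set_option linter.unusedSectionVars false
set_option linter.style.haveILetI false

namespace Groth.Agent.H23Geom

open Groth.Agent.H23FunFld Groth.Agent.H23Ext

variable {k K K' : Type*} [Field k] [Field K] [Field K'] [Algebra k K] [Algebra K K'] [Algebra k K']
  [IsScalarTower k K K']

/-- The inertia group inside the Galois group. -/
noncomputable abbrev inertiaMap (K : Type*) {K' : Type*} {k : Type*} [Field k] [Field K] [Field K'] [Algebra K K']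
    [Algebra k K'] (Q : FunFld.Place k K') : Subgroup (K' ≃ₐ[K] K') :=
  (Q.O.inertiaSubgroup K).map (Q.O.decompositionSubgroup K).subtype

theorem mem_inertiaMap_iff [FiniteDimensional K K'] (Q : FunFld.Place k K') (σ : K' ≃ₐ[K] K') :
    σ ∈ inertiaMap K Q ↔ ∀ x : K', Q.1 x ≤ 1 → Q.1 (σ x - x) < 1 := by
  constructor
  · rintro ⟨τ, hτ, rfl⟩ x hx
    have h := RingEquiv.congr_fun (MonoidHom.mem_ker.1 hτ) (IsLocalRing.residue Q.O ⟨x, hx⟩)
    change τ • IsLocalRing.residue Q.O ⟨x, hx⟩ = IsLocalRing.residue Q.O ⟨x, hx⟩ at h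
    rw [← IsLocalRing.ResidueField.residue_smul, ← sub_eq_zero, ← map_sub, res_eq_zero_iff] at h
    exact h
  · intro h
    have hD : σ ∈ Q.O.decompositionSubgroup K := by
      refine mem_decomposition.2 (place_eq_of_le fun x hx => ?_).symm
      rw [conj_apply]
      have := Q.1.map_add (σ x - x) x
      rw [sub_add_cancel] at this
      exact this.trans (max_le (h x hx).le hx)
    refine ⟨⟨σ, hD⟩, MonoidHom.mem_ker.2 (RingEquiv.ext fun w => ?_), rfl⟩
    obtain ⟨⟨x, hx⟩, rfl⟩ := IsLocalRing.residue_surjective w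
    change (⟨σ, hD⟩ : Q.O.decompositionSubgroup K) • IsLocalRing.residue Q.O ⟨x, hx⟩ = IsLocalRing.residue Q.O ⟨x, hx⟩
    rw [← IsLocalRing.ResidueField.residue_smul, ← sub_eq_zero, ← map_sub, res_eq_zero_iff]
    exact h x hx

variable [FiniteDimensional K K'] [IsGalois K K']

theorem card_inertiaMap (hK : IsFF k K) (Q : FunFld.Place k K') (P : FunFld.Place k K) (e : ℕ)
    (he : FunFld.IsOverWith Q P e) [Algebra.IsSeparable k (IsLocalRing.ResidueField Q.O)] :
    Nat.card (inertiaMap K Q) = e := by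
  rw [← card_inertia hK Q P e he]
  exact (Nat.card_congr ((Q.O.inertiaSubgroup K).equivMapOfInjective _ (Subgroup.subtype_injective _)).toEquiv).symm

/-- The ramification index over an intermediate field. -/
theorem card_inf_fixing (hK : IsFF k K) (Q : FunFld.Place k K') [Algebra.IsSeparable k (IsLocalRing.ResidueField Q.O)]
    (E : IntermediateField K K') :
    ∃ (QE : FunFld.Place k E) (P : FunFld.Place k K) (e₁ e : ℕ), FunFld.IsOverWith Q QE e₁ ∧
      FunFld.IsOverWith Q P e ∧ Nat.card (inertiaMap K Q) = e ∧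
      Nat.card ↥(inertiaMap K Q ⊓ E.fixingSubgroup) = e₁ := by
  obtain ⟨P, e, he⟩ := exists_below (K' := K') hK Q
  have hE : IsFF k E := isFF_extension (K' := E) hK
  haveI : IsScalarTower k E K' := IsScalarTower.of_algebraMap_eq fun _ => rfl
  obtain ⟨QE, e₁, he₁⟩ := exists_below (K' := K') hE Q
  haveI : IsGalois E K' := IsGalois.tower_top_of_isGalois K E K'
  refine ⟨QE, P, e₁, e, he₁, he, card_inertiaMap hK Q P e he, ?_⟩
  rw [← card_inertiaMap hE Q QE e₁ he₁]
  refine (Nat.card_congr (show ↥(inertiaMap (↥E) Q) ≃ ↥(inertiaMap K Q ⊓ E.fixingSubgroup) from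
    { toFun := fun τ => ⟨τ.1.restrictScalars K, Subgroup.mem_inf.2 ⟨(mem_inertiaMap_iff Q _).2 fun x hx =>
          (mem_inertiaMap_iff Q τ.1).1 τ.2 x hx,
        (IntermediateField.mem_fixingSubgroup_iff _ _).2 fun x hx => τ.1.commutes ⟨x, hx⟩⟩⟩
      invFun := fun σ => ⟨IntermediateField.fixingSubgroupEquiv E ⟨σ.1, (Subgroup.mem_inf.1 σ.2).2⟩,
        (mem_inertiaMap_iff Q _).2 fun x hx => (mem_inertiaMap_iff Q σ.1).1 (Subgroup.mem_inf.1 σ.2).1 x hx⟩
      left_inv := fun τ => Subtype.ext (AlgEquiv.ext fun _ => rfl)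
      right_inv := fun σ => Subtype.ext (AlgEquiv.ext fun _ => rfl) })).symm

end Groth.Agent.H23Geom
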