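import Groth.Agent.H18Pur.QFCore

/-! Invariants of the subgroup generated by inertia in height one give an unramified extension. -/

set_option autoImplicit false
universe u v w

open Polynomial

namespace Groth.Agent.H23Geom.InertiaGen

section
variable {R : Type u} [CommRing R] {A : Type v} [CommRing A] [Algebra R A]
  {H : Type w} [Group H] [MulSemiringAction H A] [SMulCommClass H R A]

/-- The action of `σ` as a ring hom. -/
noncomputable abbrev act (A : Type v) [CommRing A] [MulSemiringAction H A] (σ : H) : A →+* A :=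
  MulSemiringAction.toRingHom H A σ

theorem smul_eq_alg (σ : H) (r : R) : σ • algebraMap R A r = algebraMap R A r :=
  smul_algebraMap σ r

theorem exists_agree [Module.Finite R A] [Finite H] (N : Subgroup H) (P : Ideal A) [P.IsPrime] (σ : H)
    (hσ : ∀ b : A, (∀ n ∈ N, n • b = b) → σ • b - b ∈ P) :
    ∃ n ∈ N, ∀ a : A, σ • a - n • a ∈ P := by
  classical
  haveI : Fintype N := Fintype.ofFinite N
  obtain ⟨m, a, ha⟩ := Module.Finite.exists_fin (R := R) (M := A)
  let π := Ideal.Quotient.mk P
  let f : A[X] := ∑ i : Fin m, monomial (i : ℕ) (a i)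
  have hf : ∀ i : Fin m, f.coeff i = a i := by
    intro i
    simp [f, coeff_monomial, Fin.val_inj]
  let G : Polynomial (A[X]) := ∏ n : N, (X - C (f.map (act A (n : H))))
  have hG : ∀ k : N, G.map (mapRingHom (act A (k : H))) = G := by
    intro k
    simp only [G, Polynomial.map_prod, Polynomial.map_sub, map_X, map_C, coe_mapRingHom, map_map]
    refine Fintype.prod_equiv (Equiv.mulLeft k) _ _ fun n => ?_
    congr 2
    congr 1
    ext x
    simp [mul_smul]
  have hc : ∀ i j, π (σ • (G.coeff i).coeff j) = π ((G.coeff i).coeff j) := by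
    intro i j
    rw [Ideal.Quotient.eq]
    refine hσ _ fun n hn => ?_
    have h1 := congrArg (fun Q => (Q.coeff i).coeff j) (hG ⟨n, hn⟩)
    simpa [coeff_map] using h1
  have hkey : G.map (mapRingHom (π.comp (act A σ))) = G.map (mapRingHom π) := by
    ext i j
    simpa [coeff_map] using hc i j
  have h0 : G.eval f = 0 := by
    simp only [G, eval_prod]
    refine Finset.prod_eq_zero (Finset.mem_univ (1 : N)) ?_
    have h1 : act A ((1 : N) : H) = RingHom.id A := RingHom.ext fun x => by simp
    rw [h1, Polynomial.map_id, eval_sub, eval_X, eval_C, sub_self]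
  have h2 : (G.map (mapRingHom (π.comp (act A σ)))).eval (mapRingHom (π.comp (act A σ)) f) = 0 := by
    rw [eval_map_apply, h0, map_zero]
  rw [hkey] at h2
  simp only [G, Polynomial.map_prod, Polynomial.map_sub, map_X, map_C, eval_prod, eval_sub, eval_X,
    eval_C, coe_mapRingHom, map_map, Finset.prod_eq_zero_iff, sub_eq_zero] at h2
  obtain ⟨n, -, hn⟩ := h2
  refine ⟨n, n.2, fun x => ?_⟩
  have hx : x ∈ Submodule.span R (Set.range a) := by rw [ha]; trivial
  induction hx using Submodule.span_induction with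
  | mem x hx =>
    obtain ⟨i, rfl⟩ := hx
    have := congrArg (fun q => q.coeff (i : ℕ)) hn
    simp only [coeff_map, hf] at this
    exact Ideal.Quotient.eq.mp this
  | zero => simp
  | add x y _ _ hx hy =>
    have := add_mem hx hy
    rwa [smul_add, smul_add, show σ • x + σ • y - ((n : H) • x + (n : H) • y) =
      σ • x - (n : H) • x + (σ • y - (n : H) • y) by ring]
  | smul r x _ hx =>
    rw [smul_comm σ r x, smul_comm (n : H) r x, ← smul_sub, Algebra.smul_def]
    exact P.mul_mem_left _ hx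

theorem exists_separating [Module.Finite R A] [Finite H] (N : Subgroup H) (P : Ideal A) [P.IsPrime]
    (hP : ∀ τ : H, (∀ a : A, τ • a - a ∈ P) → τ ∈ N)
    (hinf : (∀ τ : H, τ ∈ N) ∨ Infinite (R ⧸ P.comap (algebraMap R A))) :
    ∃ b : A, (∀ n ∈ N, n • b = b) ∧ ∀ σ : H, σ ∉ N → σ • b - b ∉ P := by
  classical
  rcases hinf with htop | hinf
  · exact ⟨0, fun n _ => smul_zero n, fun σ hσ => absurd (htop σ) hσ⟩
  haveI : Fintype H := Fintype.ofFinite H
  have hex : ∀ σ : H, σ ∉ N → ∃ c : A, (∀ n ∈ N, n • c = c) ∧ σ • c - c ∉ P := by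
    intro σ hσ
    by_contra hcon
    push Not at hcon
    obtain ⟨n, hn, hna⟩ := exists_agree (R := R) N P σ hcon
    apply hσ
    have h1 : σ * n⁻¹ ∈ N := hP _ fun a => by
      have := hna (n⁻¹ • a)
      rwa [smul_smul, smul_inv_smul] at this
    simpa using N.mul_mem h1 hn
  let p := P.comap (algebraMap R A)
  have key : ∀ T : Finset H, (∀ σ ∈ T, σ ∉ N) →
      ∃ b : A, (∀ n ∈ N, n • b = b) ∧ ∀ σ ∈ T, σ • b - b ∉ P := by
    intro T
    induction T using Finset.induction with
    | empty => intro _; exact ⟨0, fun n _ => smul_zero n, fun σ h => absurd h (Finset.notMem_empty σ)⟩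
    | @insert σ₀ T _ ih =>
      intro hT
      obtain ⟨b, hb, hbT⟩ := ih fun σ h => hT σ (Finset.mem_insert_of_mem h)
      by_cases hb0 : σ₀ • b - b ∈ P
      swap
      · refine ⟨b, hb, fun σ h => ?_⟩
        rcases Finset.mem_insert.mp h with rfl | h
        · exact hb0
        · exact hbT σ h
      obtain ⟨c, hc, hc0⟩ := hex σ₀ (hT σ₀ (Finset.mem_insert_self _ _))
      let bad : H → Set (R ⧸ p) := fun σ =>
        {z | ∃ r : R, Ideal.Quotient.mk p r = z ∧ σ • (b + r • c) - (b + r • c) ∈ P}
      have hexp : ∀ (σ : H) (r : R), σ • (b + r • c) - (b + r • c) =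
          σ • b - b + algebraMap R A r * (σ • c - c) := by
        intro σ r
        rw [smul_add, smul_comm σ r c, Algebra.smul_def, Algebra.smul_def]
        ring
      have hbad : ∀ σ ∈ insert σ₀ T, (bad σ).Subsingleton := by
        rintro σ hσ z ⟨r, rfl, hr⟩ z' ⟨r', rfl, hr'⟩
        rw [hexp] at hr hr'
        have hcσ : σ • c - c ∉ P := by
          intro hmem
          rcases Finset.mem_insert.mp hσ with rfl | hσT
          · exact hc0 hmem
          · exact hbT σ hσT (by simpa using P.sub_mem hr (P.mul_mem_left (algebraMap R A r) hmem))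
        rw [Ideal.Quotient.eq]
        show algebraMap R A (r - r') ∈ P
        have h2 := P.sub_mem hr hr'
        rw [show σ • b - b + algebraMap R A r * (σ • c - c) -
          (σ • b - b + algebraMap R A r' * (σ • c - c)) =
          algebraMap R A (r - r') * (σ • c - c) by rw [map_sub]; ring] at h2
        exact ((‹P.IsPrime›).mem_or_mem h2).resolve_right hcσ
      have hfin : (⋃ σ ∈ (insert σ₀ T : Finset H), bad σ).Finite :=
        Set.Finite.biUnion (Finset.finite_toSet _) fun σ hσ => (hbad σ hσ).finite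
      obtain ⟨z, hz⟩ := hfin.infinite_compl.nonempty
      obtain ⟨r, rfl⟩ := Ideal.Quotient.mk_surjective z
      refine ⟨b + r • c, fun n hn => by rw [smul_add, smul_comm n r c, hb n hn, hc n hn],
        fun σ hσ hmem => hz ?_⟩
      exact Set.mem_biUnion hσ ⟨r, rfl, hmem⟩
  obtain ⟨b, hb, hbT⟩ := key (Finset.univ.filter fun σ => σ ∉ N) (by simp)
  exact ⟨b, hb, fun σ hσ => hbT σ (by simpa using hσ)⟩

theorem exists_lift_of_invariant (hfix : ∀ a : A, (∀ h : H, h • a = a) → a ∈ Set.range (algebraMap R A))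
    (p : A[X]) (hp : ∀ h : H, p.map (act A h) = p) : ∃ p₀ : R[X], p₀.map (algebraMap R A) = p := by
  refine (Polynomial.mem_lifts _).mp ((Polynomial.lifts_iff_coeff_lifts p).mpr fun n => hfix _ fun h => ?_)
  have := congrArg (fun q => q.coeff n) (hp h)
  simpa [coeff_map] using this

/-- A derivation vanishes on an extension which is standard étale after inverting an element. -/
theorem formallyUnramified_of_core {B : Type u} [CommRing B] [Algebra R B] (Q : Ideal B) [Q.IsPrime]
    (b₀ : B) (f₀ : R[X]) (hf : aeval b₀ f₀ = 0) (hd : aeval b₀ (derivative f₀) ∉ Q)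
    (hg : ∀ x : B, ∃ g : R[X], aeval b₀ g = x * aeval b₀ (derivative f₀)) :
    Algebra.IsUnramifiedAt R Q := by
  let L := Localization.AtPrime Q
  let D := KaehlerDifferential.D R L
  let b := algebraMap B L b₀
  have hev : ∀ p : R[X], aeval b p = algebraMap B L (aeval b₀ p) := fun p =>
    Polynomial.aeval_algebraMap_apply L b₀ p
  have hu : IsUnit (algebraMap B L (aeval b₀ (derivative f₀))) :=
    IsLocalization.map_units L (⟨_, hd⟩ : Q.primeCompl)
  have hDb : D b = 0 := by
    have h1 := D.map_aeval f₀ b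
    rw [hev f₀, hf, map_zero, map_zero, hev] at h1
    exact hu.smul_eq_zero.mp h1.symm
  have hDp : ∀ p : R[X], D (aeval b p) = 0 := fun p => by rw [D.map_aeval, hDb, smul_zero]
  have hDx : ∀ x : B, D (algebraMap B L x) = 0 := by
    intro x
    obtain ⟨g, hg⟩ := hg x
    have h1 := hDp g
    rw [hev g, hg, map_mul, D.leibniz, ← hev (derivative f₀), hDp, smul_zero, zero_add, hev] at h1
    exact hu.smul_eq_zero.mp h1
  have hDy : ∀ y : L, D y = 0 := by
    intro y
    obtain ⟨⟨x, s⟩, hxs⟩ := IsLocalization.surj Q.primeCompl y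
    have h1 := hDx x
    rw [← hxs, D.leibniz, hDx, smul_zero, zero_add] at h1
    exact (IsLocalization.map_units L s).smul_eq_zero.mp h1
  show Algebra.FormallyUnramified R L
  refine ⟨subsingleton_of_forall_eq 0 fun w => ?_⟩
  have hw : w ∈ Submodule.span L (Set.range D) := by
    rw [KaehlerDifferential.span_range_derivation]; trivial
  induction hw using Submodule.span_induction with
  | mem x hx => obtain ⟨y, rfl⟩ := hx; exact hDy y
  | zero => rfl
  | add x y _ _ hx hy => rw [hx, hy, add_zero]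
  | smul r x _ hx => rw [hx, smul_zero]

theorem isUnramifiedAt_of_separating [IsDomain A] [Finite H]
    (hfix : ∀ a : A, (∀ h : H, h • a = a) → a ∈ Set.range (algebraMap R A))
    (N : Subgroup H) {B : Type u} [CommRing B] [Algebra R B] (ψ : B →ₐ[R] A)
    (hψ : Function.Injective ψ) (hinv : ∀ x : B, ∀ n ∈ N, n • ψ x = ψ x)
    (hsurj : ∀ a : A, (∀ n ∈ N, n • a = a) → ∃ x, ψ x = a)
    (P : Ideal A) [P.IsPrime] (Q : Ideal B) [Q.IsPrime] (hPQ : P.comap ψ = Q)
    (b : A) (hb : ∀ n ∈ N, n • b = b) (hsep : ∀ σ : H, σ ∉ N → σ • b - b ∉ P) :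
    Algebra.IsUnramifiedAt R Q := by
  classical
  haveI : Fintype H := Fintype.ofFinite H
  obtain ⟨b₀, rfl⟩ := hsurj b hb
  set b := ψ b₀ with hb'
  have hstab : ∀ σ : H, σ • b = b → σ ∈ N := fun σ h => by
    by_contra hc
    exact hsep σ hc (by simp [h])
  let S : Finset A := Finset.univ.image fun σ : H => σ • b
  have hbS : b ∈ S := Finset.mem_image.mpr ⟨1, Finset.mem_univ _, one_smul _ _⟩
  have hS : ∀ (h : H), ∀ y ∈ S, h • y ∈ S := by
    intro h y hy
    obtain ⟨σ, -, rfl⟩ := Finset.mem_image.mp hy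
    exact Finset.mem_image.mpr ⟨h * σ, Finset.mem_univ _, mul_smul _ _ _⟩
  let f : A[X] := ∏ y ∈ S, (X - C y)
  have hperm : ∀ (h : H) (T : Finset A) (F G : A → A[X]) (T' : Finset A),
      (∀ y ∈ T, h • y ∈ T') → (∀ y ∈ T', h⁻¹ • y ∈ T) → (∀ y ∈ T, F y = G (h • y)) →
      ∏ y ∈ T, F y = ∏ y ∈ T', G y := fun h T F G T' h1 h2 h3 =>
    Finset.prod_nbij' (h • ·) (h⁻¹ • ·) h1 h2 (fun y _ => inv_smul_smul h y)
      (fun y _ => smul_inv_smul h y) h3
  have hfinv : ∀ h : H, f.map (act A h) = f := by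
    intro h
    simp only [f, Polynomial.map_prod, Polynomial.map_sub, map_X, map_C]
    exact hperm h S _ _ S (hS h) (hS h⁻¹) fun y _ => rfl
  have hsy : ∀ y ∈ S, ∃ σ : H, σ • b = y := fun y hy => by
    obtain ⟨σ, -, h⟩ := Finset.mem_image.mp hy
    exact ⟨σ, h⟩
  let sy : A → H := fun y => if hy : y ∈ S then (hsy y hy).choose else 1
  have hsy' : ∀ y ∈ S, sy y • b = y := fun y hy => by
    simp only [sy, dif_pos hy]
    exact (hsy y hy).choose_spec
  obtain ⟨f₀, hf₀⟩ := exists_lift_of_invariant hfix f hfinv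
  have hψev : ∀ p : R[X], ψ (aeval b₀ p) = (p.map (algebraMap R A)).eval b := fun p => by
    rw [← Polynomial.aeval_algHom_apply, eval_map, aeval_def]
  have hfd : (derivative f).eval b = ∏ z ∈ S.erase b, (b - z) := by
    have hf' : f = (X - C b) * ∏ z ∈ S.erase b, (X - C z) := (Finset.mul_prod_erase S _ hbS).symm
    simp [hf', derivative_mul, eval_prod]
  have hd₀ : ψ (aeval b₀ (derivative f₀)) = (derivative f).eval b := by
    rw [hψev, ← derivative_map, hf₀]
  refine formallyUnramified_of_core Q b₀ f₀ ?_ ?_ ?_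
  · apply hψ
    rw [hψev, hf₀, map_zero]
    simp only [f, eval_prod]
    exact Finset.prod_eq_zero hbS (by simp)
  · intro hQ
    rw [← hPQ, Ideal.mem_comap, hd₀, hfd] at hQ
    obtain ⟨z, hz, hzP⟩ := (‹P.IsPrime›).prod_mem_iff.mp hQ
    obtain ⟨hzb, hzS⟩ := Finset.mem_erase.mp hz
    obtain ⟨σ, rfl⟩ := hsy z hzS
    refine hsep σ (fun hσ => hzb (hinv b₀ σ hσ)) ?_
    rw [← Ideal.neg_mem_iff, neg_sub]
    exact hzP
  · intro x
    let F : A → A[X] := fun y => C (sy y • ψ x) * ∏ z ∈ S.erase y, (X - C z)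
    let g : A[X] := ∑ y ∈ S, F y
    have hFinv : ∀ h : H, ∀ y ∈ S, (F y).map (act A h) = F (h • y) := by
      intro h y hy
      have hτ : (sy (h • y))⁻¹ * h * sy y ∈ N := hstab _ (by
        rw [mul_smul, mul_smul, hsy' y hy, inv_smul_eq_iff, hsy' _ (hS h y hy)])
      have hx : sy (h • y) • ψ x = h • sy y • ψ x := by
        have := hinv x _ hτ
        rw [mul_smul, mul_smul, inv_smul_eq_iff] at this
        exact this.symm
      simp only [F, Polynomial.map_mul, map_C, Polynomial.map_prod, Polynomial.map_sub, map_X, hx]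
      congr 1
      refine hperm h _ _ _ _ (fun z hz => ?_) (fun z hz => ?_) fun z _ => rfl
      · obtain ⟨h1, h2⟩ := Finset.mem_erase.mp hz
        exact Finset.mem_erase.mpr ⟨fun h3 => h1 (smul_left_cancel h h3), hS h z h2⟩
      · obtain ⟨h1, h2⟩ := Finset.mem_erase.mp hz
        exact Finset.mem_erase.mpr ⟨fun h3 => h1 (by rw [← h3, smul_inv_smul]), hS _ z h2⟩
    have hginv : ∀ h : H, g.map (act A h) = g := by
      intro h
      simp only [g, Polynomial.map_sum]
      exact Finset.sum_nbij' (h • ·) (h⁻¹ • ·) (hS h) (hS h⁻¹) (fun y _ => inv_smul_smul h y)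
        (fun y _ => smul_inv_smul h y) (hFinv h)
    obtain ⟨g₀, hg₀⟩ := exists_lift_of_invariant hfix g hginv
    refine ⟨g₀, hψ ?_⟩
    rw [map_mul, hψev, hg₀, hd₀, hfd]
    simp only [g, F, eval_finsetSum, eval_mul, eval_C, eval_prod, eval_sub, eval_X]
    rw [Finset.sum_eq_single b]
    · rw [hinv x _ (hstab _ (hsy' b hbS))]
    · intro y hy hyb
      rw [Finset.prod_eq_zero (Finset.mem_erase.mpr ⟨Ne.symm hyb, hbS⟩) (sub_self b), mul_zero]
    · exact fun h => absurd hbS h

end

end Groth.Agent.H23Geom.InertiaGen
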