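import Mathlib
import Groth.Prelude.Def_W4bk4goldsch23Ext
import Groth.Agent.H23Geom.ConstIntApp
import Groth.Agent.H23Geom.Unram
import Groth.Agent.H23Ext.OverFF

/-!
Regularity along towers of constant extensions.
-/

set_option autoImplicit false
set_option linter.unusedSectionVars false
set_option linter.style.haveILetI false
set_option maxHeartbeats 1000000

namespace Groth.Agent.H23Geom

open WithZero Polynomial
open Groth.Agent.H23FunFld (approximation exists_exp_neg_nat_bound val_eq_exp)
open Groth.Agent.H23Ext

/-- Integrality is inherited by bigger subrings. -/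
theorem isIntegral_subring_mono {L : Type*} [CommRing L] {S S' : Subring L} (h : S ≤ S') {z : L}
    (hz : IsIntegral S z) : IsIntegral S' z := by
  obtain ⟨p, hm, hp⟩ := hz
  exact ⟨p.map (Subring.inclusion h), hm.map _, by rw [eval₂_map]; exact hp⟩

section Coords

variable {k' k'' K' K'' : Type*} [Field k'] [Field k''] [Field K'] [Field K''] [Algebra k' k'']
  [FiniteDimensional k' k''] [Algebra k' K'] [Algebra K' K''] [Algebra k'' K''] [Algebra k' K'']
  [IsScalarTower k' k'' K''] [IsScalarTower k' K' K'']
  (h : Function.Bijective (Algebra.TensorProduct.productMap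
      (IsScalarTower.toAlgHom k' k'' K'') (IsScalarTower.toAlgHom k' K' K'')))

include h in
/-- A basis of a constant extension made of constants. -/
theorem exists_const_basis :
    ∃ B : Module.Basis (Fin (Module.finrank k' k'')) K' K'',
      ∀ i, B i = algebraMap k'' K'' (Module.finBasis k' k'' i) := by
  let f : TensorProduct k' K' k'' →ₐ[K'] K'' :=
    Algebra.TensorProduct.lift (Algebra.ofId K' K'') (IsScalarTower.toAlgHom k' k'' K'')
      (fun _ _ => Commute.all _ _)
  have hf : ∀ t, f t = Algebra.TensorProduct.productMap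
      (IsScalarTower.toAlgHom k' K' K'') (IsScalarTower.toAlgHom k' k'' K'') t := by
    intro t
    induction t using TensorProduct.induction_on with
    | zero => rw [map_zero, map_zero]
    | tmul a b => simp [f, Algebra.ofId_apply]
    | add a b ha hb =>
      change f (a + b) = _
      rw [map_add, map_add]
      exact congrArg₂ (· + ·) ha hb
  have hb : Function.Bijective f := by
    rw [funext hf]
    exact productMap_swap h
  refine ⟨(Algebra.TensorProduct.basis K' (Module.finBasis k' k'')).map
    (AlgEquiv.ofBijective f hb).toLinearEquiv, fun i => ?_⟩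
  rw [Module.Basis.map_apply, Algebra.TensorProduct.basis_apply]
  change f (1 ⊗ₜ Module.finBasis k' k'' i) = _
  simp [f]

variable (B : Module.Basis (Fin (Module.finrank k' k'')) K' K'')
  (hB : ∀ i, B i = algebraMap k'' K'' (Module.finBasis k' k'' i))

include hB in
theorem repr_const (c : k'') (l : Fin (Module.finrank k' k'')) :
    B.repr (algebraMap k'' K'' c) l = algebraMap k' K' ((Module.finBasis k' k'').repr c l) := by
  classical
  have e : algebraMap k'' K'' c =
      ∑ i, algebraMap k' K' ((Module.finBasis k' k'').repr c i) • B i := by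
    conv_lhs => rw [← (Module.finBasis k' k'').sum_repr c, map_sum]
    refine Finset.sum_congr rfl fun i _ => ?_
    rw [hB, Algebra.smul_def, map_mul, Algebra.smul_def, ← IsScalarTower.algebraMap_apply,
      ← IsScalarTower.algebraMap_apply]
  conv_lhs => rw [e, B.repr_sum_self]

include hB in
/-- Elements of the ring generated by constants over `R` have coordinates in `R`. -/
theorem coord_mem (R : Subring K') (hR : ∀ c : k', algebraMap k' K' c ∈ R) {w : K''}
    (hw : w ∈ Subring.closure (algebraMap K' K'' '' (R : Set K') ∪ Set.range (algebraMap k'' K'')))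
    (l : Fin (Module.finrank k' k'')) : B.repr w l ∈ R := by
  classical
  induction hw using Subring.closure_induction generalizing l with
  | mem a ha =>
    rcases ha with ⟨r, hr, rfl⟩ | ⟨c, rfl⟩
    · rw [Algebra.algebraMap_eq_smul_one r, map_smul, Finsupp.smul_apply, smul_eq_mul,
        ← map_one (algebraMap k'' K''), repr_const B hB]
      exact mul_mem hr (hR _)
    · rw [repr_const B hB]
      exact hR _
  | zero => simp
  | one =>
    rw [← map_one (algebraMap k'' K''), repr_const B hB]
    exact hR _
  | add a b _ _ ha hb => rw [map_add, Finsupp.add_apply]; exact add_mem (ha l) (hb l)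
  | neg a _ ha => rw [map_neg, Finsupp.neg_apply]; exact neg_mem (ha l)
  | mul a b _ _ ha hb =>
    conv in a * b => rw [← B.sum_repr a, ← B.sum_repr b, Finset.sum_mul_sum]
    simp only [map_sum, Finsupp.finsetSum_apply, smul_mul_smul_comm, map_smul, Finsupp.smul_apply,
      smul_eq_mul, hB, ← map_mul, repr_const B hB]
    exact sum_mem fun i _ => sum_mem fun m _ => mul_mem (mul_mem (ha i) (hb m)) (hR _)

end Coords

section Places

variable {k K K' : Type*} [Field k] [Field K] [Field K'] [Algebra k K] [Algebra K K'] [Algebra k K']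
  [IsScalarTower k K K'] [FiniteDimensional K K']

theorem map_O_le {P : FunFld.Place k K} {Q : FunFld.Place k K'} (h : FunFld.IsOver Q P) :
    P.O.toSubring.map (algebraMap K K') ≤ Q.O.toSubring := by
  rintro _ ⟨c, hc, rfl⟩
  exact (le_one_iff_of_isOver h c).2 hc

theorem integral_map_O_iff (hK : IsFF k K) (P : FunFld.Place k K) {z : K'} :
    IsIntegral (P.O.toSubring.map (algebraMap K K')) z ↔
      ∀ Q : FunFld.Place k K', FunFld.IsOver Q P → Q.1 z ≤ 1 := by
  constructor
  · intro hz Q hQ
    obtain ⟨p, hm, hp⟩ := isIntegral_subring_mono (map_O_le hQ) hz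
    have hint : IsIntegral Q.O z := ⟨p, hm, hp⟩
    obtain ⟨w, hw⟩ := IsIntegrallyClosed.algebraMap_eq_of_integral hint
    exact hw ▸ w.2
  · intro h
    letI : Algebra P.O K' := ((algebraMap K K').comp P.O.subtype).toAlgebra
    haveI : IsScalarTower P.O K K' := IsScalarTower.of_algebraMap_eq fun _ => rfl
    obtain ⟨p, hm, hp⟩ := isIntegral_of_forall_over hK P h
    let ψ : P.O →+* (P.O.toSubring.map (algebraMap K K')) :=
      ((algebraMap K K').comp P.O.subtype).codRestrict _ fun c => ⟨c, c.2, rfl⟩
    exact ⟨p.map ψ, hm.map _, by rw [eval₂_map]; exact hp⟩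

/-- An element integral over `O_Q` becomes integral over `O_P` after multiplying by a unit at `Q`. -/
theorem exists_clear (hK : IsFF k K) {P : FunFld.Place k K} {Q : FunFld.Place k K'}
    (hQP : FunFld.IsOver Q P) {L : Type*} [Field L] [Algebra K' L] {z : L}
    (hz : IsIntegral (Q.O.toSubring.map (algebraMap K' L)) z) :
    ∃ s : K', Q.1 s = 1 ∧
      IsIntegral (P.O.toSubring.map ((algebraMap K' L).comp (algebraMap K K'))) (algebraMap K' L s * z) := by
  classical
  obtain ⟨p, hm, hp⟩ := hz
  choose c hc hcp using fun n => (p.coeff n).2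
  set S := (finite_isOver' hK P (K' := K')).toFinset
  have hS : ∀ R, R ∈ S ↔ FunFld.IsOver R P := fun R => Set.Finite.mem_toFinset _
  obtain ⟨N, hN⟩ : ∃ N : ℕ, ∀ R ∈ S, ∀ n ∈ Finset.range p.natDegree, R.1 (c n) ≤ exp (N : ℤ) := by
    refine ⟨S.sup fun R => (Finset.range p.natDegree).sup fun n => (log (R.1 (c n))).toNat,
      fun R hR n hn => ?_⟩
    have h2 := le_trans (Finset.le_sup (f := fun n => (log (R.1 (c n))).toNat) hn)
      (Finset.le_sup (f := fun R => (Finset.range p.natDegree).sup fun n => (log (R.1 (c n))).toNat) hR)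
    rcases eq_or_ne (R.1 (c n)) 0 with h0 | h0
    · rw [h0]; exact zero_le
    · rw [← exp_log h0, exp_le_exp]; omega
  obtain ⟨s, hs⟩ := approximation S (fun R => if R = Q then 1 else 0)
    (fun R => if R = Q then -1 else -(N : ℤ))
  have hsQ : Q.1 s = 1 := by
    have h1 := hs Q ((hS Q).2 hQP)
    rw [if_pos rfl, if_pos rfl] at h1
    have h2 : Q.1 (s - 1) < Q.1 (1 : K') := h1.trans_lt (by rw [map_one, ← exp_zero, exp_lt_exp]; omega)
    rw [Valuation.map_eq_of_sub_lt _ h2, map_one]
  refine ⟨s, hsQ, ?_⟩
  set T := P.O.toSubring.map ((algebraMap K' L).comp (algebraMap K K'))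
  let T' : Subalgebra T L := integralClosure T L
  have hmem : ∀ a : K', (∀ R : FunFld.Place k K', FunFld.IsOver R P → R.1 a ≤ 1) →
      algebraMap K' L a ∈ T' := by
    intro a ha
    obtain ⟨q, hqm, hq⟩ := (integral_map_O_iff hK P).2 ha
    let ι : P.O.toSubring.map (algebraMap K K') →+* T :=
      ((algebraMap K' L).comp (Subring.subtype _)).codRestrict T fun b => by
        obtain ⟨_, d, hd, rfl⟩ := b
        exact ⟨d, hd, rfl⟩
    refine ⟨q.map ι, hqm.map _, ?_⟩
    rw [eval₂_map, show (algebraMap T L).comp ι =
      (algebraMap K' L).comp (algebraMap (P.O.toSubring.map (algebraMap K K')) K') from rfl,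
      ← hom_eval₂, hq, map_zero]
  have hsmall : ∀ R ∈ S, R ≠ Q → R.1 s ≤ exp (-(N : ℤ)) := fun R hR hne => by
    have h1 := hs R hR
    rwa [if_neg hne, if_neg hne, sub_zero] at h1
  have hle : ∀ R ∈ S, R.1 s ≤ 1 := fun R hR => by
    rcases eq_or_ne R Q with rfl | hne
    · exact hsQ.le
    · exact (hsmall R hR hne).trans (by rw [← exp_zero, exp_le_exp]; omega)
  let q₀ := (p.map (algebraMap (Q.O.toSubring.map (algebraMap K' L)) L)).scaleRoots (algebraMap K' L s)
  have hq₀m : q₀.Monic := (Polynomial.monic_scaleRoots_iff _).2 (hm.map _)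
  have hdeg : (p.map (algebraMap (Q.O.toSubring.map (algebraMap K' L)) L)).natDegree = p.natDegree :=
    hm.natDegree_map _
  have hcoef : ∀ n, q₀.coeff n ∈ T'.toSubring := by
    intro n
    rw [coeff_scaleRoots, coeff_map, hdeg]
    rcases lt_trichotomy n p.natDegree with hn | hn | hn
    · change ((p.coeff n : L)) * _ ∈ T'
      rw [← hcp n, ← map_pow, ← map_mul]
      refine hmem _ fun R hR => ?_
      have hR' := (hS R).2 hR
      rw [map_mul, map_pow]
      rcases eq_or_ne R Q with rfl | hne
      · rw [hsQ, one_pow, mul_one]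
        exact hc n
      · refine (mul_le_mul' (hN R hR' n (Finset.mem_range.2 hn))
          ((pow_le_of_le_one zero_le (hle R hR') (by omega)).trans (hsmall R hR' hne))).trans ?_
        rw [← exp_add]; simp
    · rw [hn, Nat.sub_self, pow_zero, mul_one, hm.coeff_natDegree, map_one]
      exact one_mem _
    · rw [coeff_eq_zero_of_natDegree_lt hn, map_zero, zero_mul]
      exact zero_mem _
  obtain ⟨q, hq, -, hqm⟩ := lifts_and_degree_eq_and_monic
    ((lifts_iff_coeff_lifts (f := algebraMap T' L) q₀).2 fun n => ⟨⟨_, hcoef n⟩, rfl⟩) hq₀m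
  refine isIntegral_trans (A := T') _ ⟨q, hqm, ?_⟩
  rw [← eval_map, hq]
  have : aeval (algebraMap K' L s * z) q₀ = 0 := by
    refine scaleRoots_aeval_eq_zero ?_
    rw [aeval_map_algebraMap]
    exact hp
  rwa [← coe_aeval_eq_eval]

end Places

end Groth.Agent.H23Geom
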