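import Mathlib
import Groth.Agent.H23Geom.AlgClosure
import Groth.Agent.H23Geom.Tower
import Groth.Agent.S10997

/-!
Integral closures over an algebraic closure descend to a purely inseparable extension.
-/

set_option autoImplicit false
set_option linter.unusedSectionVars false
set_option linter.style.haveILetI false
set_option maxHeartbeats 1000000
set_option synthInstance.maxHeartbeats 100000

namespace Groth.Agent.H23Geom

open Polynomial IntermediateField
open scoped TensorProduct

section Closure

variable (k Ω : Type*) {K M : Type*} [Field k] [Field Ω] [Field K] [Field M] [Algebra k K]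
  [Algebra k Ω] [Algebra K M] [Algebra Ω M] [Algebra k M] [IsScalarTower k K M] [IsScalarTower k Ω M]

/-- The elements of `I·K` integral over `k[x]`. -/
def intSet (I : IntermediateField k Ω) (M : Type*) [Field M] [Algebra K M] [Algebra Ω M]
    (x : K) : Set M :=
  {r | r ∈ adjoin K (Set.range fun c : I => algebraMap Ω M c) ∧
    IsIntegral (Algebra.adjoin k ({x} : Set K)) r}

variable {k Ω}
variable (h : Function.Bijective (Algebra.TensorProduct.productMap
      (IsScalarTower.toAlgHom k Ω M) (IsScalarTower.toAlgHom k K M)))

theorem isIntegral_const [Algebra.IsAlgebraic k Ω] (x : K) (c : Ω) :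
    IsIntegral (Algebra.adjoin k ({x} : Set K)) (algebraMap Ω M c) := by
  haveI : IsScalarTower k (Algebra.adjoin k ({x} : Set K)) M := IsScalarTower.of_algebraMap_eq fun a => by
    rw [IsScalarTower.algebraMap_apply k K M, IsScalarTower.algebraMap_apply (Algebra.adjoin k ({x} : Set K)) K M]
    rfl
  exact ((Algebra.IsIntegral.isIntegral (R := k) c).map (IsScalarTower.toAlgHom k Ω M)).tower_top

theorem self_mem_intSet (I : IntermediateField k Ω) (x : K) :
    algebraMap K M x ∈ intSet k Ω I M x :=
  ⟨IntermediateField.algebraMap_mem _ x,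
    isIntegral_algebraMap (R := Algebra.adjoin k ({x} : Set K)) (A := M)
      (x := ⟨x, Algebra.self_mem_adjoin_singleton k x⟩)⟩

/-- Integral closures do not change in a separable constant extension. -/
theorem mem_closure_of_separable [Algebra.IsAlgebraic k Ω] [Algebra.IsAlgebraic K M] {x : K}
    [Algebra.IsAlgebraic (Algebra.adjoin k ({x} : Set K)) K]
    (I : IntermediateField k Ω) (S : Finset Ω) (hsep : ∀ c ∈ S, IsSeparable I c) {z : M}
    (hz : IsIntegral (Algebra.adjoin k ({x} : Set K)) z)
    (hzS : z ∈ Algebra.adjoin K (Set.range fun c : adjoin I (S : Set Ω) => algebraMap Ω M c)) :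
    z ∈ Subring.closure (Set.range (algebraMap Ω M) ∪ intSet k Ω I M x) := by
  classical
  set N := adjoin I (S : Set Ω)
  haveI : FiniteDimensional I N := finiteDimensional_adjoin fun c hc => (hsep c hc).isIntegral
  haveI : Algebra.IsSeparable I N := (isSeparable_adjoin_iff_isSeparable I Ω).2 hsep
  obtain ⟨θ, hθ⟩ := Field.exists_primitive_element I N
  have hθsep : IsSeparable I θ := Algebra.IsSeparable.isSeparable I θ
  set MI := adjoin K (Set.range fun c : I => algebraMap Ω M c) with hMI
  set θM : M := algebraMap Ω M (θ : Ω)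
  haveI : Algebra.IsAlgebraic (Algebra.adjoin k ({x} : Set K)) MI :=
    Algebra.IsAlgebraic.trans (Algebra.adjoin k ({x} : Set K)) K MI
  have hinjA : Function.Injective (algebraMap (Algebra.adjoin k ({x} : Set K)) MI) := by
    intro a b hab
    rw [IsScalarTower.algebraMap_apply _ K MI, IsScalarTower.algebraMap_apply _ K MI] at hab
    exact Subtype.ext ((algebraMap K MI).injective hab)
  set C := integralClosure (Algebra.adjoin k ({x} : Set K)) MI
  haveI : IsFractionRing C MI := integralClosure.isFractionRing_of_algebraic
    (fun r hr => hinjA (hr.trans (map_zero _).symm))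
  haveI : IsIntegrallyClosedIn C MI := inferInstance
  haveI : IsIntegrallyClosed C := (isIntegrallyClosed_iff_isIntegrallyClosedIn MI).2 inferInstance
  have hI : ∀ c : I, algebraMap Ω M c ∈ MI := fun c => subset_adjoin K _ ⟨c, rfl⟩
  have hIint : ∀ c : I, IsIntegral (Algebra.adjoin k ({x} : Set K)) (⟨_, hI c⟩ : MI) := fun c =>
    (isIntegral_algHom_iff (IsScalarTower.toAlgHom (Algebra.adjoin k ({x} : Set K)) MI M)
      Subtype.val_injective).1 (isIntegral_const x (c : Ω))
  let κ : I →+* C := ((((algebraMap Ω M).comp (algebraMap I Ω)).codRestrict MI.toSubalgebra.toSubring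
    hI : I →+* MI)).codRestrict C.toSubring hIint
  set L := adjoin MI ({θM} : Set M)
  haveI : Module.IsTorsionFree C L := Module.isTorsionFree_iff_algebraMap_injective.2 fun a b hab =>
    Subtype.val_injective ((algebraMap MI L).injective hab)
  haveI : IsScalarTower (Algebra.adjoin k ({x} : Set K)) C L := IsScalarTower.of_algebraMap_eq fun _ => rfl
  set f := (minpoly I θ).map κ
  set y : L := ⟨θM, mem_adjoin_simple_self MI θM⟩
  have hevalM : ∀ q : I[X], ((aeval y (q.map κ) : L) : M) = algebraMap Ω M ((aeval θ q : N) : Ω) := by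
    intro q
    rw [aeval_def, eval₂_map, show ((eval₂ ((algebraMap C L).comp κ) y q : L) : M) =
      eval₂ ((algebraMap L M).comp ((algebraMap C L).comp κ)) θM q from hom_eval₂ _ _ (algebraMap L M) _]
    rw [show ((aeval θ q : N) : Ω) = aeval (θ : Ω) q from (aeval_algHom_apply N.val θ q).symm,
      aeval_def, hom_eval₂]
    rfl
  have hfy : aeval y f = 0 := by
    apply Subtype.ext
    rw [hevalM, minpoly.aeval]
    simp
  have hy : IsIntegral C y := ⟨f, (minpoly.monic hθsep.isIntegral).map κ, by rw [← aeval_def]; exact hfy⟩
  haveI : FiniteDimensional MI L := adjoin.finiteDimensional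
    (isAlgebraic_iff_isIntegral.1 ((Algebra.IsAlgebraic.isAlgebraic (R := K) θM).tower_top MI))
  have hder : ((aeval y (derivative f) : L) : M) =
      algebraMap Ω M ((aeval θ (derivative (minpoly I θ)) : N) : Ω) := by
    rw [derivative_map, hevalM]
  have hder0 : aeval θ (derivative (minpoly I θ)) ≠ 0 := hθsep.aeval_derivative_ne_zero (minpoly.aeval I θ)
  haveI : Algebra.IsSeparable MI L := by
    refine (isSeparable_adjoin_simple_iff_isSeparable MI M).2 ?_
    have hq : ((minpoly I θ).map ((algebraMap C MI).comp κ)).Separable := Separable.map hθsep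
    refine hq.of_dvd (minpoly.dvd MI θM ?_)
    have h1 := congrArg (algebraMap L M) hfy
    rw [map_zero] at h1
    refine Eq.trans ?_ h1
    rw [aeval_def, eval₂_map, aeval_def (R := C), eval₂_map, hom_eval₂]
    rfl
  have hgen : Algebra.adjoin MI ({y} : Set L) = ⊤ := by
    have hint : IsAlgebraic MI θM := (Algebra.IsAlgebraic.isAlgebraic (R := K) θM).tower_top MI
    rw [eq_top_iff]
    rintro ⟨w, hw⟩ -
    have hw' : w ∈ L.toSubalgebra := hw
    rw [adjoin_simple_toSubalgebra_of_isAlgebraic hint, Algebra.adjoin_singleton_eq_range_aeval] at hw'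
    obtain ⟨q, hq⟩ := hw'
    rw [Algebra.adjoin_singleton_eq_range_aeval]
    exact ⟨q, Subtype.ext ((aeval_algHom_apply L.val y q).symm.trans hq)⟩
  have hzL : z ∈ L := by
    have hN : ∀ c : N, algebraMap Ω M c ∈ L := by
      intro c
      have hc : c ∈ adjoin I ({θ} : Set N) := hθ ▸ IntermediateField.mem_top
      induction hc using IntermediateField.adjoin_induction with
      | mem w hw => rw [Set.mem_singleton_iff] at hw; subst hw; exact mem_adjoin_simple_self MI θM
      | algebraMap a => exact L.algebraMap_mem ⟨_, hI a⟩
      | add a b _ _ ha hb => rw [IntermediateField.coe_add, map_add]; exact add_mem ha hb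
      | inv a _ ha => rw [IntermediateField.coe_inv, map_inv₀]; exact inv_mem ha
      | mul a b _ _ ha hb => rw [IntermediateField.coe_mul, map_mul]; exact mul_mem ha hb
    suffices ∀ w ∈ Algebra.adjoin K (Set.range fun c : N => algebraMap Ω M c), w ∈ L from this z hzS
    intro w hwS
    induction hwS using Algebra.adjoin_induction with
    | mem w hw => obtain ⟨c, rfl⟩ := hw; exact hN c
    | algebraMap a => exact L.algebraMap_mem (algebraMap K MI a)
    | add a b _ _ ha hb => exact add_mem ha hb
    | mul a b _ _ ha hb => exact mul_mem ha hb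
  haveI : IsScalarTower (Algebra.adjoin k ({x} : Set K)) L M :=
    IsScalarTower.of_algebraMap_eq fun a => IsScalarTower.algebraMap_apply (Algebra.adjoin k ({x} : Set K)) K M a
  haveI : IsScalarTower (Algebra.adjoin k ({x} : Set K)) C L := IsScalarTower.of_algebraMap_eq fun a => rfl
  have hw : IsIntegral C (⟨z, hzL⟩ : L) :=
    ((isIntegral_algHom_iff (IsScalarTower.toAlgHom (Algebra.adjoin k ({x} : Set K)) L M)
      Subtype.val_injective).1 (show IsIntegral _ ((IsScalarTower.toAlgHom (Algebra.adjoin k ({x} : Set K)) L M)
        (⟨z, hzL⟩ : L)) from hz)).tower_top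
  have hmain := derivative_mul_mem (E := MI) hy hgen hfy hw
  set G := Subring.closure (Set.range (algebraMap Ω M) ∪ intSet k Ω I M x)
  have hC : ∀ a : C, ((a : MI) : M) ∈ G := fun a => Subring.subset_closure (Or.inr ⟨(a : MI).2,
    a.2.map (IsScalarTower.toAlgHom (Algebra.adjoin k ({x} : Set K)) MI M)⟩)
  have hΩ : ∀ c : Ω, algebraMap Ω M c ∈ G := fun c => Subring.subset_closure (Or.inl ⟨c, rfl⟩)
  have hsub : ∀ a ∈ Algebra.adjoin C ({y} : Set L), (a : M) ∈ G := by
    intro a ha
    induction ha using Algebra.adjoin_induction with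
    | mem w hw => rw [Set.mem_singleton_iff] at hw; subst hw; exact hΩ _
    | algebraMap c => exact hC c
    | add a b _ _ ha hb => exact add_mem ha hb
    | mul a b _ _ ha hb => exact mul_mem ha hb
  have := mul_mem (hΩ ((aeval θ (derivative (minpoly I θ)) : N) : Ω)⁻¹) (hsub _ hmain)
  rwa [IntermediateField.coe_mul, hder, ← mul_assoc, ← map_mul, inv_mul_cancel₀, map_one, one_mul]
    at this
  exact fun h0 => hder0 (Subtype.ext h0)

end Closure

section Descent

open scoped IntermediateField.algebraAdjoinAdjoin

variable {k Ω K M : Type*} [Field k] [Field Ω] [IsAlgClosed Ω] [Field K] [Field M] [Algebra k Ω]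
  [Algebra.IsAlgebraic k Ω] [Algebra k K] [Algebra K M] [Algebra Ω M] [Algebra k M]
  [IsScalarTower k K M] [IsScalarTower k Ω M]
  (h : Function.Bijective (Algebra.TensorProduct.productMap
      (IsScalarTower.toAlgHom k Ω M) (IsScalarTower.toAlgHom k K M)))

include h in
/-- The integral closure of `k[x]` in the constant extension is finite over `Ω[x]`. -/
theorem exists_generators (hK : FunFld.IsFunctionField k K) {x : K} (hx : Transcendental k x)
    [Algebra.IsSeparable (adjoin k ({x} : Set K)) K] :
    ∃ G : Finset M, (∀ g ∈ G, IsIntegral (Algebra.adjoin k ({x} : Set K)) g) ∧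
      ∀ z : M, IsIntegral (Algebra.adjoin k ({x} : Set K)) z →
        z ∈ Subring.closure (Set.range (algebraMap Ω M) ∪ ({algebraMap K M x} ∪ (G : Set M))) := by
  classical
  set x' := algebraMap K M x with hx'def
  have hxΩ : Transcendental Ω x' := transcendental_const h hx
  set E' := adjoin Ω ({x'} : Set M) with hE'
  set A' := Algebra.adjoin Ω ({x'} : Set M) with hA'
  haveI : FaithfulSMul A' E' := (faithfulSMul_iff_algebraMap_injective _ _).2 fun a b h =>
    Subtype.ext (congrArg (fun e : E' => (e : M)) h)
  haveI : IsFractionRing A' E' := IsFractionRing.of_field _ _ fun ⟨_, h⟩ ↦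
    have ⟨a, ha, c, hc, eq⟩ := mem_adjoin_iff_div.mp h
    ⟨⟨a, ha⟩, ⟨c, hc⟩, Subtype.ext eq⟩
  haveI : IsIntegrallyClosed A' := isIntegrallyClosed_adjoin hxΩ
  haveI : IsNoetherianRing A' := isNoetherianRing_of_ringEquiv (Polynomial Ω)
    ((AlgEquiv.ofInjective (Polynomial.aeval (R := Ω) x') (transcendental_iff_injective.1 hxΩ)).trans
      (Subalgebra.equivOfEq _ _ (Algebra.adjoin_singleton_eq_range_aeval Ω x').symm)).toRingEquiv
  haveI : FiniteDimensional E' M := (finrank_const h hK hx).1
  haveI : Algebra.IsSeparable E' M := by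
    rw [← separableClosure.eq_top_iff, eq_top_iff]
    rintro z -
    obtain ⟨t, rfl⟩ := h.2 z
    induction t using TensorProduct.induction_on with
    | zero => simp
    | tmul c a =>
      rw [Algebra.TensorProduct.productMap_apply_tmul]
      refine mul_mem ((separableClosure E' M).algebraMap_mem (algebraMap Ω E' c)) ?_
      rw [mem_separableClosure_iff]
      let e : adjoin k ({x} : Set K) →+* E' :=
        ((algebraMap K M).comp (algebraMap (adjoin k ({x} : Set K)) K)).codRestrict
          E'.toSubalgebra.toSubring (fun a => by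
            have h1 : algebraMap K M (a : K) ∈
                (adjoin k ({x} : Set K)).map (IsScalarTower.toAlgHom k K M) := ⟨a, a.2, rfl⟩
            rw [adjoin_map, Set.image_singleton] at h1
            have h2 : adjoin k ({x'} : Set M) ≤ E'.restrictScalars k := by
              rw [adjoin_le_iff, Set.singleton_subset_iff]
              exact mem_adjoin_simple_self Ω _
            exact h2 h1)
      have hsep := Algebra.IsSeparable.isSeparable (adjoin k ({x} : Set K)) a
      refine (Separable.map hsep (f := e)).of_dvd (minpoly.dvd E' _ ?_)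
      rw [aeval_def, eval₂_map, show (algebraMap E' M).comp e =
        (algebraMap K M).comp (algebraMap (adjoin k ({x} : Set K)) K) from rfl]
      exact ((hom_eval₂ _ _ (algebraMap K M) a).symm.trans
        (by rw [← aeval_def, minpoly.aeval, map_zero]))
    | add a b ha hb => rw [map_add]; exact add_mem ha hb
  haveI : Module.Finite A' (integralClosure A' M) :=
    IsIntegralClosure.finite A' E' M (integralClosure A' M)
  obtain ⟨G₀, hG₀⟩ := Module.finite_def.1 (inferInstance : Module.Finite A' (integralClosure A' M))
  have hback : ∀ w : M, IsIntegral A' w → IsIntegral (Algebra.adjoin k ({x} : Set K)) w := by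
    intro w hw
    set T := integralClosure (Algebra.adjoin k ({x} : Set K)) M
    have hle : ∀ a ∈ A', a ∈ T := by
      intro a ha
      induction ha using Algebra.adjoin_induction with
      | mem v hv =>
        rw [Set.mem_singleton_iff] at hv; subst hv
        exact (self_mem_intSet (Ω := Ω) (⊥ : IntermediateField k Ω) x).2
      | algebraMap c => exact isIntegral_const x c
      | add a b _ _ ha hb => exact add_mem ha hb
      | mul a b _ _ ha hb => exact mul_mem ha hb
    exact isIntegral_trans (A := T) _ (isIntegral_subring_mono (S := A'.toSubring) (S' := T.toSubring)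
      hle hw)
  refine ⟨G₀.image Subtype.val, fun g hg => ?_, fun z hz => ?_⟩
  · obtain ⟨g', -, rfl⟩ := Finset.mem_image.1 hg
    exact hback _ g'.2
  · set G := Subring.closure (Set.range (algebraMap Ω M) ∪
      ({algebraMap K M x} ∪ (G₀.image Subtype.val : Finset M)))
    have hA : ∀ a ∈ A', a ∈ G := by
      intro a ha
      induction ha using Algebra.adjoin_induction with
      | mem v hv =>
        rw [Set.mem_singleton_iff] at hv; subst hv
        exact Subring.subset_closure (Or.inr (Or.inl rfl))
      | algebraMap c => exact Subring.subset_closure (Or.inl ⟨c, rfl⟩)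
      | add a b _ _ ha hb => exact add_mem ha hb
      | mul a b _ _ ha hb => exact mul_mem ha hb
    have hzA : IsIntegral A' z := by
      obtain ⟨p, hm, hp⟩ := hz
      let ι : Algebra.adjoin k ({x} : Set K) →+* A' :=
        ((algebraMap K M).comp (algebraMap (Algebra.adjoin k ({x} : Set K)) K)).codRestrict A' (by
          rintro ⟨a, ha⟩
          induction ha using Algebra.adjoin_induction with
          | mem v hv =>
            rw [Set.mem_singleton_iff] at hv; subst hv
            exact Algebra.self_mem_adjoin_singleton Ω x'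
          | algebraMap c =>
            change algebraMap K M (algebraMap k K c) ∈ A'
            rw [← IsScalarTower.algebraMap_apply k K M, IsScalarTower.algebraMap_apply k Ω M]
            exact A'.algebraMap_mem _
          | add a b _ _ ha hb => simpa using add_mem ha hb
          | mul a b _ _ ha hb => simpa using mul_mem ha hb)
      exact ⟨p.map ι, hm.map _, by rw [eval₂_map]; exact hp⟩
    have hmem : (⟨z, hzA⟩ : integralClosure A' M) ∈ Submodule.span A' (G₀ : Set (integralClosure A' M)) := by
      rw [hG₀]; trivial
    suffices ∀ w ∈ Submodule.span A' (G₀ : Set (integralClosure A' M)), (w : M) ∈ G from this _ hmem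
    intro w hw
    induction hw using Submodule.span_induction with
    | mem v hv =>
      exact Subring.subset_closure (Or.inr (Or.inr (Finset.mem_coe.2 (Finset.mem_image_of_mem _ hv))))
    | zero => exact zero_mem _
    | add a b _ _ ha hb => exact add_mem ha hb
    | smul a w _ hw => exact mul_mem (hA _ a.2) hw

/-- Finitely many elements of `Ω` are separable over a finite purely inseparable extension. -/
theorem exists_purelyInseparable (S : Finset Ω) :
    ∃ I : IntermediateField k Ω, FiniteDimensional k I ∧ IsPurelyInseparable k I ∧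
      ∀ c ∈ S, IsSeparable I c := by
  classical
  set P := perfectClosure k Ω
  haveI : PerfectField Ω := inferInstance
  haveI : Algebra.IsAlgebraic P Ω := Algebra.IsAlgebraic.tower_top (K := k) P
  haveI : Algebra.IsSeparable P Ω := Algebra.IsAlgebraic.isSeparable_of_perfectField
  let coeffs : Finset Ω := S.biUnion fun c =>
    (Finset.range ((minpoly P c).natDegree + 1)).image fun n => (((minpoly P c).coeff n : P) : Ω)
  let I := adjoin k (coeffs : Set Ω)
  have hIP : I ≤ P := by
    rw [adjoin_le_iff]
    intro w hw
    simp only [coeffs, Finset.coe_biUnion, Set.mem_iUnion, Finset.coe_image] at hw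
    obtain ⟨c, -, n, -, rfl⟩ := hw
    exact SetLike.coe_mem _
  refine ⟨I, finiteDimensional_adjoin fun c _ => Algebra.IsIntegral.isIntegral c,
    (le_perfectClosure_iff k Ω I).1 hIP, fun c hc => ?_⟩
  let ι : I →+* P := (IntermediateField.inclusion hIP).toRingHom
  have hl : minpoly P c ∈ lifts ι := by
    rw [lifts_iff_coeff_lifts]
    intro n
    by_cases hn : n ≤ (minpoly P c).natDegree
    · refine ⟨⟨(((minpoly P c).coeff n : P) : Ω), subset_adjoin k _ ?_⟩, Subtype.ext rfl⟩
      simp only [coeffs, Finset.coe_biUnion, Set.mem_iUnion, Finset.coe_image]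
      exact ⟨c, hc, n, Finset.mem_coe.2 (Finset.mem_range.2 (by omega)), rfl⟩
    · rw [coeff_eq_zero_of_natDegree_lt (not_le.1 hn)]
      exact ⟨0, map_zero _⟩
  obtain ⟨q, hq, -, -⟩ := lifts_and_degree_eq_and_monic hl (minpoly.monic (Algebra.IsIntegral.isIntegral c))
  have hqsep : q.Separable := by
    rw [← separable_map ι, hq]
    exact Algebra.IsSeparable.isSeparable P c
  refine hqsep.of_dvd (minpoly.dvd I c ?_)
  have := minpoly.aeval P c
  rw [← hq, aeval_def, eval₂_map] at this
  exact this

include h in
/-- A purely inseparable extension over which the integral closures of `k[t]` are defined. -/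
theorem exists_descent (hK : FunFld.IsFunctionField k K) (ts : Finset K)
    (hts : ∀ t ∈ ts, Transcendental k t ∧ Algebra.IsSeparable (adjoin k ({t} : Set K)) K) :
    ∃ I : IntermediateField k Ω, FiniteDimensional k I ∧ IsPurelyInseparable k I ∧
      ∀ t ∈ ts, ∀ z : M, IsIntegral (Algebra.adjoin k ({t} : Set K)) z →
        z ∈ Subring.closure (Set.range (algebraMap Ω M) ∪ intSet k Ω I M t) := by
  classical
  have hgen : ∀ t : {t // t ∈ ts}, ∃ G : Finset M,
      (∀ g ∈ G, IsIntegral (Algebra.adjoin k ({t.1} : Set K)) g) ∧
      ∀ z : M, IsIntegral (Algebra.adjoin k ({t.1} : Set K)) z →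
        z ∈ Subring.closure (Set.range (algebraMap Ω M) ∪ ({algebraMap K M t.1} ∪ (G : Set M))) := by
    rintro ⟨t, ht⟩
    obtain ⟨h1, h2⟩ := hts t ht
    exact exists_generators h hK h1
  choose G hG hG' using hgen
  obtain ⟨F, hF, hFmem⟩ := exists_finite_const h (ts.attach.biUnion G)
  haveI := hF
  let T : Finset Ω := Finset.univ.image fun i => ((Module.finBasis k F i : F) : Ω)
  obtain ⟨I, hIfin, hIpi, hIsep⟩ := exists_purelyInseparable (k := k) T
  refine ⟨I, hIfin, hIpi, fun t ht z hz => ?_⟩
  haveI : Algebra.IsAlgebraic K M := isAlgebraic_const h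
  haveI : Algebra.IsAlgebraic (Algebra.adjoin k ({t} : Set K)) K := by
    haveI := Groth.Agent.H23FunFld.finiteDimensional_adjoin hK (hts t ht).1
    exact (IsFractionRing.comap_isAlgebraic_iff (A := Algebra.adjoin k ({t} : Set K))
      (K := adjoin k ({t} : Set K))).2 (Algebra.IsAlgebraic.of_finite _ K)
  refine (Subring.closure_le.2 ?_) (hG' ⟨t, ht⟩ z hz)
  rintro w (hw | rfl | hw)
  · exact Subring.subset_closure (Or.inl hw)
  · exact Subring.subset_closure (Or.inr (self_mem_intSet I t))
  · refine mem_closure_of_separable I T hIsep (hG ⟨t, ht⟩ w hw) ?_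
    refine Algebra.adjoin_mono ?_ (hFmem w (Finset.mem_biUnion.2 ⟨⟨t, ht⟩, Finset.mem_attach _ _, hw⟩))
    rintro _ ⟨⟨c, hc⟩, rfl⟩
    refine ⟨⟨c, ?_⟩, rfl⟩
    have hle : F ≤ (adjoin I (T : Set Ω)).restrictScalars k := by
      intro v hv
      have hv' := congrArg Subtype.val ((Module.finBasis k F).sum_repr ⟨v, hv⟩)
      rw [AddSubmonoidClass.coe_finsetSum] at hv'
      change _ = v at hv'
      rw [← hv']
      refine sum_mem fun i _ => ?_
      rw [IntermediateField.coe_smul, Algebra.smul_def]
      exact mul_mem (IntermediateField.algebraMap_mem _ _) (subset_adjoin I _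
        (Finset.mem_coe.2 (Finset.mem_image_of_mem _ (Finset.mem_univ i))))
    exact hle hc

end Descent

end Groth.Agent.H23Geom
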