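import Mathlib
import Groth.Agent.H23Ext.Galois
import Groth.Agent.H23FunFld.Steps

/-!
Higher ramification groups of a place with separable residue field.
-/

set_option autoImplicit false
set_option linter.unusedSectionVars false
set_option linter.style.haveILetI false

namespace Groth.Agent.H23Geom

open WithZero Polynomial
open Groth.Agent.H23FunFld (val_ne_zero exists_val_eq place_eq_of_le pow_le_exp_of_lt_one ball mem_ball)

variable {k K K' : Type*} [Field k] [Field K] [Field K'] [Algebra k K] [Algebra K K'] [Algebra k K']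
  [IsScalarTower k K K']

theorem le_exp_neg_one {a : WithZero (Multiplicative ℤ)} (h : a < 1) : a ≤ exp (-1 : ℤ) := by
  simpa using pow_le_exp_of_lt_one h 1

theorem exp_neg_le_one (n : ℕ) : exp (-(n : ℤ)) ≤ (1 : WithZero (Multiplicative ℤ)) := by
  rw [← exp_zero, exp_le_exp]; omega

/-- `σ` moves integral elements by at most `exp (-j)`. -/
def InG (Q : FunFld.Place k K') (j : ℕ) (σ : K' ≃ₐ[K] K') : Prop :=
  ∀ x : K', Q.1 x ≤ 1 → Q.1 (σ x - x) ≤ exp (-(j : ℤ))

variable {Q : FunFld.Place k K'} {σ τ : K' ≃ₐ[K] K'}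

theorem InG.mono {i j : ℕ} (h : InG Q j σ) (hij : i ≤ j) : InG Q i σ :=
  fun x hx => (h x hx).trans (exp_le_exp.2 (by omega))

theorem InG.val_apply {j : ℕ} (h : InG Q j σ) (x : K') : Q.1 (σ x) = Q.1 x := by
  have heq : Q = Groth.Agent.H23Ext.conj σ Q := place_eq_of_le fun y hy => by
    rw [Groth.Agent.H23Ext.conj_apply]
    have := Q.1.map_add (σ y - y) y
    rw [sub_add_cancel] at this
    exact this.trans (max_le ((h y hy).trans (exp_neg_le_one j)) hy)
  conv_rhs => rw [heq]
  rfl

theorem inG_one (j : ℕ) : InG Q j (1 : K' ≃ₐ[K] K') := fun x _ => by simp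

theorem InG.mul {j : ℕ} (hσ : InG Q j σ) (hτ : InG Q j τ) : InG Q j (σ * τ) := fun x hx => by
  rw [AlgEquiv.mul_apply, show σ (τ x) - x = (σ (τ x) - τ x) + (τ x - x) by ring]
  exact (Q.1.map_add _ _).trans (max_le (hσ _ ((hτ.val_apply x).trans_le hx)) (hτ x hx))

theorem InG.inv {j : ℕ} (hσ : InG Q j σ) : InG Q j σ⁻¹ := fun x hx => by
  have e : σ (σ⁻¹ x) = x := σ.apply_symm_apply x
  have h1 := hσ.val_apply (σ⁻¹ x)
  rw [e] at h1
  have h2 := hσ _ (h1.symm.trans_le hx)
  rwa [e, Valuation.map_sub_swap] at h2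

variable (Q) (K) in
/-- The ramification group. -/
def gGroup (j : ℕ) : Subgroup (K' ≃ₐ[K] K') where
  carrier := {σ | InG Q j σ}
  one_mem' := inG_one j
  mul_mem' := InG.mul
  inv_mem' := InG.inv

/-- A residue class has approximate roots of its minimal polynomial. -/
theorem exists_root_mod (r : IsLocalRing.ResidueField Q.O) (hr : IsSeparable k r) (j : ℕ) :
    ∃ z : Q.O, IsLocalRing.residue Q.O z = r ∧ Q.1 (aeval (z : K') (minpoly k r)) ≤ exp (-(j : ℤ)) ∧
      Q.1 (aeval (z : K') (derivative (minpoly k r))) = 1 := by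
  set g := minpoly k r
  let π : Q.O →ₐ[k] IsLocalRing.ResidueField Q.O :=
    { toRingHom := IsLocalRing.residue Q.O, commutes' := fun _ => rfl }
  let ι : Q.O →ₐ[k] K' := { toRingHom := Q.O.subtype, commutes' := fun _ => rfl }
  have hunit : ∀ z : Q.O, IsLocalRing.residue Q.O z ≠ 0 → Q.1 (z : K') = 1 := fun z hz =>
    (Valuation.Integers.isUnit_iff_valuation_eq_one (Valuation.integer.integers Q.1)).1
      (not_not.1 fun h => hz ((IsLocalRing.residue_eq_zero_iff z).2 h))
  have hcoe : ∀ (z : Q.O) (q : k[X]), ((aeval z q : Q.O) : K') = aeval (z : K') q := fun z q =>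
    (aeval_algHom_apply ι z q).symm
  have hder : ∀ z : Q.O, IsLocalRing.residue Q.O z = r → Q.1 (aeval (z : K') (derivative g)) = 1 := by
    intro z hz
    rw [← hcoe]
    refine hunit _ ?_
    change π (aeval z (derivative g)) ≠ 0
    rw [← aeval_algHom_apply, show π z = r from hz]
    exact Polynomial.Separable.aeval_derivative_ne_zero hr (minpoly.aeval k r)
  induction j with
  | zero =>
    obtain ⟨z, hz⟩ := IsLocalRing.residue_surjective r
    refine ⟨z, hz, ?_, hder z hz⟩
    rw [Nat.cast_zero, neg_zero, exp_zero, ← hcoe]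
    exact (aeval z g).2
  | succ j ih =>
    rcases Nat.eq_zero_or_pos j with rfl | hj
    · obtain ⟨z, hz⟩ := IsLocalRing.residue_surjective r
      refine ⟨z, hz, ?_, hder z hz⟩
      rw [Nat.cast_add, Nat.cast_zero, Nat.cast_one, zero_add, ← hcoe]
      have h0 : IsLocalRing.residue Q.O (aeval z g) = 0 := by
        change π (aeval z g) = 0
        rw [← aeval_algHom_apply, show π z = r from hz, minpoly.aeval]
      rw [IsLocalRing.residue_eq_zero_iff, IsLocalRing.mem_maximalIdeal, mem_nonunits_iff] at h0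
      exact le_exp_neg_one (lt_of_le_of_ne (aeval z g).2 fun h1 =>
        h0 ((Valuation.Integers.isUnit_iff_valuation_eq_one (Valuation.integer.integers Q.1)).2 h1))
    obtain ⟨z, hz, hzj, hd⟩ := ih
    set d : Q.O := aeval z (derivative g)
    have hdu : IsUnit d := (Valuation.Integers.isUnit_iff_valuation_eq_one
      (Valuation.integer.integers Q.1)).2 ((congrArg Q.1 (hcoe z (derivative g))).trans hd)
    obtain ⟨u, hu⟩ := hdu
    set h : Q.O := -(↑u⁻¹ * aeval z g)
    have hh : Q.1 (h : K') ≤ exp (-(j : ℤ)) := by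
      change Q.1 (-(((↑u⁻¹ : Q.O) : K') * ((aeval z g : Q.O) : K'))) ≤ _
      rw [Valuation.map_neg, map_mul, hcoe]
      exact (mul_le_of_le_one_left zero_le (↑u⁻¹ : Q.O).2).trans hzj
    obtain ⟨c, hc⟩ := Polynomial.binomExpansion (g.map (algebraMap k Q.O)) z h
    rw [eval_map_algebraMap, eval_map_algebraMap, derivative_map, eval_map_algebraMap] at hc
    have hlin : aeval z g + d * h = 0 := by
      simp only [h, ← hu, mul_neg, ← mul_assoc, Units.mul_inv, one_mul, add_neg_cancel]
    rw [hlin, zero_add] at hc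
    have hzh : IsLocalRing.residue Q.O (z + h) = r := by
      rw [map_add, hz, add_eq_left, IsLocalRing.residue_eq_zero_iff, IsLocalRing.mem_maximalIdeal,
        mem_nonunits_iff]
      intro hhu
      have := (Valuation.Integers.isUnit_iff_valuation_eq_one (Valuation.integer.integers Q.1)).1 hhu
      exact absurd (this ▸ hh : (1 : WithZero (Multiplicative ℤ)) ≤ exp (-(j : ℤ)))
        (not_le.2 (by rw [← exp_zero, exp_lt_exp]; omega))
    refine ⟨z + h, hzh, ?_, hder _ hzh⟩
    rw [← hcoe, hc]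
    push_cast
    rw [map_mul, map_pow]
    refine (mul_le_of_le_one_left zero_le c.2).trans ((pow_le_pow_left₀ zero_le hh 2).trans ?_)
    rw [← exp_nsmul, exp_le_exp, nsmul_eq_mul]
    omega

variable {t : K'} (ht : Q.1 t = exp (-1)) [Algebra.IsSeparable k (IsLocalRing.ResidueField Q.O)]

include ht

/-- The criterion with a local parameter. -/
theorem inG_iff (hσ : InG Q 1 σ) (j : ℕ) : InG Q j σ ↔ Q.1 (σ t - t) ≤ exp (-(j : ℤ)) := by
  refine ⟨fun h => h t (by rw [ht, ← exp_zero, exp_le_exp]; omega), fun hjt => ?_⟩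
  suffices ∀ i ≤ j, InG Q i σ from this j le_rfl
  intro i
  induction i with
  | zero =>
    intro _ x hx
    rw [Nat.cast_zero, neg_zero, exp_zero]
    exact (Q.1.map_sub _ _).trans (max_le ((hσ.val_apply x).trans_le hx) hx)
  | succ i ih =>
    intro hij x hx
    have hi := ih (by omega)
    set r := IsLocalRing.residue Q.O ⟨x, hx⟩
    obtain ⟨z, hz, hzg, hzd⟩ := exists_root_mod r (Algebra.IsSeparable.isSeparable k r) j
    set g := minpoly k r
    -- `z` hardly moves
    have hσz : Q.1 (σ z - z) ≤ exp (-(j : ℤ)) := by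
      set h : Q.O := ⟨σ (z : K') - z, (hσ _ z.2).trans (exp_neg_le_one 1)⟩
      obtain ⟨c, hc⟩ := Polynomial.binomExpansion (g.map (algebraMap k Q.O)) z h
      rw [eval_map_algebraMap, eval_map_algebraMap, derivative_map, eval_map_algebraMap] at hc
      let ι : Q.O →ₐ[k] K' := { toRingHom := Q.O.subtype, commutes' := fun _ => rfl }
      have hc' := congrArg ι hc
      rw [map_add, map_add, map_mul, map_mul, map_pow, ← aeval_algHom_apply, ← aeval_algHom_apply,
        ← aeval_algHom_apply, map_add] at hc'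
      change aeval ((z : K') + (σ (z : K') - z)) g = aeval (z : K') g +
        aeval (z : K') (derivative g) * (σ (z : K') - z) + (c : K') * (σ (z : K') - z) ^ 2 at hc'
      rw [add_sub_cancel] at hc'
      have hσg : aeval (σ (z : K')) g = σ (aeval (z : K') g) :=
        aeval_algHom_apply ((σ : K' →ₐ[K] K').restrictScalars k) (z : K') g
      set w := σ (z : K') - z
      have hfac : Q.1 (aeval (z : K') (derivative g) + (c : K') * w) = 1 := by
        rw [Q.1.map_add_eq_of_lt_left, hzd]
        rw [hzd, map_mul]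
        refine (mul_le_of_le_one_left zero_le c.2).trans_lt ((hσ _ z.2).trans_lt ?_)
        rw [← exp_zero, exp_lt_exp]; omega
      have h2 : (aeval (z : K') (derivative g) + (c : K') * w) * w = σ (aeval (z : K') g) - aeval (z : K') g := by
        rw [← hσg, hc']; ring
      have h3 := congrArg Q.1 h2
      rw [map_mul, hfac, one_mul] at h3
      exact h3.trans_le ((Q.1.map_sub _ _).trans (max_le ((hσ.val_apply _).trans_le hzg) hzg))
    have hxz : Q.1 (x - z) < 1 := by
      have h0 : IsLocalRing.residue Q.O (⟨x, hx⟩ - z) = 0 := by rw [map_sub, hz, sub_self]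
      rw [IsLocalRing.residue_eq_zero_iff, IsLocalRing.mem_maximalIdeal, mem_nonunits_iff] at h0
      have hmem : Q.1 (x - z) ≤ 1 := ((⟨x, hx⟩ : Q.O) - z).2
      exact lt_of_le_of_ne hmem fun h1 =>
        h0 ((Valuation.Integers.isUnit_iff_valuation_eq_one (Valuation.integer.integers Q.1)).2 h1)
    have ht0 : t ≠ 0 := fun h => exp_ne_zero (by rw [← ht, h, map_zero])
    set x₁ := (x - z) / t
    have hx₁ : Q.1 x₁ ≤ 1 := by
      rw [map_div₀, ht, div_le_one₀ (zero_lt_iff.2 exp_ne_zero)]
      exact le_exp_neg_one hxz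
    have e : x = z + t * x₁ := by
      rw [mul_div_cancel₀ _ ht0]; ring
    rw [e, map_add, map_mul, show σ (z : K') + σ t * σ x₁ - ((z : K') + t * x₁) =
      (σ (z : K') - z) + (σ t - t) * σ x₁ + t * (σ x₁ - x₁) by ring]
    refine (Q.1.map_add _ _).trans (max_le ((Q.1.map_add _ _).trans (max_le ?_ ?_)) ?_)
    · exact hσz.trans (exp_le_exp.2 (by omega))
    · rw [map_mul]
      exact ((mul_le_of_le_one_right zero_le ((hσ.val_apply x₁).trans_le hx₁)).trans hjt).trans
        (exp_le_exp.2 (by omega))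
    · rw [map_mul, ht]
      refine (mul_le_mul' le_rfl (hi x₁ hx₁)).trans ?_
      rw [← exp_add, exp_le_exp]
      omega

omit [Algebra.IsSeparable k (IsLocalRing.ResidueField Q.O)] in
/-- Elements of order at least two move by one more. -/
theorem InG.deep {i : ℕ} (hσ : InG Q i σ) {w : K'} (hw : Q.1 w ≤ exp (-2)) :
    Q.1 (σ w - w) ≤ exp (-((i : ℤ) + 1)) := by
  have ht0 : t ≠ 0 := fun h => exp_ne_zero (by rw [← ht, h, map_zero])
  set x₁ := w / t
  have hx₁ : Q.1 x₁ ≤ exp (-1) := by
    rw [map_div₀, ht, div_le_iff₀ (zero_lt_iff.2 exp_ne_zero), ← exp_add]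
    exact hw
  have hx₁' : Q.1 x₁ ≤ 1 := hx₁.trans (exp_neg_le_one 1)
  have e : w = t * x₁ := (mul_div_cancel₀ _ ht0).symm
  rw [e, map_mul, show σ t * σ x₁ - t * x₁ = (σ t - t) * σ x₁ + t * (σ x₁ - x₁) by ring]
  refine (Q.1.map_add _ _).trans (max_le ?_ ?_)
  · rw [map_mul, hσ.val_apply]
    refine (mul_le_mul' (hσ t (by rw [ht]; exact exp_neg_le_one 1)) hx₁).trans ?_
    rw [← exp_add, exp_le_exp]; omega
  · rw [map_mul, ht]
    refine (mul_le_mul' le_rfl (hσ x₁ hx₁')).trans ?_
    rw [← exp_add, exp_le_exp]; omega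

end Groth.Agent.H23Geom
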