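import Mathlib

/-! Invertible modules through rank one idempotent matrices; polynomial rings over GCD domains and
products. -/

set_option autoImplicit false
set_option linter.style.haveILetI false
universe u v

open TensorProduct

namespace Groth.Agent.H23Geom.RankOne

variable {q : ℕ}

/-- A factorisation of a matrix as a column times a row of product one. -/
def IsFac {E : Type u} [CommRing E] (P : Matrix (Fin q) (Fin q) E) (f g : Fin q → E) : Prop :=
  (∀ i j, P i j = f i * g j) ∧ ∑ i, g i * f i = 1


section Module

variable {B : Type u} [CommRing B] {M : Type u} [AddCommGroup M] [Module B M] [Module.Invertible B M]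
  (π : (Fin q → B) →ₗ[B] M) (σ : M →ₗ[B] (Fin q → B)) (hσ : π.comp σ = LinearMap.id)

/-- The idempotent matrix of a retraction. -/
noncomputable def mat : Matrix (Fin q) (Fin q) B := Matrix.of fun i j => σ (π (Pi.single j 1)) i

include hσ in
theorem exists_fac (E : Type u) [CommRing E] [Algebra B E] [Module.Free E (E ⊗[B] M)] :
    ∃ f g, IsFac ((mat π σ).map (algebraMap B E)) f g := by
  obtain ⟨e⟩ := Module.Invertible.free_iff_linearEquiv.1 ‹Module.Free E (E ⊗[B] M)›
  let π' := π.baseChange E
  let σ' := σ.baseChange E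
  have hσ' : ∀ z, π' (σ' z) = z := fun z => by
    show (π.baseChange E) ((σ.baseChange E) z) = z
    rw [← LinearMap.comp_apply, ← LinearMap.baseChange_comp, hσ, LinearMap.baseChange_id, LinearMap.id_apply]
  let c := TensorProduct.piScalarRight B E E (Fin q)
  refine ⟨fun i => c (σ' (e.symm 1)) i, fun j => e (π' (1 ⊗ₜ Pi.single j 1)), fun i j => ?_, ?_⟩
  · have h1 : (1 : E) ⊗ₜ[B] π (Pi.single j 1) = e (π' (1 ⊗ₜ Pi.single j 1)) • e.symm 1 := by
      rw [← map_smul, smul_eq_mul, mul_one, LinearEquiv.symm_apply_apply]
      rfl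
    have h2 := congrArg (fun z => c (σ' z) i) h1
    simp only [map_smul, Pi.smul_apply, smul_eq_mul, σ', LinearMap.baseChange_tmul, c,
      TensorProduct.piScalarRight_apply, TensorProduct.piScalarRightHom_tmul] at h2
    rw [Matrix.map_apply, mul_comm]
    refine Eq.trans ?_ h2
    simp [mat, Algebra.smul_def]
  · have h1 : σ' (e.symm 1) = ∑ i, c (σ' (e.symm 1)) i • ((1 : E) ⊗ₜ[B] (Pi.single i 1 : Fin q → B)) := by
      refine c.injective ?_
      rw [map_sum]
      ext k
      rw [Finset.sum_apply, Finset.sum_eq_single k]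
      · simp [c]
      · intro i _ hik
        simp [c, Pi.single_apply, hik.symm]
      · simp
    have h2 := congrArg (fun z => e (π' z)) h1
    simp only [hσ', LinearEquiv.apply_symm_apply, map_sum, map_smul, smul_eq_mul] at h2
    refine Eq.trans ?_ h2.symm
    exact Finset.sum_congr rfl fun i _ => mul_comm _ _

include hσ in
theorem free_of_fac {f g : Fin q → B} (h : IsFac (mat π σ) f g) : Module.Free B M := by
  have hσπ : ∀ z : Fin q → B, ∀ i, σ (π z) i = f i * ∑ j, g j * z j := by
    intro z i
    have : z = ∑ j, z j • (Pi.single j 1 : Fin q → B) := by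
      ext k; simp [Pi.single_apply]
    conv_lhs => rw [this]
    simp only [map_sum, map_smul, Finset.sum_apply, Pi.smul_apply, smul_eq_mul, Finset.mul_sum]
    refine Finset.sum_congr rfl fun j _ => ?_
    rw [show σ (π (Pi.single j 1)) i = mat π σ i j from rfl, h.1]
    ring
  have hπσ : ∀ m, π (σ m) = m := fun m => LinearMap.congr_fun hσ m
  refine Module.Free.of_equiv (M := B)
    { toFun := fun c => c • π f
      invFun := fun m => ∑ i, g i * σ m i
      map_add' := fun a b => add_smul a b _
      map_smul' := fun a b => by rw [RingHom.id_apply, smul_eq_mul, mul_smul]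
      left_inv := fun c => by
        show ∑ i, g i * σ (c • π f) i = c
        conv_rhs => rw [← mul_one c, ← h.2, Finset.mul_sum]
        refine Finset.sum_congr rfl fun i _ => ?_
        rw [map_smul, Pi.smul_apply, smul_eq_mul, hσπ, h.2]
        ring
      right_inv := fun m => by
        conv_rhs => rw [← hπσ m]
        show (∑ i, g i * σ m i) • π f = π (σ m)
        rw [← map_smul]
        congr 1
        funext i
        rw [Pi.smul_apply, smul_eq_mul]
        have := hσπ (σ m) i
        rw [hπσ] at this
        rw [this]; ring }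


end Module

theorem isGCDMonoid_of_mulEquiv {α : Type u} {β : Type v} [CommMonoidWithZero α] [CommMonoidWithZero β]
    (e : α ≃* β) [h : IsGCDMonoid α] : IsGCDMonoid β := by
  haveI : IsCancelMulZero α := IsGCDMonoid.isCancelMulZero (h := h)
  haveI : IsCancelMulZero β := e.symm.injective.isCancelMulZero e.symm (map_zero _) (map_mul _)
  obtain ⟨g⟩ := h
  refine isGCDMonoid_iff_exists_gcd.mpr ⟨inferInstance, fun a b =>
    ⟨e (GCDMonoid.gcd (e.symm a) (e.symm b)), fun d => ?_⟩⟩
  rw [← map_dvd_iff e.symm (a := d) (b := a), ← map_dvd_iff e.symm (a := d) (b := b),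
    ← map_dvd_iff e.symm (a := d) (b := e _), MulEquiv.symm_apply_apply, ← dvd_gcd_iff]

theorem isGCDMonoid_mvPolynomial (D : Type u) [CommRing D] [IsDomain D] [IsGCDMonoid D] (n : ℕ) :
    IsGCDMonoid (MvPolynomial (Fin n) D) := by
  induction n with
  | zero => exact isGCDMonoid_of_mulEquiv (MvPolynomial.isEmptyAlgEquiv D (Fin 0)).symm.toMulEquiv
  | succ n ih => exact isGCDMonoid_of_mulEquiv (MvPolynomial.finSuccEquiv D n).symm.toMulEquiv

/-- Over a product of domains with trivial Picard groups of polynomial rings. -/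
theorem free_pi {ι : Type u} (R : ι → Type u) [∀ i, CommRing (R i)] [∀ i, IsDomain (R i)] (n : ℕ)
    (hpic : ∀ i, Subsingleton (CommRing.Pic (MvPolynomial (Fin n) (R i))))
    (M : Type u) [AddCommGroup M] [Module (MvPolynomial (Fin n) (∀ i, R i)) M]
    [Module.Invertible (MvPolynomial (Fin n) (∀ i, R i)) M] :
    Module.Free (MvPolynomial (Fin n) (∀ i, R i)) M := by
  classical
  obtain ⟨q, π, σ, -, -, hσ⟩ :=
    Module.Finite.exists_comp_eq_id_of_projective (MvPolynomial (Fin n) (∀ i, R i)) M
  let e := mat π σ
  let φ : ∀ i, MvPolynomial (Fin n) (∀ i, R i) →+* MvPolynomial (Fin n) (R i) :=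
    fun i => MvPolynomial.map (Pi.evalRingHom R i)
  have hfac : ∀ i, ∃ f g, IsFac (e.map (φ i)) f g := by
    intro i
    letI : Algebra (MvPolynomial (Fin n) (∀ i, R i)) (MvPolynomial (Fin n) (R i)) := (φ i).toAlgebra
    haveI := hpic i
    exact exists_fac π σ hσ (MvPolynomial (Fin n) (R i))
  choose f g hfg using hfac
  let D : ℕ := Finset.univ.sup fun a => Finset.univ.sup fun b => (e a b).totalDegree
  have hbound : ∀ (i : ι) (F G : Fin q → MvPolynomial (Fin n) (R i)),
      (∀ a b, (F a * G b).totalDegree ≤ D) → ∑ b, G b * F b = 1 → ∀ a, (F a).totalDegree ≤ D := by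
    intro i F G h1 h2 a
    by_cases hF : F a = 0
    · simp [hF]
    obtain ⟨b, hb⟩ : ∃ b, G b ≠ 0 := by
      by_contra h
      push Not at h
      simp [h] at h2
    have h3 := h1 a b
    rw [MvPolynomial.totalDegree_mul_of_isDomain hF hb] at h3
    omega
  have he : ∀ i a b, (φ i (e a b)).totalDegree ≤ D := fun i a b => by
    refine le_trans (Finset.sup_mono (MvPolynomial.support_map_subset _ _)) ?_
    exact (Finset.le_sup (f := fun b => (e a b).totalDegree) (Finset.mem_univ b)).trans
      (Finset.le_sup (f := fun a => Finset.univ.sup fun b => (e a b).totalDegree) (Finset.mem_univ a))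
  have hf : ∀ i a, (f i a).totalDegree ≤ D := fun i => hbound i (f i) (g i)
    (fun a b => by have := he i a b; rw [← (hfg i).1 a b]; exact this) (hfg i).2
  have hg : ∀ i a, (g i a).totalDegree ≤ D := fun i => hbound i (g i) (f i)
    (fun a b => by have := he i b a; rw [mul_comm, ← (hfg i).1 b a]; exact this)
    (by rw [← (hfg i).2]; exact Finset.sum_congr rfl fun b _ => mul_comm _ _)
  let S : Finset (Fin n →₀ ℕ) := Finset.Iic (Finsupp.equivFunOnFinite.symm fun _ => D)
  let glue : (∀ i, MvPolynomial (Fin n) (R i)) → MvPolynomial (Fin n) (∀ i, R i) :=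
    fun F => ∑ d ∈ S, MvPolynomial.monomial d fun i => MvPolynomial.coeff d (F i)
  have hglue : ∀ F : (∀ i, MvPolynomial (Fin n) (R i)), (∀ i, (F i).totalDegree ≤ D) →
      ∀ i, φ i (glue F) = F i := by
    intro F hF i
    ext d
    rw [MvPolynomial.coeff_map, show MvPolynomial.coeff d (glue F) =
      if d ∈ S then (fun i => MvPolynomial.coeff d (F i)) else 0 by
        simp [glue, MvPolynomial.coeff_sum, MvPolynomial.coeff_monomial]]
    split_ifs with hd
    · rfl
    · rw [map_zero]
      refine Classical.byContradiction fun hne => hd (Finset.mem_Iic.mpr fun k => ?_)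
      have h1 := MvPolynomial.le_totalDegree (MvPolynomial.mem_support_iff.mpr (Ne.symm hne))
      calc d k ≤ d.sum fun _ x => x := by
            by_cases hk : d k = 0
            · simp [hk]
            · exact Finset.single_le_sum (f := fun j => d j) (fun j _ => Nat.zero_le _)
                (Finsupp.mem_support_iff.mpr hk)
        _ ≤ D := h1.trans (hF i)
  have hext : ∀ a b : MvPolynomial (Fin n) (∀ i, R i), (∀ i, φ i a = φ i b) → a = b := fun a b h => by
    ext d i
    have := congrArg (MvPolynomial.coeff d) (h i)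
    simpa [φ, MvPolynomial.coeff_map] using this
  refine free_of_fac π σ hσ (f := fun a => glue fun i => f i a) (g := fun a => glue fun i => g i a)
    ⟨fun a b => hext _ _ fun i => ?_, hext _ _ fun i => ?_⟩
  · rw [map_mul, hglue _ (fun i => hf i a), hglue _ (fun i => hg i b)]
    exact (hfg i).1 a b
  · simp only [map_sum, map_mul, hglue _ (fun i => hf i _), hglue _ (fun i => hg i _), map_one]
    exact (hfg i).2

end Groth.Agent.H23Geom.RankOne
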