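import Mathlib
import Groth.Agent.H23Geom.ConstIntApp

/-!
Purely inseparable constant extensions have one place over each place.
-/

set_option autoImplicit false
set_option linter.unusedSectionVars false
set_option linter.style.haveILetI false

open scoped TensorProduct

namespace Groth.Agent.H23Geom

open Groth.Agent.H23FunFld Groth.Agent.H23Ext

variable {k k' K K' : Type*} [Field k] [Field k'] [Field K] [Field K'] [Algebra k k'] [FiniteDimensional k k']
  [Algebra k K] [Algebra K K'] [Algebra k' K'] [Algebra k K'] [IsScalarTower k k' K'] [IsScalarTower k K K']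

theorem isField_residue_tensor (hK : FunFld.IsFunctionField k K) (P : FunFld.Place k K)
    (hpi : IsPurelyInseparable k k' ∨ IsPurelyInseparable k (IsLocalRing.ResidueField P.O)) :
    IsField (IsLocalRing.ResidueField P.O ⊗[k] separableClosure k k') := by
  haveI : Module.Finite k (IsLocalRing.ResidueField P.O) := Module.finite_of_finrank_pos (deg_pos hK P)
  haveI := isReduced_of_separable k (IsLocalRing.ResidueField P.O) (separableClosure k k') (Or.inl inferInstance)
  haveI : Nontrivial (IsLocalRing.ResidueField P.O ⊗[k] separableClosure k k') :=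
    Algebra.TensorProduct.nontrivial_of_algebraMap_injective_of_isDomain k _ _ (algebraMap k _).injective
      (algebraMap k _).injective
  rcases hpi with hpi | hpi
  · refine isField_of_pow_mem (Field.toIsField (IsLocalRing.ResidueField P.O))
      (Algebra.TensorProduct.includeLeft (S := k) : IsLocalRing.ResidueField P.O →ₐ[k] IsLocalRing.ResidueField P.O ⊗[k] separableClosure k k').toRingHom
      fun r => ⟨1, one_ne_zero, ?_⟩
    rw [pow_one]
    induction r using TensorProduct.induction_on with
    | zero => exact ⟨0, map_zero _⟩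
    | tmul a l =>
      have hl : (l : k') ∈ (⊥ : IntermediateField k k') :=
        (separableClosure.eq_bot_of_isPurelyInseparable k k') ▸ l.2
      obtain ⟨c, hc⟩ := IntermediateField.mem_bot.1 hl
      refine ⟨c • a, ?_⟩
      change (c • a) ⊗ₜ[k] (1 : separableClosure k k') = a ⊗ₜ[k] l
      rw [TensorProduct.smul_tmul, Algebra.smul_def, mul_one]
      congr 1
      exact Subtype.ext hc
    | add a b ha hb =>
      obtain ⟨s, hs⟩ := ha
      obtain ⟨t, ht⟩ := hb
      exact ⟨s + t, by rw [map_add, hs, ht]⟩
  · set q := ringExpChar k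
    haveI : ExpChar k q := ringExpChar.expChar k
    haveI : ExpChar (IsLocalRing.ResidueField P.O ⊗[k] separableClosure k k') q :=
      expChar_of_injective_ringHom (algebraMap k _).injective q
    refine isField_of_pow_mem (Field.toIsField (separableClosure k k'))
      (Algebra.TensorProduct.includeRight : separableClosure k k' →ₐ[k] IsLocalRing.ResidueField P.O ⊗[k] separableClosure k k').toRingHom
      fun r => ?_
    suffices ∃ (n : ℕ) (s : separableClosure k k'), (1 : IsLocalRing.ResidueField P.O) ⊗ₜ[k] s = r ^ q ^ n by
      obtain ⟨n, s, hs⟩ := this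
      exact ⟨q ^ n, pow_ne_zero _ (expChar_pos k q).ne', s, hs⟩
    induction r using TensorProduct.induction_on with
    | zero => exact ⟨0, 0, by simp⟩
    | tmul a l =>
      obtain ⟨n, c, hc⟩ := IsPurelyInseparable.pow_mem k q a
      refine ⟨n, c • l ^ q ^ n, ?_⟩
      rw [Algebra.TensorProduct.tmul_pow, ← hc, ← TensorProduct.smul_tmul, Algebra.smul_def, mul_one]
    | add a b ha hb =>
      obtain ⟨m, s, hs⟩ := ha
      obtain ⟨n, t, ht⟩ := hb
      refine ⟨m + n, s ^ q ^ n + t ^ q ^ m, ?_⟩
      rw [add_pow_expChar_pow, TensorProduct.tmul_add]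
      congr 1
      · rw [pow_add, pow_mul, ← hs, Algebra.TensorProduct.tmul_pow, one_pow]
      · rw [add_comm m n, pow_add, pow_mul, ← ht, Algebra.TensorProduct.tmul_pow, one_pow]

variable (h : Function.Bijective (Algebra.TensorProduct.productMap
      (IsScalarTower.toAlgHom k k' K') (IsScalarTower.toAlgHom k K K')))
include h

theorem existsUnique_over (hK : FunFld.IsFunctionField k K) (P : FunFld.Place k K)
    (hpi : IsPurelyInseparable k k' ∨ IsPurelyInseparable k (IsLocalRing.ResidueField P.O)) :
    ∃! Q : FunFld.Place k K', FunFld.IsOver Q P := by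
  classical
  haveI := finiteDimensional_ext' h
  have hb := productMap_swap h
  obtain ⟨Q, hQ⟩ := exists_above (K' := K') hK P
  refine ⟨Q, hQ, fun Q' hQ' => ?_⟩
  by_contra hne
  letI : Algebra P.O K' := ((algebraMap K K').comp P.O.subtype).toAlgebra
  haveI : IsScalarTower P.O K K' := IsScalarTower.of_algebraMap_eq fun _ => rfl
  haveI : IsScalarTower k P.O K' := IsScalarTower.of_algebraMap_eq fun c => IsScalarTower.algebraMap_apply k K K' c
  set ks := separableClosure k k'
  let j : ks →ₐ[k] K' := (IsScalarTower.toAlgHom k k' K').comp ks.val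
  have hinj : Function.Injective (Algebra.TensorProduct.productMap (IsScalarTower.toAlgHom k K K') j) := by
    have e : Algebra.TensorProduct.productMap (IsScalarTower.toAlgHom k K K') j =
        (Algebra.TensorProduct.productMap (IsScalarTower.toAlgHom k K K') (IsScalarTower.toAlgHom k k' K')).comp
          (Algebra.TensorProduct.map (AlgHom.id k K) ks.val) := by
      refine Algebra.TensorProduct.ext' fun a b => ?_
      simp [j]
    rw [e]
    exact hb.1.comp (Module.Flat.lTensor_preserves_injective_linearMap (M := K) ks.val.toLinearMap Subtype.val_injective)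
  have hfield := isField_residue_tensor (k' := k') hK P hpi
  haveI : IsReduced (IsLocalRing.ResidueField P.O ⊗[k] ks) := by
    haveI : Module.Finite k (IsLocalRing.ResidueField P.O) := Module.finite_of_finrank_pos (deg_pos hK P)
    exact isReduced_of_separable k (IsLocalRing.ResidueField P.O) ks (Or.inl inferInstance)
  -- a separating integral element
  set S := (finite_isOver (K' := K') hK P).toFinset
  have hS : ∀ R, R ∈ S ↔ FunFld.IsOver R P := fun R => Set.Finite.mem_toFinset _
  obtain ⟨z, hz⟩ := approximation S (fun R => if R = Q then 1 else 0) (fun _ => -1)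
  have hlt : (WithZero.exp (-1 : ℤ)) < 1 := by rw [← WithZero.exp_zero, WithZero.exp_lt_exp]; omega
  have hzQ : Q.1 z = 1 := by
    have h1 := (hz Q ((hS Q).2 hQ)).trans_lt hlt
    rw [if_pos rfl] at h1
    have := Q.1.map_one_add_of_lt h1
    rwa [add_sub_cancel] at this
  have hzoff : ∀ R : FunFld.Place k K', FunFld.IsOver R P → R ≠ Q → R.1 z < 1 := by
    intro R hR hne'
    have h1 := (hz R ((hS R).2 hR)).trans_lt hlt
    rwa [if_neg hne', sub_zero] at h1
  -- a power lies in `K ⊗ ks`
  set q := ringExpChar k
  haveI : ExpChar k q := ringExpChar.expChar k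
  haveI : ExpChar K' q := expChar_of_injective_ringHom (algebraMap k K').injective q
  obtain ⟨n, hn⟩ : ∃ n : ℕ, z ^ q ^ n ∈ (Algebra.TensorProduct.productMap (IsScalarTower.toAlgHom k K K') j).range := by
    obtain ⟨w, hw⟩ := hb.2 z
    rw [← hw]
    clear hw
    induction w using TensorProduct.induction_on with
    | zero => exact ⟨0, 0, by simp⟩
    | tmul a l =>
      obtain ⟨n, c, hc⟩ := IsPurelyInseparable.pow_mem ks q l
      refine ⟨n, (a ^ q ^ n) ⊗ₜ c, ?_⟩
      change algebraMap ks k' c = _ at hc
      simp only [Algebra.TensorProduct.productMap_apply_tmul, mul_pow, AlgHom.toRingHom_eq_coe, RingHom.coe_coe,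
        IsScalarTower.coe_toAlgHom', j, AlgHom.comp_apply]
      rw [map_pow, ← map_pow (algebraMap k' K') l, ← hc]
      rfl
    | add a b ha hb' =>
      obtain ⟨m, hm⟩ := ha
      obtain ⟨n, hn⟩ := hb'
      refine ⟨m + n, ?_⟩
      rw [map_add, add_pow_expChar_pow]
      refine add_mem ?_ ?_
      · rw [pow_add, pow_mul]; exact _root_.pow_mem hm _
      · rw [add_comm m n, pow_add, pow_mul]; exact _root_.pow_mem hn _
  have hq : q ^ n ≠ 0 := pow_ne_zero _ (expChar_pos k q).ne'
  have hint : IsIntegral P.O (z ^ q ^ n) := by
    refine (mem_integralClosure_iff hK P).2 fun R hR => ?_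
    rw [map_pow]
    refine pow_le_one' ?_ _
    rcases eq_or_ne R Q with rfl | hne'
    · exact hzQ.le
    · exact (hzoff R hR hne').le
  obtain ⟨t, ht⟩ := integral_mem_range (P := P) j hinj hn hint
  rcases eq_or_ne (psi P t) 0 with h0 | h0
  · have := val_iota_lt_one j hQ h0
    rw [ht, map_pow, hzQ, one_pow] at this
    exact lt_irrefl _ this
  · have := val_iota_eq_one j hQ' (isUnit_iff_exists_inv.2 (hfield.mul_inv_cancel h0))
    rw [ht, map_pow] at this
    exact (pow_lt_one₀ zero_le (hzoff Q' hQ' hne) hq).ne this

end Groth.Agent.H23Geom
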